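import Cfsg.Agent.Lib.J2Type.AltFive

/-!
# Centralizers in the symmetric group of degree five
-/

set_option autoImplicit false
set_option maxRecDepth 4000

namespace CfsgLib.J2Type

local notation "A5" => alternatingGroup (Fin 5)

theorem alt_center : ∀ a : A5, (∀ b : A5, a * b = b * a) → a = 1 := by decide +kernel

set_option synthInstance.maxSize 2000 in
set_option synthInstance.maxHeartbeats 100000 in
theorem alt_four_cent : ∀ a : A5, a * a = 1 → a ≠ 1 → ∀ b : A5, b * b = 1 → b ≠ 1 → a ≠ b → a * b = b * a →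
    ∀ σ : Equiv.Perm (Fin 5), σ * (a : Equiv.Perm (Fin 5)) = (a : Equiv.Perm (Fin 5)) * σ →
      σ * (b : Equiv.Perm (Fin 5)) = (b : Equiv.Perm (Fin 5)) * σ →
      σ = 1 ∨ σ = (a : Equiv.Perm (Fin 5)) ∨ σ = (b : Equiv.Perm (Fin 5)) ∨
        σ = ((a * b : A5) : Equiv.Perm (Fin 5)) := by
  decide +kernel

end CfsgLib.J2Type
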