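import Cfsg.Agent.Lib.InvChar.J2Order.AltFive

/-!
# Finite facts about the alternating group of degree five used for groups of Hall-Janko type
-/

set_option autoImplicit false
set_option maxRecDepth 4000

namespace CfsgLib.J2Type

local notation "A5" => alternatingGroup (Fin 5)

theorem alt_sq_sq : ∀ a : A5, a * a * (a * a) = 1 → a * a = 1 := by decide +kernel

theorem alt_invol_conj : ∀ a b : A5, a * a = 1 → a ≠ 1 → b * b = 1 → b ≠ 1 →
    ∃ g : A5, g * a * g⁻¹ = b := by decide +kernel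

theorem alt_five : ∀ a : A5, a * a = 1 → a ≠ 1 →
    ∃ g : A5, (a * (g * a * g⁻¹)) ^ 5 = 1 ∧ a * (g * a * g⁻¹) ≠ 1 := by decide +kernel

theorem alt_norm : ∀ a : A5, a * a = 1 → a ≠ 1 →
    (Finset.univ.filter fun g : A5 => g * a * g⁻¹ * a = a * (g * a * g⁻¹)).card = 12 := by
  decide +kernel

theorem alt_norm_invol : ∀ a : A5, a * a = 1 → a ≠ 1 → ∀ m : A5, m * m = 1 →
    m * a * m⁻¹ * a = a * (m * a * m⁻¹) → m * a = a * m := by decide +kernel

end CfsgLib.J2Type
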