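import Cfsg.Agent.Lib.J2Type.AltFive
import Cfsg.Agent.Lib.Invol.Dihedral
import Mathlib.GroupTheory.Sylow
import Mathlib.Tactic

/-!
# A centralizer `2^{1+4}.A₅` with the involution not weakly closed: the extraspecial group
-/

set_option autoImplicit false
set_option linter.style.haveILetI false

namespace CfsgLib.J2Type

universe u

variable {G : Type u} [Group G] [Finite G]

/-- The data on `C(z)`. -/
structure Hyp (z : G) (Q : Subgroup G)
    (f : ↥(Subgroup.centralizer ({z} : Set G)) →* alternatingGroup (Fin 5)) : Prop where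
  hz : orderOf z = 2
  hQle : Q ≤ Subgroup.centralizer ({z} : Set G)
  hker : ∀ h, f h = 1 ↔ (h : G) ∈ Q
  hsurj : Function.Surjective f
  hQ : Nat.card Q = 32
  hzQ : z ∈ Q
  hsq : ∀ q ∈ Q, q * q = 1 ∨ q * q = z
  hcomm : ∀ p ∈ Q, ∀ q ∈ Q, p * q = q * p ∨ p * q = q * p * z
  hcent : ∀ p ∈ Q, (∀ q ∈ Q, p * q = q * p) → p = 1 ∨ p = z
  hfaith : ∀ h : ↥(Subgroup.centralizer ({z} : Set G)), (∀ q ∈ Q, Commute (h : G) q) → (h : G) ∈ Q
  hnwc : ∃ u ∈ Q, u ≠ z ∧ IsConj z u

omit [Finite G] in
theorem mem_cent {x g : G} : g ∈ Subgroup.centralizer ({x} : Set G) ↔ Commute g x :=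
  Subgroup.mem_centralizer_singleton_iff

omit [Finite G] in
theorem conj_mul_self {g x : G} (hx : x * x = 1) : g * x * g⁻¹ * (g * x * g⁻¹) = 1 := by
  rw [show g * x * g⁻¹ * (g * x * g⁻¹) = g * (x * x) * g⁻¹ by group, hx]; group

omit [Finite G] in
theorem orderOf_of_isConj {a v : G} (h : IsConj a v) : orderOf a = orderOf v := by
  obtain ⟨c, rfl⟩ := isConj_iff.1 h
  exact (CfsgLib.Invol.orderOf_conj c a).symm

namespace Hyp

variable {z : G} {Q : Subgroup G} {f : ↥(Subgroup.centralizer ({z} : Set G)) →* alternatingGroup (Fin 5)}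
  (h : Hyp z Q f)
include h

omit [Finite G] in
theorem zz : z * z = 1 := CfsgLib.Invol.mul_self_eq_one h.hz

omit [Finite G] in
theorem z_ne : z ≠ 1 := fun e => by
  have := h.hz; rw [e, orderOf_one] at this; omega

omit [Finite G] in
theorem z_inv : z⁻¹ = z := inv_eq_of_mul_eq_one_left h.zz

omit [Finite G] in
theorem comm_z {q : G} (hq : q ∈ Q) : Commute q z := mem_cent.1 (h.hQle hq)

omit [Finite G] in
theorem conj_mem {g q : G} (hg : Commute g z) (hq : q ∈ Q) : g * q * g⁻¹ ∈ Q :=
  (h.hker (⟨g, mem_cent.2 hg⟩ * ⟨q, h.hQle hq⟩ * ⟨g, mem_cent.2 hg⟩⁻¹)).1 (by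
    rw [map_mul, map_mul, (h.hker ⟨q, h.hQle hq⟩).2 hq, mul_one, map_inv, mul_inv_cancel])

omit [Finite G] in
theorem conj_cases {p q : G} (hp : p ∈ Q) (hq : q ∈ Q) : p * q * p⁻¹ = q ∨ p * q * p⁻¹ = q * z := by
  rcases h.hcomm p hp q hq with e | e
  · left; rw [e]; group
  · right
    rw [e, mul_assoc (q * p) z p⁻¹, ((h.comm_z hp).symm.inv_right).eq]
    group

omit [Finite G] in
theorem conj_of_not_comm {p q : G} (hp : p ∈ Q) (hq : q ∈ Q) (hne : ¬ Commute p q) :
    p * q * p⁻¹ = q * z :=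
  (h.conj_cases hp hq).resolve_left fun e => hne (mul_inv_eq_iff_eq_mul.1 e)

omit [Finite G] in
theorem mul_z_invol {u : G} (hu : u ∈ Q) (huu : u * u = 1) : u * z * (u * z) = 1 := by
  rw [show u * z * (u * z) = u * (z * u) * z by group, ← (h.comm_z hu).eq,
    show u * (u * z) * z = (u * u) * (z * z) by group, huu, h.zz, mul_one]

omit [Finite G] in
theorem pow_four {q : G} (hq : q ∈ Q) : q ^ 4 = 1 := by
  rcases h.hsq q hq with e | e
  · rw [show 4 = 2 * 2 by norm_num, pow_mul, sq, sq, e, one_mul]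
  · rw [show 4 = 2 * 2 by norm_num, pow_mul, sq, sq, e, h.zz]

/-- The centralizer in `Q` of a noncentral element has index two. -/
theorem card_cent {u : G} (hu : u ∈ Q) (hu1 : u ≠ 1) (huz : u ≠ z) :
    Nat.card (Q ⊓ Subgroup.centralizer ({u} : Set G) : Subgroup G) = 16 := by
  classical
  set X := Q ⊓ Subgroup.centralizer ({u} : Set G) with hX
  obtain ⟨w, hw, hwu⟩ : ∃ w ∈ Q, ¬ w * u = u * w := by
    by_contra! hall
    rcases h.hcent u hu (fun q hq => (hall q hq).symm) with e | e
    · exact hu1 e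
    · exact huz e
  let φ : Q → X × Bool := fun q =>
    if hc : Commute (q : G) u then (⟨q, q.2, mem_cent.2 hc⟩, true)
    else (⟨(q : G) * w, Q.mul_mem q.2 hw, mem_cent.2 (by
      have e1 := h.conj_of_not_comm q.2 hu hc
      have e2 := h.conj_of_not_comm hw hu hwu
      have e3 : (q : G) * w * u * ((q : G) * w)⁻¹ = u := by
        calc (q : G) * w * u * ((q : G) * w)⁻¹ = (q : G) * (w * u * w⁻¹) * (q : G)⁻¹ := by group
          _ = (q : G) * (u * z) * (q : G)⁻¹ := by rw [e2]
          _ = ((q : G) * u * (q : G)⁻¹) * ((q : G) * z * (q : G)⁻¹) := by group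
          _ = u * z * z := by rw [e1, (h.comm_z q.2).eq]; group
          _ = u := by rw [mul_assoc, h.zz, mul_one]
      exact mul_inv_eq_iff_eq_mul.1 e3)⟩, false)
  have hb : Function.Bijective φ := by
    constructor
    · intro p q hpq
      by_cases hp : Commute (p : G) u <;> by_cases hq : Commute (q : G) u <;>
        simp only [φ, hp, hq, dite_true, dite_false, Prod.mk.injEq] at hpq
      · exact Subtype.ext (congrArg Subtype.val hpq.1 :)
      · exact absurd hpq.2 (by simp)
      · exact absurd hpq.2 (by simp)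
      · exact Subtype.ext (mul_right_cancel (congrArg Subtype.val hpq.1 :))
    · rintro ⟨⟨x, hx⟩, b⟩
      have hxu : Commute x u := mem_cent.1 hx.2
      cases b
      · refine ⟨⟨x * w⁻¹, Q.mul_mem hx.1 (Q.inv_mem hw)⟩, ?_⟩
        have hn : ¬ Commute (x * w⁻¹) u := fun hc => hwu (by
          have := (hc.inv_left.mul_left hxu)
          rw [show (x * w⁻¹)⁻¹ * x = w by group] at this
          exact this.eq)
        simp only [φ, dif_neg hn, Prod.mk.injEq, and_true]
        exact Subtype.ext (by simp)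
      · refine ⟨⟨x, hx.1⟩, ?_⟩
        simp only [φ, dif_pos hxu]
  have := Nat.card_eq_of_bijective φ hb
  rw [h.hQ, Nat.card_prod, Nat.card_eq_fintype_card (α := Bool), Fintype.card_bool] at this
  omega

/-- An element of order five modulo `Q` fixes only `1`, `z` modulo `⟨z⟩`. -/
theorem fix_five {e : G} (he : Commute e z) (h1 : f ⟨e, mem_cent.2 he⟩ ≠ 1)
    (h5 : f ⟨e, mem_cent.2 he⟩ ^ 5 = 1) {q : G} (hq : q ∈ Q)
    (hfix : e * q * e⁻¹ = q ∨ e * q * e⁻¹ = q * z) : q = 1 ∨ q = z := by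
  classical
  set E : ↥(Subgroup.centralizer ({z} : Set G)) := ⟨e, mem_cent.2 he⟩ with hE
  have he5 : e ^ 5 ∈ Q := by
    have := (h.hker (E ^ 5)).1 (by rw [map_pow]; exact h5)
    rwa [SubmonoidClass.coe_pow] at this
  have he20 : (e ^ 4) ^ 5 = 1 := by
    rw [← pow_mul, show 4 * 5 = 5 * 4 by norm_num, pow_mul]
    exact h.pow_four he5
  set y := e ^ 4 with hy
  have hyz : Commute y z := he.pow_left 4
  have hfy : f ⟨y, mem_cent.2 hyz⟩ ≠ 1 := by
    rw [show (⟨y, mem_cent.2 hyz⟩ : ↥(Subgroup.centralizer ({z} : Set G))) = E ^ 4 from Subtype.ext rfl,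
      map_pow]
    intro h4
    refine h1 ?_
    have := h5
    rwa [pow_succ, h4, one_mul] at this
  have hyq : Commute y q := by
    have h2 : Commute (e * e) q := by
      refine mul_inv_eq_iff_eq_mul.1 ?_
      rcases hfix with hh | hh
      · calc e * e * q * (e * e)⁻¹ = e * (e * q * e⁻¹) * e⁻¹ := by group
          _ = q := by rw [hh, hh]
      · calc e * e * q * (e * e)⁻¹ = e * (e * q * e⁻¹) * e⁻¹ := by group
          _ = e * (q * z) * e⁻¹ := by rw [hh]
          _ = (e * q * e⁻¹) * (e * z * e⁻¹) := by group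
          _ = q * z * z := by rw [hh, he.eq, mul_inv_cancel_right]
          _ = q := by rw [mul_assoc, h.zz, mul_one]
    rw [hy, show e ^ 4 = (e * e) * (e * e) by simp [pow_succ, mul_assoc]]
    exact h2.mul_left h2
  -- the fixed points of `y`
  set Cy := Q ⊓ Subgroup.centralizer ({y} : Set G) with hCy
  have hqC : q ∈ Cy := ⟨hq, mem_cent.2 hyq.symm⟩
  have hzC : z ∈ Cy := ⟨h.hzQ, mem_cent.2 hyz.symm⟩
  haveI : Fact (Nat.Prime 5) := ⟨by norm_num⟩
  let Y := Subgroup.zpowers y
  have hY5 : IsPGroup 5 Y := by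
    intro g
    refine ⟨1, Subtype.ext ?_⟩
    obtain ⟨i, hi⟩ := Subgroup.mem_zpowers_iff.1 g.2
    rw [pow_one, SubmonoidClass.coe_pow, ← hi, ← zpow_natCast, ← zpow_mul, mul_comm, zpow_mul,
      zpow_natCast, he20, one_zpow, OneMemClass.coe_one]
  have hYC : ∀ g : Y, Commute (g : G) z := fun g => by
    obtain ⟨i, hi⟩ := Subgroup.mem_zpowers_iff.1 g.2
    rw [← hi]; exact hyz.zpow_left i
  letI actQ : MulAction Y Q :=
    { smul := fun g q => ⟨(g : G) * (q : G) * (g : G)⁻¹, h.conj_mem (hYC g) q.2⟩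
      one_smul := fun q => Subtype.ext (by
        show ((1 : Y) : G) * q.1 * ((1 : Y) : G)⁻¹ = q.1
        simp)
      mul_smul := fun g k q => Subtype.ext (by
        show ((g * k : Y) : G) * q.1 * ((g * k : Y) : G)⁻¹ = (g : G) * ((k : G) * q.1 * (k : G)⁻¹) * (g : G)⁻¹
        rw [Subgroup.coe_mul]; group) }
  haveI := Fintype.ofFinite Q
  have hm2 := hY5.card_modEq_card_fixedPoints Q
  have hfixc : Nat.card (MulAction.fixedPoints Y Q) = Nat.card Cy := by
    refine Nat.card_congr
      { toFun := fun q => ⟨(q.1 : G), q.1.2, mem_cent.2 ?_⟩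
        invFun := fun q => ⟨⟨q.1, q.2.1⟩, fun g => Subtype.ext ?_⟩
        left_inv := fun q => rfl
        right_inv := fun q => rfl }
    · have := congrArg Subtype.val (q.2 ⟨y, Subgroup.mem_zpowers y⟩)
      change y * (q.1 : G) * y⁻¹ = q.1 at this
      exact (mul_inv_eq_iff_eq_mul.1 this).symm
    · show (g : G) * q.1 * (g : G)⁻¹ = q.1
      obtain ⟨i, hi⟩ := Subgroup.mem_zpowers_iff.1 g.2
      rw [← hi, mul_inv_eq_iff_eq_mul]
      have hcom : Commute y q.1 := (mem_cent.1 q.2.2).symm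
      exact (hcom.zpow_left i).eq
  rw [hfixc, h.hQ] at hm2
  have hd : Nat.card Cy ∣ 32 := h.hQ ▸ Subgroup.card_dvd_of_le inf_le_left
  obtain ⟨k, hk, hk'⟩ := (Nat.dvd_prime_pow Nat.prime_two).1 (show _ ∣ 2 ^ 5 from hd)
  have hm3 : 32 % 5 = Nat.card Cy % 5 := hm2
  rw [hk'] at hm3
  interval_cases k <;> norm_num at hm3
  · by_contra! hne
    have hsub : ({1, z, q} : Set G) ⊆ (Cy : Set G) := by
      rintro a (rfl | rfl | rfl)
      exacts [Cy.one_mem, hzC, hqC]
    have h3 : ({1, z, q} : Set G).ncard = 3 := by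
      rw [Set.ncard_insert_of_notMem (by simp [h.z_ne.symm, Ne.symm hne.1]),
        Set.ncard_pair (Ne.symm hne.2)]
    have h2 := Set.ncard_le_ncard hsub
    rw [h3, ← Nat.card_coe_set_eq] at h2
    have : Nat.card (Cy : Set G) = 2 ^ 1 := hk'
    omega
  · exfalso
    have hall : Cy = Q := Subgroup.eq_of_le_of_card_ge inf_le_left (by rw [hk', h.hQ]; norm_num)
    exact hfy ((h.hker _).2 (h.hfaith ⟨y, mem_cent.2 hyz⟩ fun q hq =>
      (mem_cent.1 (hall.ge hq).2).symm))

/-- There is an element of order five modulo `Q`. -/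
theorem exists_five : ∃ e : G, ∃ he : Commute e z,
    f ⟨e, mem_cent.2 he⟩ ≠ 1 ∧ f ⟨e, mem_cent.2 he⟩ ^ 5 = 1 := by
  obtain ⟨a, ha, ha1⟩ : ∃ a : alternatingGroup (Fin 5), a * a = 1 ∧ a ≠ 1 := by
    obtain ⟨a, ha⟩ := Finset.card_pos.1 (by rw [InvChar.J2Order.alt_card_invol]; norm_num :
      0 < (Finset.univ.filter fun a : alternatingGroup (Fin 5) => a * a = 1 ∧ a ≠ 1).card)
    exact ⟨a, (Finset.mem_filter.1 ha).2⟩
  obtain ⟨g, hg5, hg1⟩ := alt_five a ha ha1
  obtain ⟨⟨e, he⟩, hfe⟩ := h.hsurj (a * (g * a * g⁻¹))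
  exact ⟨e, mem_cent.1 he, by rw [hfe]; exact hg1, by rw [hfe]; exact hg5⟩

/-- Elements of `Q` whose images modulo `⟨z⟩` are fixed by `v`. -/
def fixMod {v : G} (hv : Commute v z) : Subgroup G where
  carrier := {q | q ∈ Q ∧ (v * q * v⁻¹ = q ∨ v * q * v⁻¹ = q * z)}
  one_mem' := ⟨Q.one_mem, Or.inl (by group)⟩
  mul_mem' := by
    rintro p q ⟨hp, hp'⟩ ⟨hq, hq'⟩
    refine ⟨Q.mul_mem hp hq, ?_⟩
    rw [show v * (p * q) * v⁻¹ = (v * p * v⁻¹) * (v * q * v⁻¹) by group]
    rcases hp' with e | e <;> rcases hq' with e' | e' <;> rw [e, e']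
    · exact Or.inl rfl
    · exact Or.inr (mul_assoc _ _ _).symm
    · right; rw [mul_assoc p z q, ← (h.comm_z hq).eq, mul_assoc]
    · left
      rw [show p * z * (q * z) = p * (z * q) * z by group, ← (h.comm_z hq).eq,
        show p * (q * z) * z = p * q * (z * z) by group, h.zz, mul_one]
  inv_mem' := by
    rintro p ⟨hp, hp'⟩
    refine ⟨Q.inv_mem hp, ?_⟩
    rw [show v * p⁻¹ * v⁻¹ = (v * p * v⁻¹)⁻¹ by group]
    rcases hp' with e | e <;> rw [e]
    · exact Or.inl rfl
    · right; rw [mul_inv_rev, h.z_inv, ← (h.comm_z (Q.inv_mem hp)).eq]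

theorem card_fixMod_le {v : G} (hv : Commute v z) (ha : f ⟨v, mem_cent.2 hv⟩ * f ⟨v, mem_cent.2 hv⟩ = 1)
    (ha1 : f ⟨v, mem_cent.2 hv⟩ ≠ 1) : Nat.card (h.fixMod hv) ≤ 8 := by
  obtain ⟨g, hg5, hg1⟩ := alt_five _ ha ha1
  obtain ⟨⟨k, hk⟩, hfk⟩ := h.hsurj g
  have hkz : Commute k z := mem_cent.1 hk
  set b := k * v * k⁻¹ with hb
  have hbz : Commute b z := (hkz.mul_left hv).mul_left hkz.inv_left
  have hez : Commute (v * b) z := hv.mul_left hbz
  have hfe : f ⟨v * b, mem_cent.2 hez⟩ =
      f ⟨v, mem_cent.2 hv⟩ * (g * f ⟨v, mem_cent.2 hv⟩ * g⁻¹) := by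
    rw [← hfk, ← map_inv, ← map_mul, ← map_mul, ← map_mul]
    rfl
  set A := h.fixMod hv
  set B := h.fixMod hbz
  have hAB : (A ⊓ B : Subgroup G) ≤ (Subgroup.zpowers z) := by
    rintro q ⟨⟨hqQ, h1⟩, -, h2⟩
    have : q = 1 ∨ q = z := by
      refine h.fix_five hez (by rw [hfe]; exact hg1) (by rw [hfe]; exact hg5) hqQ ?_
      rw [show v * b * q * (v * b)⁻¹ = v * (b * q * b⁻¹) * v⁻¹ by group]
      rcases h2 with e | e <;> rw [e]
      · exact h1
      · rw [show v * (q * z) * v⁻¹ = (v * q * v⁻¹) * (v * z * v⁻¹) by group, hv.eq,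
          mul_inv_cancel_right]
        rcases h1 with e' | e' <;> rw [e']
        · exact Or.inr rfl
        · exact Or.inl (by rw [mul_assoc, h.zz, mul_one])
    rcases this with rfl | rfl
    · exact Subgroup.one_mem _
    · exact Subgroup.mem_zpowers _
  have hcard : Nat.card A = Nat.card B := by
    refine Nat.card_congr
      { toFun := fun q => ⟨k * q.1 * k⁻¹, h.conj_mem hkz q.2.1, ?_⟩
        invFun := fun q => ⟨k⁻¹ * q.1 * k, by
          have := h.conj_mem hkz.inv_left q.2.1
          rwa [inv_inv] at this, ?_⟩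
        left_inv := fun q => Subtype.ext (by group)
        right_inv := fun q => Subtype.ext (by group) }
    · rcases q.2.2 with e | e
      · left
        calc b * (k * q.1 * k⁻¹) * b⁻¹ = k * (v * q.1 * v⁻¹) * k⁻¹ := by rw [hb]; group
          _ = _ := by rw [e]
      · right
        calc b * (k * q.1 * k⁻¹) * b⁻¹ = k * (v * q.1 * v⁻¹) * k⁻¹ := by rw [hb]; group
          _ = k * q.1 * k⁻¹ * (k * z * k⁻¹) := by rw [e]; group
          _ = _ := by rw [hkz.eq, mul_inv_cancel_right]
    · have e0 : v * (k⁻¹ * q.1 * k) * v⁻¹ = k⁻¹ * (b * q.1 * b⁻¹) * k := by rw [hb]; group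
      rcases q.2.2 with e | e
      · left; rw [e0, e]
      · right
        rw [e0, e, show k⁻¹ * (q.1 * z) * k = k⁻¹ * q.1 * k * (k⁻¹ * z * k) by group,
          hkz.inv_left.eq, inv_mul_cancel_right]
  have hBQ : B ≤ Q := fun q hq => hq.1
  have hAQ : A ≤ Q := fun q hq => hq.1
  have h1 : A.relIndex B ≤ A.relIndex Q :=
    Subgroup.relIndex_le_of_le_right hBQ Subgroup.FiniteIndex.index_ne_zero
  have hmulc : ∀ K H : Subgroup G, K ≤ H → Nat.card K * K.relIndex H = Nat.card H := fun K H hKH => by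
    have := Subgroup.relIndex_mul_relIndex ⊥ K H bot_le hKH
    rwa [Subgroup.relIndex_bot_left, Subgroup.relIndex_bot_left] at this
  have h2 : Nat.card (A ⊓ B : Subgroup G) * A.relIndex B = Nat.card B := by
    rw [← Subgroup.inf_relIndex_right]; exact hmulc _ _ inf_le_right
  have h3 : Nat.card A * A.relIndex Q = 32 := by
    rw [← h.hQ]; exact hmulc _ _ hAQ
  have h4 : Nat.card (A ⊓ B : Subgroup G) ≤ 2 := by
    refine (Subgroup.card_le_of_le hAB).trans ?_
    rw [Nat.card_zpowers, h.hz]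
  nlinarith [Nat.zero_le (A.relIndex B)]

omit [Finite G] in
/-- A noncentral involution of `Q` commutes with exactly four involutions of `Q` modulo counting. -/
theorem not_comm_exists {u : G} (hu : u ∈ Q) (hu1 : u ≠ 1) (huz : u ≠ z) :
    ∃ w ∈ Q, ¬ Commute w u := by
  by_contra! hall
  rcases h.hcent u hu (fun q hq => (hall q hq).eq.symm) with e | e
  · exact hu1 e
  · exact huz e

/-- The involutions of `Q`: exactly twelve square roots of one, four in the centralizer of a noncentral one. -/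
theorem invol_count : Nat.card {q : G // q ∈ Q ∧ q * q = 1} = 12 ∧
    ∀ u ∈ Q, u * u = 1 → u ≠ 1 → u ≠ z → ∀ q ∈ Q, q * q = 1 → Commute u q →
      q = 1 ∨ q = z ∨ q = u ∨ q = u * z := by
  classical
  haveI := Fintype.ofFinite G
  set I := Finset.univ.filter fun q : G => q ∈ Q ∧ q * q = 1 with hI
  have hIcard : Nat.card {q : G // q ∈ Q ∧ q * q = 1} = I.card := by
    rw [Nat.card_eq_fintype_card, Fintype.card_subtype]
  have hz1 := h.z_ne
  have hQf : (Finset.univ.filter fun q : G => q ∈ Q).card = 32 := by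
    rw [← h.hQ, Nat.card_eq_fintype_card, Fintype.card_subtype]
  -- the involutions outside the centralizer
  have hsplit : ∀ u ∈ Q, u * u = 1 → u ≠ 1 → u ≠ z →
      (I.filter fun q => q * u = u * q).card + 8 = I.card := by
    intro u hu huu hu1 huz
    set X := Q ⊓ Subgroup.centralizer ({u} : Set G) with hX
    have hX16 := h.card_cent hu hu1 huz
    set P := Finset.univ.filter (fun q : G => q ∈ Q ∧ ¬ q * u = u * q) with hP
    have hP16 : P.card = 16 := by
      have h1 := Finset.card_filter_add_card_filter_not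
        (s := Finset.univ.filter fun q : G => q ∈ Q) (fun q => q * u = u * q)
      rw [Finset.filter_filter, Finset.filter_filter, hQf] at h1
      have h2 : (Finset.univ.filter fun q : G => q ∈ Q ∧ q * u = u * q).card = 16 := by
        rw [← hX16, Nat.card_eq_fintype_card, ← Fintype.card_subtype]
        exact Fintype.card_congr (Equiv.subtypeEquivRight fun q =>
          ⟨fun hq => ⟨hq.1, mem_cent.2 hq.2⟩, fun hq => ⟨hq.1, (mem_cent.1 hq.2).eq⟩⟩)
      change (Finset.univ.filter fun q : G => q ∈ Q ∧ q * u = u * q).card + P.card = 32 at h1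
      omega
    have hPsq : ∀ q ∈ P, (q * u * (q * u) = 1 ↔ ¬ q * q = 1) := by
      intro q hq
      obtain ⟨hqQ, hqu⟩ := (Finset.mem_filter.1 hq).2
      have h2 : q * u = u * q * z := (h.hcomm q hqQ u hu).resolve_left hqu
      have h3 : q * u * (q * u) = q * q * z := by
        calc q * u * (q * u) = q * u * (u * q * z) := by rw [← h2]
          _ = q * (u * u) * q * z := by group
          _ = q * q * z := by rw [huu]; group
      rw [h3]
      rcases h.hsq q hqQ with e | e
      · rw [e, one_mul]; simp [hz1]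
      · rw [e, h.zz]; simp [hz1]
    have hmemP : ∀ q ∈ P, q * u ∈ P := by
      intro q hq
      obtain ⟨hqQ, hqu⟩ := (Finset.mem_filter.1 hq).2
      refine Finset.mem_filter.2 ⟨Finset.mem_univ _, Q.mul_mem hqQ hu, fun hh => hqu ?_⟩
      rw [← mul_assoc] at hh
      exact mul_right_cancel hh
    have hP8 : (P.filter fun q => q * q = 1).card = 8 := by
      have hb : (P.filter fun q => q * q = 1).card = (P.filter fun q => ¬ q * q = 1).card := by
        refine Finset.card_bij' (fun q _ => q * u) (fun q _ => q * u) ?_ ?_ ?_ ?_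
        · intro q hq
          obtain ⟨hqP, hq2⟩ := Finset.mem_filter.1 hq
          exact Finset.mem_filter.2 ⟨hmemP q hqP, fun hh => (hPsq q hqP).1 hh hq2⟩
        · intro q hq
          obtain ⟨hqP, hq2⟩ := Finset.mem_filter.1 hq
          exact Finset.mem_filter.2 ⟨hmemP q hqP, (hPsq q hqP).2 hq2⟩
        · intro q _; simp [mul_assoc, huu]
        · intro q _; simp [mul_assoc, huu]
      have := Finset.card_filter_add_card_filter_not (s := P) (fun q => q * q = 1)
      omega
    have := Finset.card_filter_add_card_filter_not (s := I) (fun q => q * u = u * q)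
    have he : I.filter (fun q => ¬ q * u = u * q) = P.filter fun q => q * q = 1 := by
      ext q; simp only [hI, hP, Finset.mem_filter, Finset.mem_univ, true_and]; tauto
    rw [he, hP8] at this
    exact this
  have hfour : ∀ u ∈ Q, u * u = 1 → u ≠ 1 → u ≠ z →
      ({1, z, u, u * z} : Finset G) ⊆ I.filter (fun q => q * u = u * q) ∧
      ({1, z, u, u * z} : Finset G).card = 4 := by
    intro u hu huu hu1 huz
    have hzu : Commute u z := h.comm_z hu
    constructor
    · intro x hx
      simp only [Finset.mem_insert, Finset.mem_singleton] at hx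
      simp only [hI, Finset.mem_filter, Finset.mem_univ, true_and]
      rcases hx with rfl | rfl | rfl | rfl
      · simp [Q.one_mem]
      · exact ⟨⟨h.hzQ, h.zz⟩, hzu.eq.symm⟩
      · exact ⟨⟨hu, huu⟩, rfl⟩
      · exact ⟨⟨Q.mul_mem hu h.hzQ, h.mul_z_invol hu huu⟩, ((Commute.refl u).mul_left hzu.symm).eq⟩
    · rw [Finset.card_insert_of_notMem, Finset.card_insert_of_notMem, Finset.card_pair]
      · exact fun hh => hz1 (mul_eq_left.1 hh.symm)
      · simp only [Finset.mem_insert, Finset.mem_singleton, not_or]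
        exact ⟨huz.symm, fun hh => hu1 (mul_eq_right.1 hh.symm)⟩
      · simp only [Finset.mem_insert, Finset.mem_singleton, not_or]
        refine ⟨hz1.symm, hu1.symm, fun hh => huz ?_⟩
        rw [eq_inv_of_mul_eq_one_left hh.symm, h.z_inv]
  obtain ⟨u₀, hu₀, hu₀z, hu₀c⟩ := h.hnwc
  have hu₀2 : orderOf u₀ = 2 := (orderOf_of_isConj hu₀c).symm.trans h.hz
  have hu₀1 : u₀ ≠ 1 := fun e => by rw [e, orderOf_one] at hu₀2; omega
  have hu₀u := CfsgLib.Invol.mul_self_eq_one hu₀2
  -- the action of an element of order five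
  obtain ⟨e, he, he1, he5⟩ := h.exists_five
  have hI12 : I.card = 12 := by
    have hlo : 12 ≤ I.card := by
      have h1 := hfour u₀ hu₀ hu₀u hu₀1 hu₀z
      have h2 := Finset.card_le_card h1.1
      have h3 := hsplit u₀ hu₀ hu₀u hu₀1 hu₀z
      omega
    have hhi : I.card ≤ 32 := hQf ▸ Finset.card_le_card (fun q hq => by
      simp only [hI, Finset.mem_filter, Finset.mem_univ, true_and] at hq ⊢; exact hq.1)
    have hne32 : I.card ≠ 32 := by
      intro h32
      have heq := Finset.eq_of_subset_of_card_le (s := I) (t := Finset.univ.filter fun q : G => q ∈ Q)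
        (fun q hq => by simp only [hI, Finset.mem_filter, Finset.mem_univ, true_and] at hq ⊢; exact hq.1)
        (by rw [hQf, h32])
      have hall : ∀ q ∈ Q, q * q = 1 := fun q hq => by
        have hm : q ∈ I := by rw [heq]; simp [hq]
        exact (Finset.mem_filter.1 hm).2.2
      obtain ⟨w, hw, hwu⟩ := h.not_comm_exists hu₀ hu₀1 hu₀z
      refine hwu ?_
      have h2 := inv_eq_of_mul_eq_one_left (hall _ (Q.mul_mem hu₀ hw))
      rw [mul_inv_rev, inv_eq_of_mul_eq_one_left hu₀u, inv_eq_of_mul_eq_one_left (hall w hw)] at h2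
      exact h2
    -- the count is divisible by four and congruent to two modulo five
    have h4 : 4 ∣ (I.filter fun q => q * u₀ = u₀ * q).card := by
      let W : Subgroup G :=
        { carrier := {q | q = 1 ∨ q = z ∨ q = u₀ ∨ q = u₀ * z}
          one_mem' := Or.inl rfl
          mul_mem' := by
            have hzu : z * u₀ = u₀ * z := (h.comm_z hu₀).eq.symm
            have hzuz : z * (u₀ * z) = u₀ := by rw [← mul_assoc, hzu, mul_assoc, h.zz, mul_one]
            have huzu : u₀ * z * u₀ = z := by rw [← hzu, mul_assoc, hu₀u, mul_one]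
            have huuz : u₀ * (u₀ * z) = z := by rw [← mul_assoc, hu₀u, one_mul]
            intro p q hp hq
            rcases hp with hp | hp | hp | hp <;> rcases hq with hq | hq | hq | hq <;> rw [hp, hq] <;>
              simp only [Set.mem_setOf_eq, one_mul, mul_one, h.zz, hu₀u, hzu, hzuz, huzu, huuz,
                h.mul_z_invol hu₀ hu₀u, mul_assoc u₀ z z, true_or, or_true]
          inv_mem' := by
            intro p hp
            rcases hp with hp | hp | hp | hp <;> rw [hp]
            · exact Or.inl inv_one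
            · exact Or.inr (Or.inl h.z_inv)
            · exact Or.inr (Or.inr (Or.inl (inv_eq_of_mul_eq_one_left hu₀u)))
            · exact Or.inr (Or.inr (Or.inr (inv_eq_of_mul_eq_one_left (h.mul_z_invol hu₀ hu₀u)))) }
      have hW4 : Nat.card W = 4 := by
        rw [← (hfour u₀ hu₀ hu₀u hu₀1 hu₀z).2, ← Nat.card_eq_finsetCard]
        exact Nat.card_congr (Equiv.subtypeEquivRight fun q => by
          show q ∈ ({q | q = 1 ∨ q = z ∨ q = u₀ ∨ q = u₀ * z} : Set G) ↔ _
          simp)
      have hSW : ∀ q ∈ (I.filter fun q => q * u₀ = u₀ * q), ∀ w ∈ W,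
          q * w ∈ (I.filter fun q => q * u₀ = u₀ * q) := by
        intro q hq w hw
        obtain ⟨hq1, hqu⟩ := Finset.mem_filter.1 hq
        obtain ⟨hqQ, hqq⟩ := (Finset.mem_filter.1 hq1).2
        have hwf : w ∈ I.filter (fun q => q * u₀ = u₀ * q) := (hfour u₀ hu₀ hu₀u hu₀1 hu₀z).1 (by
          change w = 1 ∨ w = z ∨ w = u₀ ∨ w = u₀ * z at hw
          simpa using hw)
        obtain ⟨hw1, hwu⟩ := Finset.mem_filter.1 hwf
        obtain ⟨hwQ, hww⟩ := (Finset.mem_filter.1 hw1).2
        have hqw : Commute q w := by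
          change w = 1 ∨ w = z ∨ w = u₀ ∨ w = u₀ * z at hw
          rcases hw with rfl | rfl | rfl | rfl
          · exact Commute.one_right q
          · exact h.comm_z hqQ
          · exact hqu
          · exact Commute.mul_right hqu (h.comm_z hqQ)
        refine Finset.mem_filter.2 ⟨Finset.mem_filter.2 ⟨Finset.mem_univ _, Q.mul_mem hqQ hwQ, ?_⟩, ?_⟩
        · rw [show q * w * (q * w) = q * (w * q) * w by group, ← hqw.eq,
            show q * (q * w) * w = (q * q) * (w * w) by group, hqq, hww, mul_one]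
        · exact ((show Commute q u₀ from hqu).mul_left hwu).eq
      rw [← hW4]
      set S := I.filter fun q => q * u₀ = u₀ * q
      have hpre : ∀ g : G, g ∈ S ↔ (QuotientGroup.mk g : G ⧸ W) ∈ S.image (QuotientGroup.mk : G → G ⧸ W) := by
        intro g
        refine ⟨fun hg => Finset.mem_image_of_mem _ hg, fun hg => ?_⟩
        obtain ⟨q, hq, hqg⟩ := Finset.mem_image.1 hg
        have := hSW q hq _ (QuotientGroup.eq.1 hqg)
        rwa [mul_inv_cancel_left] at this
      refine ⟨(S.image (QuotientGroup.mk : G → G ⧸ W)).card, ?_⟩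
      rw [← Nat.card_eq_finsetCard, ← Nat.card_eq_finsetCard, ← Nat.card_prod]
      exact Nat.card_congr ((Equiv.subtypeEquivRight fun g => hpre g).trans
        (QuotientGroup.preimageMkEquivSubgroupProdSet W
          (↑(S.image (QuotientGroup.mk : G → G ⧸ W)) : Set (G ⧸ W))))
    have hmod : I.card % 5 = 2 := by
      haveI : Fact (Nat.Prime 5) := ⟨by norm_num⟩
      have hperm : ∀ q ∈ I, e * q * e⁻¹ ∈ I := fun q hq => by
        obtain ⟨hqQ, hqq⟩ := (Finset.mem_filter.1 hq).2
        exact Finset.mem_filter.2 ⟨Finset.mem_univ _, h.conj_mem he hqQ, conj_mul_self hqq⟩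
      obtain ⟨n, hn, hnQ⟩ : ∃ n : ℕ, ¬ 5 ∣ n ∧ (e ^ n) ^ 5 = 1 := by
        refine ⟨4, by norm_num, ?_⟩
        have := (h.hker (⟨e, mem_cent.2 he⟩ ^ 5)).1 (by rw [map_pow]; exact he5)
        rw [SubmonoidClass.coe_pow] at this
        rw [← pow_mul, show 4 * 5 = 5 * 4 by norm_num, pow_mul]
        exact h.pow_four this
      let σ : Equiv.Perm {q : G // q ∈ I} :=
        { toFun := fun q => ⟨e * q.1 * e⁻¹, hperm _ q.2⟩
          invFun := fun q => ⟨e⁻¹ * q.1 * e, by
            obtain ⟨hqQ, hqq⟩ := (Finset.mem_filter.1 q.2).2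
            have h1 := h.conj_mem he.inv_left hqQ
            have h2 := conj_mul_self (g := e⁻¹) hqq
            rw [inv_inv] at h1 h2
            exact Finset.mem_filter.2 ⟨Finset.mem_univ _, h1, h2⟩⟩
          left_inv := fun q => Subtype.ext (by group)
          right_inv := fun q => Subtype.ext (by group) }
      have hpow : ∀ (k : ℕ) (q : {q : G // q ∈ I}), ((σ ^ k) q : G) = e ^ k * q.1 * (e ^ k)⁻¹ := by
        intro k
        induction k with
        | zero => intro q; simp
        | succ k ih =>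
          intro q
          rw [pow_succ', Equiv.Perm.mul_apply]
          show e * ((σ ^ k) q : G) * e⁻¹ = _
          rw [ih, pow_succ']; group
      have hτ : (σ ^ n) ^ 5 ^ 1 = 1 := by
        refine Equiv.ext fun q => Subtype.ext ?_
        rw [pow_one, ← pow_mul, hpow, pow_mul, hnQ]; simp
      have hfix : (Finset.univ.filter fun q : {q : G // q ∈ I} => ¬ (σ ^ n) q ≠ q).card = 2 := by
        have h1I : (1 : G) ∈ I := by simp [hI, Q.one_mem]
        have hzI : z ∈ I := by simp [hI, h.hzQ, h.zz]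
        rw [show (Finset.univ.filter fun q : {q : G // q ∈ I} => ¬ (σ ^ n) q ≠ q) =
          {⟨1, h1I⟩, ⟨z, hzI⟩} from ?_, Finset.card_pair (fun hh => hz1 (congrArg Subtype.val hh).symm)]
        ext ⟨q, hq⟩
        simp only [Finset.mem_filter, Finset.mem_univ, true_and, not_not, Finset.mem_insert,
          Finset.mem_singleton, Subtype.ext_iff, hpow]
        constructor
        · intro hh
          obtain ⟨hqQ, -⟩ := (Finset.mem_filter.1 hq).2
          refine h.fix_five (he.pow_left n) ?_ ?_ hqQ (Or.inl hh)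
          · rw [show (⟨e ^ n, mem_cent.2 (he.pow_left n)⟩ : ↥(Subgroup.centralizer ({z} : Set G))) =
              (⟨e, mem_cent.2 he⟩ : ↥(Subgroup.centralizer ({z} : Set G))) ^ n from Subtype.ext rfl, map_pow]
            intro h1
            refine he1 (orderOf_eq_one_iff.1 ?_)
            refine Nat.eq_one_of_dvd_coprimes ((Nat.Prime.coprime_iff_not_dvd (by norm_num)).2 hn)
              (orderOf_dvd_of_pow_eq_one he5) (orderOf_dvd_of_pow_eq_one h1)
          · rw [show (⟨e ^ n, mem_cent.2 (he.pow_left n)⟩ : ↥(Subgroup.centralizer ({z} : Set G))) =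
              (⟨e, mem_cent.2 he⟩ : ↥(Subgroup.centralizer ({z} : Set G))) ^ n from Subtype.ext rfl, map_pow,
              ← pow_mul, mul_comm, pow_mul, he5, one_pow]
        · rintro (rfl | rfl)
          · simp
          · rw [(he.pow_left n).eq, mul_inv_cancel_right]
      have h5 := Equiv.Perm.card_compl_support_modEq (p := 5) (n := 1) hτ
      rw [show (σ ^ n).supportᶜ = Finset.univ.filter fun q : {q : G // q ∈ I} => ¬ (σ ^ n) q ≠ q by
        ext q; simp [Equiv.Perm.mem_support], hfix, Fintype.card_coe] at h5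
      exact h5.symm
    have h3 := hsplit u₀ hu₀ hu₀u hu₀1 hu₀z
    omega
  refine ⟨hIcard.trans hI12, ?_⟩
  intro u hu huu hu1 huz q hq hqq huq
  have h3 := hsplit u hu huu hu1 huz
  obtain ⟨hsub, hcard4⟩ := hfour u hu huu hu1 huz
  have heq := Finset.eq_of_subset_of_card_le hsub (by omega)
  have hmem : q ∈ I.filter fun q => q * u = u * q := by simp [hI, hq, hqq, huq.eq]
  rw [← heq] at hmem
  simpa using hmem

theorem invol_cases {u q : G} (hu : u ∈ Q) (huu : u * u = 1) (hu1 : u ≠ 1) (huz : u ≠ z) (hq : q ∈ Q)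
    (hqq : q * q = 1) (hc : Commute u q) : q = 1 ∨ q = z ∨ q = u ∨ q = u * z :=
  h.invol_count.2 u hu huu hu1 huz q hq hqq hc

/-- The ten noncentral involutions of `Q` form one class of `C(z)`. -/
theorem invol_conj {u v : G} (hu : u ∈ Q) (huu : u * u = 1) (hu1 : u ≠ 1) (huz : u ≠ z) (hv : v ∈ Q)
    (hvv : v * v = 1) (hv1 : v ≠ 1) (hvz : v ≠ z) : ∃ g : G, Commute g z ∧ g * u * g⁻¹ = v := by
  classical
  haveI := Fintype.ofFinite G
  obtain ⟨e, he, he1, he5⟩ := h.exists_five
  obtain ⟨w, hw, hwu⟩ := h.not_comm_exists hu hu1 huz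
  have hwuz : w * u * w⁻¹ = u * z := h.conj_of_not_comm hw hu hwu
  have hk : ∀ k : Fin 5 × Bool, Commute (e ^ k.1.val * (if k.2 then w else 1)) z := fun k => by
    refine (he.pow_left _).mul_left ?_
    cases k.2
    · exact Commute.one_left z
    · exact h.comm_z hw
  let φ : Fin 5 × Bool → G := fun k => e ^ k.1.val * (if k.2 then w else 1)
  set S := Finset.univ.filter fun q : G => q ∈ Q ∧ q * q = 1 ∧ q ≠ 1 ∧ q ≠ z with hS
  have hS10 : S.card = 10 := by
    have h12 := h.invol_count.1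
    rw [Nat.card_eq_fintype_card, Fintype.card_subtype] at h12
    have : S = ((Finset.univ.filter fun q : G => q ∈ Q ∧ q * q = 1).erase 1).erase z := by
      ext q; simp only [hS, Finset.mem_filter, Finset.mem_univ, true_and, Finset.mem_erase]; tauto
    rw [this, Finset.card_erase_of_mem (by simp [h.hzQ, h.zz, h.z_ne]),
      Finset.card_erase_of_mem (by simp [Q.one_mem]), h12]
  have hmem : ∀ k, φ k * u * (φ k)⁻¹ ∈ S := fun k => by
    refine Finset.mem_filter.2 ⟨Finset.mem_univ _, h.conj_mem (hk k) hu, conj_mul_self huu,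
      fun hh => hu1 (conj_eq_one_iff.1 hh), fun hh => huz ?_⟩
    calc u = (φ k)⁻¹ * z * φ k := by rw [← hh]; group
      _ = z := by rw [(hk k).inv_left.eq, inv_mul_cancel_right]
  have hinj : Function.Injective fun k => φ k * u * (φ k)⁻¹ := by
    rintro ⟨i, a⟩ ⟨j, b⟩ hab
    change φ (i, a) * u * (φ (i, a))⁻¹ = φ (j, b) * u * (φ (j, b))⁻¹ at hab
    have hval : ∀ c : Bool, (if c then w else 1) * u * (if c then w else 1)⁻¹ =
        if c then u * z else u := fun c => by
      cases c
      · simp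
      · simp [hwuz]
    have hpe : ∀ (m : ℕ) (x : G), e ^ m * (x * z) * (e ^ m)⁻¹ = e ^ m * x * (e ^ m)⁻¹ * z := fun m x => by
      rw [show e ^ m * (x * z) * (e ^ m)⁻¹ = e ^ m * x * (e ^ m)⁻¹ * (e ^ m * z * (e ^ m)⁻¹) by group,
        (he.pow_left m).eq, mul_inv_cancel_right]
    have key : ∀ m : ℕ, 0 < m → m < 5 → e ^ m * u * (e ^ m)⁻¹ ≠ u ∧ e ^ m * u * (e ^ m)⁻¹ ≠ u * z := by
      intro m hm0 hm5
      have hfm : f ⟨e ^ m, mem_cent.2 (he.pow_left m)⟩ = f ⟨e, mem_cent.2 he⟩ ^ m := by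
        rw [← map_pow]; rfl
      have hne : f ⟨e ^ m, mem_cent.2 (he.pow_left m)⟩ ≠ 1 := by
        rw [hfm]
        intro h1
        refine he1 (orderOf_eq_one_iff.1 ?_)
        exact Nat.eq_one_of_dvd_coprimes
          ((Nat.Prime.coprime_iff_not_dvd (p := 5) (by norm_num)).2 fun hd => by
            have := Nat.le_of_dvd hm0 hd; omega)
          (orderOf_dvd_of_pow_eq_one he5) (orderOf_dvd_of_pow_eq_one h1)
      have hp5 : f ⟨e ^ m, mem_cent.2 (he.pow_left m)⟩ ^ 5 = 1 := by
        rw [hfm, ← pow_mul, mul_comm, pow_mul, he5, one_pow]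
      exact ⟨fun hh => (h.fix_five (he.pow_left m) hne hp5 hu (Or.inl hh)).elim hu1 huz,
        fun hh => (h.fix_five (he.pow_left m) hne hp5 hu (Or.inr hh)).elim hu1 huz⟩
    have main : ∀ (i j : ℕ) (a b : Bool), i ≤ j → j < 5 →
        e ^ i * (if a then u * z else u) * (e ^ i)⁻¹ = e ^ j * (if b then u * z else u) * (e ^ j)⁻¹ →
        i = j ∧ a = b := by
      intro i j a b hij hj hh
      obtain ⟨m, rfl⟩ := Nat.exists_eq_add_of_le hij
      have h1 : (if a then u * z else u) = e ^ m * (if b then u * z else u) * (e ^ m)⁻¹ := by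
        rw [pow_add] at hh
        calc (if a then u * z else u)
            = (e ^ i)⁻¹ * (e ^ i * (if a then u * z else u) * (e ^ i)⁻¹) * e ^ i := by group
          _ = _ := by rw [hh]; group
      rcases Nat.eq_zero_or_pos m with rfl | hm
      · refine ⟨rfl, ?_⟩
        simp only [pow_zero, one_mul, inv_one, mul_one] at h1
        cases a <;> cases b <;>
          simp only [Bool.false_eq_true, if_true, if_false] at h1 ⊢
        · exact absurd (mul_eq_left.1 h1.symm) h.z_ne
        · exact absurd (mul_eq_left.1 h1) h.z_ne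
      · exfalso
        obtain ⟨k1, k2⟩ := key m hm (by omega)
        cases a <;> cases b <;>
          simp only [Bool.false_eq_true, if_true, if_false, hpe] at h1
        · exact k1 h1.symm
        · refine k2 ?_
          calc e ^ m * u * (e ^ m)⁻¹ = e ^ m * u * (e ^ m)⁻¹ * z * z := by rw [mul_assoc _ z z, h.zz, mul_one]
            _ = u * z := by rw [← h1]
        · exact k2 h1.symm
        · exact k1 (mul_right_cancel h1).symm
    have h2 : e ^ i.val * (if a then u * z else u) * (e ^ i.val)⁻¹ =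
        e ^ j.val * (if b then u * z else u) * (e ^ j.val)⁻¹ := by
      rw [← hval a, ← hval b]
      calc e ^ i.val * ((if a then w else 1) * u * (if a then w else 1)⁻¹) * (e ^ i.val)⁻¹
          = φ (i, a) * u * (φ (i, a))⁻¹ := by simp only [φ]; group
        _ = φ (j, b) * u * (φ (j, b))⁻¹ := hab
        _ = _ := by simp only [φ]; group
    rcases le_total i.val j.val with hij | hij
    · obtain ⟨e1, e2⟩ := main _ _ a b hij j.2 h2
      exact Prod.ext (Fin.ext e1) e2
    · obtain ⟨e1, e2⟩ := main _ _ b a hij i.2 h2.symm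
      exact Prod.ext (Fin.ext e1.symm) e2.symm
  have himg : (Finset.univ : Finset (Fin 5 × Bool)).image (fun k => φ k * u * (φ k)⁻¹) = S := by
    refine Finset.eq_of_subset_of_card_le (fun x hx => ?_) ?_
    · obtain ⟨k, -, rfl⟩ := Finset.mem_image.1 hx
      exact hmem k
    · rw [Finset.card_image_of_injective _ hinj, hS10]; simp
  have hvS : v ∈ S := by simp [hS, hv, hvv, hv1, hvz]
  rw [← himg] at hvS
  obtain ⟨k, -, hkv⟩ := Finset.mem_image.1 hvS
  exact ⟨φ k, hk k, hkv⟩

/-- All involutions of `Q` are conjugate to `z`. -/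
theorem isConj_z {x : G} (hx : x ∈ Q) (hx2 : orderOf x = 2) : IsConj z x := by
  by_cases hxz : x = z
  · rw [hxz]
  obtain ⟨u₀, hu₀, hu₀z, hu₀c⟩ := h.hnwc
  have hu₀2 : orderOf u₀ = 2 := (orderOf_of_isConj hu₀c).symm.trans h.hz
  obtain ⟨g, -, hg⟩ := h.invol_conj hu₀ (CfsgLib.Invol.mul_self_eq_one hu₀2)
    (fun e => by rw [e, orderOf_one] at hu₀2; omega) hu₀z hx (CfsgLib.Invol.mul_self_eq_one hx2)
    (fun e => by rw [e, orderOf_one] at hx2; omega) hxz
  exact hu₀c.trans (isConj_iff.2 ⟨g, hg⟩)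

omit [Finite G] in
/-- The data at a conjugate of `z`. -/
theorem exists_hyp {u : G} (hu : IsConj z u) :
    ∃ (R : Subgroup G) (r : ↥(Subgroup.centralizer ({u} : Set G)) →* alternatingGroup (Fin 5)),
      Hyp u R r := by
  obtain ⟨g, rfl⟩ := isConj_iff.1 hu
  let c : G ≃* G := MulAut.conj g
  have hback : ∀ x : ↥(Subgroup.centralizer ({g * z * g⁻¹} : Set G)),
      g⁻¹ * (x : G) * g ∈ Subgroup.centralizer ({z} : Set G) := fun x => mem_cent.2 (by
    have := mem_cent.1 x.2
    show g⁻¹ * (x : G) * g * z = z * (g⁻¹ * (x : G) * g)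
    calc g⁻¹ * (x : G) * g * z = g⁻¹ * ((x : G) * (g * z * g⁻¹)) * g := by group
      _ = g⁻¹ * (g * z * g⁻¹ * (x : G)) * g := by rw [this.eq]
      _ = z * (g⁻¹ * (x : G) * g) := by group)
  let r : ↥(Subgroup.centralizer ({g * z * g⁻¹} : Set G)) →* alternatingGroup (Fin 5) :=
    MonoidHom.mk' (fun x => f ⟨g⁻¹ * (x : G) * g, hback x⟩) fun a b => by
      rw [← map_mul]
      refine congrArg f (Subtype.ext ?_)
      show g⁻¹ * ((a : G) * b) * g = (g⁻¹ * (a : G) * g) * (g⁻¹ * (b : G) * g)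
      group
  refine ⟨Q.map c.toMonoidHom, r, ?_⟩
  have hmem : ∀ x, x ∈ Q.map c.toMonoidHom ↔ g⁻¹ * x * g ∈ Q := fun x => by
    rw [Subgroup.mem_map_equiv]; simp [c, MulAut.conj_symm_apply]
  have hcancel : ∀ x : G, g * (g⁻¹ * x * g) * g⁻¹ = x := fun x => by group
  have hcancel' : ∀ x : G, g⁻¹ * (g * x * g⁻¹) * g = x := fun x => by group
  refine ⟨by rw [CfsgLib.Invol.orderOf_conj, h.hz], fun x hx => ?_, fun x => ?_, fun a => ?_, ?_, ?_,
    fun q hq => ?_, fun p hp q hq => ?_, fun p hp hall => ?_, fun x hx => ?_, ?_⟩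
  · have := mem_cent.1 (h.hQle ((hmem x).1 hx))
    refine mem_cent.2 ?_
    show x * (g * z * g⁻¹) = g * z * g⁻¹ * x
    calc x * (g * z * g⁻¹) = g * ((g⁻¹ * x * g) * z) * g⁻¹ := by group
      _ = g * (z * (g⁻¹ * x * g)) * g⁻¹ := by rw [this.eq]
      _ = g * z * g⁻¹ * x := by group
  · rw [hmem]; exact h.hker ⟨g⁻¹ * (x : G) * g, hback x⟩
  · obtain ⟨⟨y, hy⟩, hya⟩ := h.hsurj a
    have hy' : Commute y z := mem_cent.1 hy
    refine ⟨⟨g * y * g⁻¹, mem_cent.2 ?_⟩, ?_⟩
    · show g * y * g⁻¹ * (g * z * g⁻¹) = g * z * g⁻¹ * (g * y * g⁻¹)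
      rw [show g * y * g⁻¹ * (g * z * g⁻¹) = g * (y * z) * g⁻¹ by group, hy'.eq]; group
    · show f ⟨g⁻¹ * (g * y * g⁻¹) * g, _⟩ = a
      rw [← hya]; exact congrArg f (Subtype.ext (hcancel' y))
  · rw [Subgroup.card_map_of_injective c.injective]; exact h.hQ
  · rw [hmem, hcancel']; exact h.hzQ
  · rcases h.hsq _ ((hmem q).1 hq) with e | e
    · left
      calc q * q = g * ((g⁻¹ * q * g) * (g⁻¹ * q * g)) * g⁻¹ := by group
        _ = 1 := by rw [e]; group
    · right
      calc q * q = g * ((g⁻¹ * q * g) * (g⁻¹ * q * g)) * g⁻¹ := by group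
        _ = g * z * g⁻¹ := by rw [e]
  · rcases h.hcomm _ ((hmem p).1 hp) _ ((hmem q).1 hq) with e | e
    · left
      calc p * q = g * ((g⁻¹ * p * g) * (g⁻¹ * q * g)) * g⁻¹ := by group
        _ = q * p := by rw [e]; group
    · right
      calc p * q = g * ((g⁻¹ * p * g) * (g⁻¹ * q * g)) * g⁻¹ := by group
        _ = _ := by rw [e]; group
  · rcases h.hcent _ ((hmem p).1 hp) (fun q hq => by
      have := hall (g * q * g⁻¹) ((hmem _).2 (by rwa [hcancel']))
      calc g⁻¹ * p * g * q = g⁻¹ * (p * (g * q * g⁻¹)) * g := by group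
        _ = g⁻¹ * (g * q * g⁻¹ * p) * g := by rw [this]
        _ = q * (g⁻¹ * p * g) := by group) with e | e
    · left; rw [← hcancel p, e]; group
    · right; rw [← hcancel p, e]
  · rw [hmem]
    refine h.hfaith ⟨g⁻¹ * (x : G) * g, hback x⟩ fun q hq => ?_
    have := hx (g * q * g⁻¹) ((hmem _).2 (by rwa [hcancel']))
    show g⁻¹ * (x : G) * g * q = q * (g⁻¹ * (x : G) * g)
    calc g⁻¹ * (x : G) * g * q = g⁻¹ * ((x : G) * (g * q * g⁻¹)) * g := by group
      _ = g⁻¹ * (g * q * g⁻¹ * (x : G)) * g := by rw [this.eq]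
      _ = q * (g⁻¹ * (x : G) * g) := by group
  · obtain ⟨u₀, hu₀, hne, hc⟩ := h.hnwc
    refine ⟨g * u₀ * g⁻¹, (hmem _).2 (by rwa [hcancel']), fun hh => hne ?_, ?_⟩
    · exact mul_left_cancel (mul_right_cancel hh)
    · exact ((isConj_iff.2 ⟨g, rfl⟩ : IsConj z (g * z * g⁻¹)).symm.trans hc).trans
        (isConj_iff.2 ⟨g, rfl⟩)

end Hyp

end CfsgLib.J2Type
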