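import Cfsg.Agent.Lib.J2Type.Setup
import Cfsg.Agent.Lib.InvChar.J2Order.OrderFormula

/-!
# The centralizer of the second class has order different from forty-eight
-/

set_option autoImplicit false
set_option linter.style.haveILetI false

namespace CfsgLib.J2Type

universe u

variable {G : Type u} [Group G] [Finite G]

omit [Finite G] in
/-- The factors of a product with an involution in its cyclic group commute with it. -/
theorem comm_of_zpowers {x a b : G} (hx : x * x = 1) (ha : a * a = 1) (hb : b * b = 1)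
    (hm : x ∈ Subgroup.zpowers (a * b)) : Commute a x ∧ Commute b x := by
  obtain ⟨k, hk⟩ := Subgroup.mem_zpowers_iff.1 hm
  have hinv : a * (a * b) * a⁻¹ = (a * b)⁻¹ := by
    rw [mul_inv_rev, inv_eq_of_mul_eq_one_left ha, inv_eq_of_mul_eq_one_left hb,
      ← mul_assoc a a b, ha, one_mul]
  have h1 : Commute a x := mul_inv_eq_iff_eq_mul.1 (by
    rw [← hk, ← conj_zpow, hinv, inv_zpow, hk, inv_eq_of_mul_eq_one_left hx])
  refine ⟨h1, ?_⟩
  have h2 : Commute (a * b) x := hk ▸ (Commute.refl (a * b)).zpow_right k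
  have := h1.inv_left.mul_left h2
  rwa [inv_mul_cancel_left] at this

namespace Hyp

variable {z : G} {Q : Subgroup G} {f : ↥(Subgroup.centralizer ({z} : Set G)) →* alternatingGroup (Fin 5)}
  (h : Hyp z Q f)
include h

theorem card_centralizer : Nat.card ↥(Subgroup.centralizer ({z} : Set G)) = 1920 := by
  rw [← f.ker.card_mul_index, Subgroup.index_ker, MonoidHom.range_eq_top.2 h.hsurj,
    Subgroup.card_top, Nat.card_eq_fintype_card (α := alternatingGroup (Fin 5)), InvChar.J2Order.alt_card]
  have : Nat.card f.ker = 32 := by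
    rw [← h.hQ]
    exact Nat.card_congr
      { toFun := fun k => ⟨(k.1 : G), (h.hker _).1 k.2⟩
        invFun := fun q => ⟨⟨q.1, h.hQle q.2⟩, (h.hker _).2 q.2⟩
        left_inv := fun k => rfl
        right_inv := fun q => rfl }
  rw [this]

/-- The conjugates of `z` are at least ninety-one. -/
theorem class_bound : 91 * 1920 ≤ Nat.card G := by
  classical
  haveI := Fintype.ofFinite G
  set Z := Finset.univ.filter fun x : G => IsConj z x
  have hZ : Z.card * 1920 = Nat.card G := by
    have h1 := card_conj_image (⊤ : Subgroup G) z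
    rw [top_inf_eq, h.card_centralizer, Subgroup.card_top, Nat.card_eq_fintype_card (α := {y : G // _}),
      Fintype.card_subtype] at h1
    rw [← h1]
    congr 2
    ext y
    simp only [Z, Finset.mem_filter, Finset.mem_univ, true_and, Subgroup.mem_top, isConj_iff]
  set I := (Finset.univ.filter fun q : G => q ∈ Q ∧ q * q = 1).erase 1
  have hI : I.card = 11 := by
    have h12 := h.invol_count.1
    rw [Nat.card_eq_fintype_card, Fintype.card_subtype] at h12
    rw [Finset.card_erase_of_mem (by simp [Q.one_mem]), h12]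
  set U := I.erase z
  have hU : U.card = 10 := by
    rw [Finset.card_erase_of_mem (by simp [I, h.hzQ, h.zz, h.z_ne]), hI]
  have hUmem : ∀ v ∈ U, v ∈ Q ∧ v * v = 1 ∧ v ≠ 1 ∧ v ≠ z := fun v hv => by
    obtain ⟨hvz, hvI⟩ := Finset.mem_erase.1 hv
    obtain ⟨hv1, hvf⟩ := Finset.mem_erase.1 hvI
    exact ⟨(Finset.mem_filter.1 hvf).2.1, (Finset.mem_filter.1 hvf).2.2, hv1, hvz⟩
  have hex : ∀ v : U, ∃ (R : Subgroup G) (r : ↥(Subgroup.centralizer ({v.1} : Set G)) →* alternatingGroup (Fin 5)),
      Pair z v.1 Q R f r := fun v => by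
    obtain ⟨h1, h2, h3, h4⟩ := hUmem v.1 v.2
    exact h.exists_pair h1 h2 h3 h4
  choose R r hp using hex
  let S : U → Finset G := fun v => Finset.univ.filter fun x => x ∈ R v ∧ x * x = 1 ∧ ¬ Commute x z
  have hS : ∀ v : U, 8 ≤ (S v).card := fun v => by
    have p := hp v
    have h12 := p.right.invol_count.1
    rw [Nat.card_eq_fintype_card, Fintype.card_subtype] at h12
    have hsplit := Finset.card_filter_add_card_filter_not
      (s := Finset.univ.filter fun q : G => q ∈ R v ∧ q * q = 1) (fun q => Commute q z)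
    have hsub : (Finset.univ.filter fun q : G => q ∈ R v ∧ q * q = 1).filter (fun q => Commute q z) ⊆
        ({1, v.1, z, z * v.1} : Finset G) := fun q hq => by
      obtain ⟨hq1, hqz⟩ := Finset.mem_filter.1 hq
      obtain ⟨hqR, hqq⟩ := (Finset.mem_filter.1 hq1).2
      rcases p.right.invol_cases p.memR p.left.zz p.left.z_ne p.ne.symm hqR hqq hqz.symm with e | e | e | e <;>
        simp [e]
    have h4 := (Finset.card_le_card hsub).trans Finset.card_le_four
    have he : (Finset.univ.filter fun q : G => q ∈ R v ∧ q * q = 1).filter (fun q => ¬ Commute q z) = S v := by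
      ext q; simp [S, and_assoc]
    rw [he] at hsplit
    omega
  have hdisj : (↑(Finset.univ : Finset U) : Set U).PairwiseDisjoint S := by
    intro v _ w _ hvw
    rw [Function.onFun, Finset.disjoint_left]
    intro x hx hx'
    obtain ⟨hxR, -, hxz⟩ := (Finset.mem_filter.1 hx).2
    obtain ⟨hxR', -, -⟩ := (Finset.mem_filter.1 hx').2
    have e1 := ((hp v).right.hcomm x hxR z (hp v).memR).resolve_left hxz
    have e2 := ((hp w).right.hcomm x hxR' z (hp w).memR).resolve_left hxz
    exact hvw (Subtype.ext (mul_left_cancel (e1.symm.trans e2)))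
  have hsub : I ∪ Finset.univ.biUnion S ⊆ Z := by
    intro x hx
    refine Finset.mem_filter.2 ⟨Finset.mem_univ _, ?_⟩
    rcases Finset.mem_union.1 hx with hx | hx
    · obtain ⟨hx1, hxf⟩ := Finset.mem_erase.1 hx
      obtain ⟨hxQ, hxx⟩ := (Finset.mem_filter.1 hxf).2
      exact h.isConj_z hxQ (CfsgLib.Invol.orderOf_eq_two hx1 hxx)
    · obtain ⟨v, -, hv⟩ := Finset.mem_biUnion.1 hx
      obtain ⟨hxR, hxx, hxz⟩ := (Finset.mem_filter.1 hv).2
      obtain ⟨hvQ, hvv, hv1, -⟩ := hUmem v.1 v.2
      exact (h.isConj_z hvQ (CfsgLib.Invol.orderOf_eq_two hv1 hvv)).trans ((hp v).right.isConj_z hxR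
        (CfsgLib.Invol.orderOf_eq_two (fun e => hxz (e ▸ Commute.one_left z)) hxx))
  have hIS : Disjoint I (Finset.univ.biUnion S) := by
    rw [Finset.disjoint_left]
    intro x hx hx'
    obtain ⟨v, -, hv⟩ := Finset.mem_biUnion.1 hx'
    exact (Finset.mem_filter.1 hv).2.2.2 (h.comm_z (Finset.mem_filter.1 (Finset.mem_erase.1 hx).2).2.1)
  have hle := Finset.card_le_card hsub
  rw [Finset.card_union_of_disjoint hIS, Finset.card_biUnion hdisj, hI] at hle
  have hsum := Finset.card_nsmul_le_sum (Finset.univ : Finset U) (fun v => (S v).card) 8 (fun v _ => hS v)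
  rw [Finset.card_univ, Fintype.card_coe, hU, smul_eq_mul] at hsum
  have := Nat.mul_le_mul_right 1920 (show 91 ≤ Z.card by omega)
  omega

/-- The centralizer of the second class is not of order forty-eight. -/
theorem not_small {t u : G} {W : Subgroup G} (ht : orderOf t = 2) (hn : ¬ IsConj z t) (d : Torus z u t W)
    (h48 : Nat.card (Subgroup.centralizer ({t} : Set G)) = 48)
    (hinv : ∀ y, Commute y t → y * y = 1 → Commute y z) : False := by
  classical
  haveI := Fintype.ofFinite G
  have hcl := h.classes ht hn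
  have hformula := InvChar.OrderFormula.card_group z t h.hz ht hn hcl
  rw [h48, h.card_centralizer] at hformula
  have hord : ∀ p1 p2 : G, IsConj z p1 → IsConj t p2 → p1 * p1 = 1 ∧ p2 * p2 = 1 := fun p1 p2 h1 h2 =>
    ⟨CfsgLib.Invol.mul_self_eq_one ((orderOf_of_isConj h1).symm.trans h.hz),
      CfsgLib.Invol.mul_self_eq_one ((orderOf_of_isConj h2).symm.trans ht)⟩
  -- pairs above `z`
  have hA : InvChar.OrderFormula.count z t z ≤ 1320 := by
    set I := (Finset.univ.filter fun q : G => q ∈ Q ∧ q * q = 1).erase 1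
    have hI : I.card = 11 := by
      have h12 := h.invol_count.1
      rw [Nat.card_eq_fintype_card, Fintype.card_subtype] at h12
      rw [Finset.card_erase_of_mem (by simp [Q.one_mem]), h12]
    set J := Finset.univ.filter fun y : G => ∃ s ∈ Subgroup.centralizer ({z} : Set G), s * t * s⁻¹ = y
    have hJ : J.card * 16 = 1920 := by
      have := card_conj_image (Subgroup.centralizer ({z} : Set G)) t
      rwa [d.hT16, h.card_centralizer, Nat.card_eq_fintype_card, Fintype.card_subtype] at this
    rw [InvChar.OrderFormula.count, Nat.card_eq_fintype_card, Fintype.card_subtype]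
    refine le_trans (Finset.card_le_card (t := I ×ˢ J) ?_) (by rw [Finset.card_product, hI]; omega)
    intro q hq
    obtain ⟨h1, h2, hm⟩ := (Finset.mem_filter.1 hq).2
    obtain ⟨hq1, hq2⟩ := hord _ _ h1 h2
    obtain ⟨hc1, hc2⟩ := comm_of_zpowers h.zz hq1 hq2 hm
    have hq1o : orderOf q.1 = 2 := (orderOf_of_isConj h1).symm.trans h.hz
    have hq2o : orderOf q.2 = 2 := (orderOf_of_isConj h2).symm.trans ht
    have hq1Q : q.1 ∈ Q := by
      by_contra hQ
      obtain ⟨g, -, hg⟩ := h.outer_conj ht hn d.htz hc1 hq1 hQ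
      exact hn (h1.trans (isConj_iff.2 ⟨g, hg⟩ : IsConj t q.1).symm)
    have hq2Q : q.2 ∉ Q := fun hQ => hn ((h.isConj_z hQ hq2o).trans h2.symm)
    obtain ⟨g, hgz, hg⟩ := h.outer_conj ht hn d.htz hc2 hq2 hq2Q
    refine Finset.mem_product.2 ⟨Finset.mem_erase.2 ⟨fun e => ?_, Finset.mem_filter.2
      ⟨Finset.mem_univ _, hq1Q, hq1⟩⟩, Finset.mem_filter.2 ⟨Finset.mem_univ _, g, mem_cent.2 hgz, hg⟩⟩
    rw [e, orderOf_one] at hq1o
    omega
  -- pairs above `t`
  have hB : InvChar.OrderFormula.count z t t ≤ 36 := by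
    set T := Finset.univ.filter fun s : G => Commute s z ∧ Commute s t
    have hT : T.card = 16 := by
      rw [← d.hT16, Nat.card_eq_fintype_card, ← Fintype.card_subtype]
      exact Fintype.card_congr (Equiv.subtypeEquivRight fun s =>
        ⟨fun hs => ⟨mem_cent.2 hs.1, mem_cent.2 hs.2⟩, fun hs => ⟨mem_cent.1 hs.1, mem_cent.1 hs.2⟩⟩)
    set Wf := Finset.univ.filter fun s : G => s ∈ W
    have hW : Wf.card = 4 := by rw [← d.hW4, Nat.card_eq_fintype_card, ← Fintype.card_subtype]
    have hWT : Wf ⊆ T := fun s hs => Finset.mem_filter.2 ⟨Finset.mem_univ _, d.W_comm (Finset.mem_filter.1 hs).2⟩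
    rw [InvChar.OrderFormula.count, Nat.card_eq_fintype_card, Fintype.card_subtype]
    refine le_trans (Finset.card_le_card (t := Wf.erase 1 ×ˢ (T \ Wf)) ?_) (by
      rw [Finset.card_product, Finset.card_erase_of_mem (by simp [Wf, W.one_mem]),
        Finset.card_sdiff_of_subset hWT, hW, hT])
    intro q hq
    obtain ⟨h1, h2, hm⟩ := (Finset.mem_filter.1 hq).2
    obtain ⟨hq1, hq2⟩ := hord _ _ h1 h2
    obtain ⟨hc1, hc2⟩ := comm_of_zpowers (CfsgLib.Invol.mul_self_eq_one ht) hq1 hq2 hm
    refine Finset.mem_product.2 ⟨Finset.mem_erase.2 ⟨fun e => ?_, Finset.mem_filter.2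
      ⟨Finset.mem_univ _, d.hclass _ (hinv _ hc1 hq1) hc1 h1⟩⟩,
      Finset.mem_sdiff.2 ⟨Finset.mem_filter.2 ⟨Finset.mem_univ _, hinv _ hc2 hq2, hc2⟩, fun hW' => ?_⟩⟩
    · exact h.z_ne (by
        have := orderOf_of_isConj h1
        rw [e, orderOf_one] at this
        exact orderOf_eq_one_iff.1 this)
    · refine hn ((d.hWz _ (Finset.mem_filter.1 hW').2 fun e => ?_).trans h2.symm)
      have := orderOf_of_isConj h2
      rw [e, orderOf_one, ht] at this
      omega
  have := h.class_bound
  omega

end Hyp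

end CfsgLib.J2Type
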