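import Cfsg.Agent.Lib.J2Type.AltPerm
import Cfsg.Agent.Lib.J2Type.Exclude
import Cfsg.Agent.Lib.InvChar.J2Order.CountZ
import Cfsg.Agent.Lib.Alt.Aut

/-!
# The two centralizers of a group of Hall-Janko type
-/

set_option autoImplicit false
set_option linter.style.haveILetI false

namespace CfsgLib.J2Type

universe u

variable {G : Type u} [Group G] [Finite G]

namespace Torus

variable {z u t : G} {W : Subgroup G} (d : Torus z u t W)
include d

/-- Every involution of `C(t)` is conjugate there into `C(z)`. -/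
theorem conj_into {x : G} (hxt : Commute x t) (hxx : x * x = 1) :
    ∃ h, Commute h t ∧ Commute (h * x * h⁻¹) z := by
  haveI : Fact (Nat.Prime 2) := ⟨Nat.prime_two⟩
  obtain ⟨P, hP⟩ := d.exists_sylow
  let X : ↥(Subgroup.centralizer ({t} : Set G)) := ⟨x, mem_cent'.2 hxt⟩
  have hXp : IsPGroup 2 (Subgroup.zpowers X) := by
    intro g
    refine ⟨1, Subtype.ext ?_⟩
    obtain ⟨i, hi⟩ := Subgroup.mem_zpowers_iff.1 g.2
    rw [pow_one, SubmonoidClass.coe_pow, ← hi, ← zpow_natCast, ← zpow_mul, mul_comm, zpow_mul,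
      zpow_natCast, pow_two, show X * X = 1 from Subtype.ext hxx, one_zpow, OneMemClass.coe_one]
  obtain ⟨P', hP'⟩ := hXp.exists_le_sylow
  obtain ⟨g, hg⟩ := MulAction.exists_smul_eq (↥(Subgroup.centralizer ({t} : Set G))) P' P
  have hmem : g * X * g⁻¹ ∈ (P : Subgroup ↥(Subgroup.centralizer ({t} : Set G))) := by
    rw [← hg]
    show g * X * g⁻¹ ∈ g • P'
    rw [CfsgLib.Transfer.mem_sylow_smul_iff, show g⁻¹ * (g * X * g⁻¹) * g = X by group]
    exact hP' (Subgroup.mem_zpowers X)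
  rw [hP, Subgroup.mem_subgroupOf] at hmem
  exact ⟨g, mem_cent'.1 g.2, mem_cent'.1 hmem⟩

end Torus

namespace Hyp

variable {z : G} {Q : Subgroup G} {f : ↥(Subgroup.centralizer ({z} : Set G)) →* alternatingGroup (Fin 5)}
  (h : Hyp z Q f)
include h

/-- The centralizer of an involution of the second class commuting with `z`. -/
theorem ct_of_comm {t : G} (ht : orderOf t = 2) (hn : ¬ IsConj z t) (hg : Commute t z) :
    ∃ V B : Subgroup G, InvChar.J2Order.CtHyp z t V B ∧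
      Nat.card (Subgroup.centralizer ({t} : Set G)) = 240 := by
  classical
  obtain ⟨u, R, r, p, htu⟩ := h.exists_comm_pair ht hn hg
  have d := p.torus ht hn hg htu
  set W := Q ⊓ R
  obtain ⟨K, hKH, hKn, hWK, hKz, h240, ⟨e⟩⟩ := d.dichotomy.resolve_right fun hh =>
    h.not_small ht hn d hh.1 hh.2
  set H := Subgroup.centralizer ({t} : Set G)
  have hKt : ∀ k ∈ K, Commute k t := fun k hk => mem_cent.1 (hKH hk)
  -- the action on `K` as permutations
  haveI : (K.subgroupOf H).Normal := ⟨fun k hk x => hKn (x : G) (mem_cent.1 x.2) (k : G) hk⟩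
  let eK : ↥(K.subgroupOf H) ≃* alternatingGroup (Fin 5) := (Subgroup.subgroupOfEquivOfLe hKH).trans e
  have hinj : Function.Injective (MulAut.conjNormal : Equiv.Perm (Fin 5) →* MulAut (alternatingGroup (Fin 5))) :=
    CfsgLib.AltAut.conjNormal_injective (by simp)
  have hbij : Function.Bijective (MulAut.conjNormal : Equiv.Perm (Fin 5) →* MulAut (alternatingGroup (Fin 5))) :=
    ⟨hinj, CfsgLib.AltAut.conjNormal_surjective (by simp) (by simp)⟩
  let eP := MulEquiv.ofBijective _ hbij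
  let ψ : ↥H →* Equiv.Perm (Fin 5) :=
    eP.symm.toMonoidHom.comp ((MulAut.congr eK).toMonoidHom.comp MulAut.conjNormal)
  have hψ : ∀ (x : ↥H) (k : ↥K), ψ x * ((e k : alternatingGroup (Fin 5)) : Equiv.Perm (Fin 5)) * (ψ x)⁻¹ =
      ((e ⟨x * k * (x : G)⁻¹, hKn x (mem_cent.1 x.2) k k.2⟩ : alternatingGroup (Fin 5)) : Equiv.Perm (Fin 5)) := by
    intro x k
    have h1 : MulAut.conjNormal (ψ x) = MulAut.congr eK (MulAut.conjNormal x) :=
      eP.apply_symm_apply _
    have h2 := congrArg (fun a : MulAut (alternatingGroup (Fin 5)) =>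
      ((a (e k) : alternatingGroup (Fin 5)) : Equiv.Perm (Fin 5))) h1
    simp only [MulAut.conjNormal_apply] at h2
    rw [h2]
    show ((eK (MulAut.conjNormal x (eK.symm (e k))) : alternatingGroup (Fin 5)) : Equiv.Perm (Fin 5)) = _
    have h3 : eK.symm (e k) = ⟨⟨(k : G), hKH k.2⟩, k.2⟩ := by
      rw [MulEquiv.symm_apply_eq]; rfl
    rw [h3]; rfl
  have hker : ∀ x : ↥H, ψ x = 1 ↔ ∀ k ∈ K, Commute (x : G) k := by
    intro x
    constructor
    · intro hx k hk
      have h1 := hψ x ⟨k, hk⟩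
      rw [hx, one_mul, inv_one, mul_one] at h1
      have h2 := congrArg Subtype.val (e.injective (Subtype.ext h1))
      exact mul_inv_eq_iff_eq_mul.1 h2.symm
    · intro hx
      apply hinj
      rw [map_one]
      refine MulEquiv.ext fun a => Subtype.ext ?_
      obtain ⟨k, rfl⟩ := e.surjective a
      rw [MulAut.conjNormal_apply, hψ x k, MulAut.one_apply]
      congr 2
      exact Subtype.ext (by show (x : G) * k * (x : G)⁻¹ = k; rw [(hx k k.2).eq, mul_inv_cancel_right])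
  have hψK : ∀ k : ↥K, ψ ⟨k, hKH k.2⟩ = ((e k : alternatingGroup (Fin 5)) : Equiv.Perm (Fin 5)) := by
    intro k
    apply hinj
    refine MulEquiv.ext fun a => Subtype.ext ?_
    obtain ⟨k', rfl⟩ := e.surjective a
    rw [MulAut.conjNormal_apply, hψ ⟨k, hKH k.2⟩ k', MulAut.conjNormal_apply]
    show ((e (k * k' * k⁻¹) : alternatingGroup (Fin 5)) : Equiv.Perm (Fin 5)) = _
    rw [map_mul, map_mul, map_inv]
    rfl
  -- the centralizer of `K`
  set V := ψ.ker.map H.subtype with hV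
  have hVmem : ∀ x, x ∈ V ↔ Commute x t ∧ ∀ k ∈ K, Commute x k := by
    intro x
    constructor
    · rintro ⟨y, hy, rfl⟩
      exact ⟨mem_cent.1 y.2, (hker y).1 hy⟩
    · rintro ⟨h1, h2⟩
      exact ⟨⟨x, mem_cent.2 h1⟩, (hker _).2 h2, rfl⟩
  have hwit : z ∈ K := hWK d.zW
  have huK : u ∈ K := hWK d.uW
  -- each element of the torus is congruent to one of `W`
  set T := Subgroup.centralizer ({z} : Set G) ⊓ H
  have hT : ∀ x ∈ T, Commute x z ∧ Commute x t := fun x hx => ⟨mem_cent.1 hx.1, mem_cent.1 hx.2⟩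
  have hTW : ∀ x ∈ T, ∃ w ∈ W, x * w ∈ T ⊓ V := by
    intro x hx
    obtain ⟨hxz, hxt⟩ := hT x hx
    have hcom : ∀ w, w ∈ W → Commute x w := fun w hw => d.comm hxz hxt (d.W_comm hw).1 (d.W_comm hw).2
    set σ := ψ ⟨x, mem_cent.2 hxt⟩ with hσ
    have hσc : ∀ w (hw : w ∈ W), σ * ((e ⟨w, hWK hw⟩ : alternatingGroup (Fin 5)) : Equiv.Perm (Fin 5)) =
        ((e ⟨w, hWK hw⟩ : alternatingGroup (Fin 5)) : Equiv.Perm (Fin 5)) * σ := fun w hw => by
      refine mul_inv_eq_iff_eq_mul.1 ?_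
      rw [hσ, hψ _ ⟨w, hWK hw⟩]
      congr 2
      exact Subtype.ext (by show x * w * x⁻¹ = w; rw [(hcom w hw).eq, mul_inv_cancel_right])
    let zK : K := ⟨z, hwit⟩
    let uK : K := ⟨u, huK⟩
    have e2 : ∀ w (hw : w ∈ W), e ⟨w, hWK hw⟩ * e ⟨w, hWK hw⟩ = 1 := fun w hw => by
      rw [← map_mul, show (⟨w, hWK hw⟩ : K) * ⟨w, hWK hw⟩ = 1 from
        Subtype.ext (d.hsq w (d.W_comm hw).1 (d.W_comm hw).2), map_one]
    have e1 : ∀ w (hw : w ∈ W), w ≠ 1 → e ⟨w, hWK hw⟩ ≠ 1 := fun w hw hw1 hh =>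
      hw1 (congrArg Subtype.val (e.injective (hh.trans (map_one e).symm)))
    obtain ⟨w, hw, hσw⟩ : ∃ w, ∃ hw : w ∈ W, σ = ((e ⟨w, hWK hw⟩ : alternatingGroup (Fin 5)) : Equiv.Perm (Fin 5)) := by
      rcases alt_four_cent (e zK) (e2 z d.zW) (e1 z d.zW d.z1) (e uK) (e2 u d.uW) (e1 u d.uW d.u1)
        (fun hh => d.huz (congrArg Subtype.val (e.injective hh)).symm)
        (by rw [← map_mul, ← map_mul, show zK * uK = uK * zK from Subtype.ext d.hzu.eq])
        σ (hσc z d.zW) (hσc u d.uW) with hh | hh | hh | hh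
      · exact ⟨1, W.one_mem, by rw [hh, show (⟨1, hWK W.one_mem⟩ : K) = 1 from rfl, map_one, OneMemClass.coe_one]⟩
      · exact ⟨z, d.zW, hh⟩
      · exact ⟨u, d.uW, hh⟩
      · exact ⟨z * u, W.mul_mem d.zW d.uW, by
          rw [hh, ← map_mul]; rfl⟩
    refine ⟨w, hw, ⟨mem_cent.2 (hxz.mul_left (d.W_comm hw).1), mem_cent.2 (hxt.mul_left (d.W_comm hw).2)⟩,
      ⟨⟨x, mem_cent.2 hxt⟩ * ⟨w, hKH (hWK hw)⟩, ?_, rfl⟩⟩
    rw [SetLike.mem_coe, MonoidHom.mem_ker, map_mul, hψK ⟨w, hWK hw⟩, ← hσ, hσw, ← Subgroup.coe_mul, e2 w hw]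
    rfl
  haveI := Fintype.ofFinite G
  have hTV : 4 ≤ Nat.card (T ⊓ V : Subgroup G) := by
    choose w hw hxw using hTW
    have hinj' : Function.Injective fun x : T => ((⟨w x x.2, hw x x.2⟩ : W),
        (⟨(x : G) * w x x.2, hxw x x.2⟩ : (T ⊓ V : Subgroup G))) := by
      intro a b hab
      obtain ⟨h1, h2⟩ := Prod.mk.injEq _ _ _ _ ▸ hab
      have h1' : w a a.2 = w b b.2 := congrArg Subtype.val h1
      have h2' : (a : G) * w a a.2 = (b : G) * w b b.2 := congrArg Subtype.val h2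
      rw [h1'] at h2'
      exact Subtype.ext (mul_right_cancel h2')
    have := Nat.card_le_card_of_injective _ hinj'
    rw [Nat.card_prod, d.hW4, show Nat.card T = 16 from d.hT16] at this
    omega
  have hrange : 60 ≤ Nat.card ψ.range := by
    have : Function.Injective fun k : K => (⟨ψ ⟨k, hKH k.2⟩, ⟨_, rfl⟩⟩ : ψ.range) := by
      intro a b hab
      have := congrArg Subtype.val hab
      simp only [hψK] at this
      exact e.injective (Subtype.ext this)
    have h1 := Nat.card_le_card_of_injective _ this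
    rwa [Nat.card_congr e.toEquiv, Nat.card_eq_fintype_card, InvChar.J2Order.alt_card] at h1
  have hmul : Nat.card V * Nat.card ψ.range = 240 := by
    rw [hV, Subgroup.card_map_of_injective H.subtype_injective, ← Subgroup.index_ker, Subgroup.card_mul_index, h240]
  have hVle : Nat.card V ≤ 4 := by
    have := Nat.mul_le_mul_left (Nat.card V) hrange
    omega
  have hTVeq : T ⊓ V = V := Subgroup.eq_of_le_of_card_ge inf_le_right (hVle.trans hTV)
  have hV4 : Nat.card V = 4 := by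
    refine le_antisymm hVle ?_
    rwa [hTVeq] at hTV
  have hr60 : Nat.card ψ.range = 60 := by rw [hV4] at hmul; omega
  refine ⟨V, K, ⟨h.hz, ht, hn, ⟨?_, hKH, fun a ha b hb => ((hVmem a).1 ha).2 b hb, ?_, ?_⟩, hV4, ?_,
    (hVmem t).2 ⟨Commute.refl t, fun k hk => (hKt k hk).symm⟩, ⟨e⟩, ?_, ?_⟩, h240⟩
  · exact Subgroup.map_subtype_le _
  · rw [eq_bot_iff]
    rintro x ⟨hxV, hxK⟩
    refine Subgroup.mem_bot.2 (congrArg Subtype.val (e.injective (a₂ := 1) (?_ : e ⟨x, hxK⟩ = e 1)))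
    rw [map_one]
    refine alt_center _ fun b => ?_
    obtain ⟨k, rfl⟩ := e.surjective b
    rw [← map_mul, ← map_mul]
    exact congrArg e (Subtype.ext (((hVmem x).1 hxV).2 k k.2).eq)
  · refine le_antisymm (sup_le (Subgroup.map_subtype_le _) hKH) fun x hx => ?_
    set J : Subgroup (Equiv.Perm (Fin 5)) := (ψ.comp (Subgroup.inclusion hKH)).range
    have hJ : J = ψ.range := by
      refine Subgroup.eq_of_le_of_card_ge (fun a ha => ?_) ?_
      · obtain ⟨k, rfl⟩ := ha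
        exact ⟨_, rfl⟩
      · rw [hr60]
        have : Function.Injective (ψ.comp (Subgroup.inclusion hKH)) := fun a b hab => by
          change ψ ⟨a, hKH a.2⟩ = ψ ⟨b, hKH b.2⟩ at hab
          rw [hψK, hψK] at hab
          exact e.injective (Subtype.ext hab)
        rw [← Nat.card_congr (MonoidHom.ofInjective this).toEquiv, Nat.card_congr e.toEquiv,
          Nat.card_eq_fintype_card, InvChar.J2Order.alt_card]
    obtain ⟨k, hk⟩ : ψ ⟨x, hx⟩ ∈ J := by rw [hJ]; exact ⟨_, rfl⟩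
    rw [show x = x * (k : G)⁻¹ * k by group]
    refine Subgroup.mul_mem _ (Subgroup.mem_sup_left ⟨⟨x, hx⟩ * (Subgroup.inclusion hKH k)⁻¹, ?_, rfl⟩)
      (Subgroup.mem_sup_right k.2)
    rw [SetLike.mem_coe, MonoidHom.mem_ker, map_mul, map_inv]
    exact mul_inv_eq_one.2 hk.symm
  · intro v hv
    rw [← hTVeq] at hv
    rw [pow_two]
    exact d.hsq v (hT v hv.1).1 (hT v hv.1).2
  · intro x hx hx2
    have hne : (⟨x, hx⟩ : K) ≠ 1 := fun hh => by
      have : x = 1 := congrArg Subtype.val hh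
      rw [this, orderOf_one] at hx2; omega
    obtain ⟨a, ha⟩ := alt_invol_conj (e ⟨x, hx⟩) (e ⟨z, hwit⟩)
      (by rw [← map_mul, show (⟨x, hx⟩ : K) * ⟨x, hx⟩ = 1 from
        Subtype.ext (CfsgLib.Invol.mul_self_eq_one hx2), map_one])
      (fun hh => hne (e.injective (hh.trans (map_one e).symm)))
      (by rw [← map_mul, show (⟨z, hwit⟩ : K) * ⟨z, hwit⟩ = 1 from Subtype.ext d.zz, map_one])
      (fun hh => d.z1 (congrArg Subtype.val (e.injective (hh.trans (map_one e).symm))))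
    obtain ⟨k, rfl⟩ := e.surjective a
    rw [← map_inv, ← map_mul, ← map_mul] at ha
    exact isConj_iff.2 ⟨k, congrArg Subtype.val (e.injective ha)⟩
  · intro x hx hx2 hxK
    refine (h.classes ht hn x hx2).resolve_left fun hc => ?_
    obtain ⟨a, hat, haz⟩ := d.conj_into (mem_cent.1 hx) (CfsgLib.Invol.mul_self_eq_one hx2)
    have hW' := d.hclass _ haz ((hat.mul_left (mem_cent.1 hx)).mul_left hat.inv_left)
      (hc.symm.trans (isConj_iff.2 ⟨a, rfl⟩))
    refine hxK ?_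
    have := hKn a⁻¹ hat.inv_left _ (hWK hW')
    rwa [inv_inv, show a⁻¹ * (a * x * a⁻¹) * a = x by group] at this

/-- The centralizer of the second class is the product of a four-group and `A₅`. -/
theorem exists_ct {t₀ : G} (ht₀ : orderOf t₀ = 2) (hn₀ : ¬ IsConj z t₀) :
    ∃ (t : G) (V B : Subgroup G), InvChar.J2Order.CtHyp z t V B ∧ Commute t z ∧
      Nat.card (Subgroup.centralizer ({t} : Set G)) = 240 := by
  obtain ⟨g, hg⟩ := h.conj_into (CfsgLib.Invol.mul_self_eq_one ht₀)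
  obtain ⟨V, B, h1, h2⟩ := h.ct_of_comm (t := g * t₀ * g⁻¹) (by rw [CfsgLib.Invol.orderOf_conj, ht₀])
    (fun hc => hn₀ (hc.trans (isConj_iff.2 ⟨g⁻¹, by group⟩))) hg
  exact ⟨_, V, B, h1, hg, h2⟩

/-- The centralizer of an involution of the second class, for a suitable conjugate of `z`. -/
theorem exists_ct_at {t : G} (ht : orderOf t = 2) (hn : ¬ IsConj z t) :
    ∃ (z' : G) (V B : Subgroup G), InvChar.J2Order.CtHyp z' t V B ∧
      Nat.card (Subgroup.centralizer ({t} : Set G)) = 240 := by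
  obtain ⟨g, hg⟩ := h.conj_into (CfsgLib.Invol.mul_self_eq_one ht)
  have hc : IsConj z (g⁻¹ * z * g) := isConj_iff.2 ⟨g⁻¹, by group⟩
  obtain ⟨Q', f', h'⟩ := h.exists_hyp hc
  refine ⟨g⁻¹ * z * g, h'.ct_of_comm ht (fun hh => hn (hc.trans hh)) ?_⟩
  have := commute_conj g⁻¹ hg
  rwa [inv_inv, show g⁻¹ * (g * t * g⁻¹) * g = t by group] at this

/-- The centralizer of `z` in the form used for the order count. -/
theorem cz_hyp {t : G} (ht : orderOf t = 2) (hn : ¬ IsConj z t) (htz : Commute t z) :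
    InvChar.J2Order.CzHyp z t Q f := by
  refine ⟨h.hQle, h.hker, h.hsurj, fun a ha ha1 => ?_, h.hQ, h.hzQ, h.hsq, h.hcomm, h.hcent,
    fun x hx hx2 => (h.isConj_z hx hx2).symm, fun x hx hx2 hxQ => ?_, h.hfaith⟩
  · have htt := CfsgLib.Invol.mul_self_eq_one ht
    obtain ⟨c, hc⟩ := alt_invol_conj _ a (h.map_sq htz htt)
      (fun e => h.not_mem_of_not_conj ht hn ((h.hker _).1 e)) ha ha1
    obtain ⟨k, rfl⟩ := h.hsurj c
    refine ⟨k * ⟨t, mem_cent.2 htz⟩ * k⁻¹, by rw [map_mul, map_mul, map_inv, hc], ?_⟩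
    rw [show k * ⟨t, mem_cent.2 htz⟩ * k⁻¹ * (k * ⟨t, mem_cent.2 htz⟩ * k⁻¹) =
      k * (⟨t, mem_cent.2 htz⟩ * ⟨t, mem_cent.2 htz⟩) * k⁻¹ by group,
      show (⟨t, mem_cent.2 htz⟩ : ↥(Subgroup.centralizer ({z} : Set G))) * ⟨t, mem_cent.2 htz⟩ = 1 from
        Subtype.ext htt, mul_one, mul_inv_cancel]
  · obtain ⟨g, -, hg⟩ := h.outer_conj ht hn htz (mem_cent.1 hx) (CfsgLib.Invol.mul_self_eq_one hx2) hxQ
    exact (isConj_iff.2 ⟨g, hg⟩ : IsConj t x).symm

/-- The order of a group of Hall-Janko type. -/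
theorem card_group {t₀ : G} (ht₀ : orderOf t₀ = 2) (hn₀ : ¬ IsConj z t₀) : Nat.card G = 604800 := by
  obtain ⟨t, V, B, hct, htz, h240⟩ := h.exists_ct ht₀ hn₀
  have hcz := h.cz_hyp hct.ht hct.hzt htz
  have := InvChar.OrderFormula.card_group z t h.hz hct.ht hct.hzt (h.classes hct.ht hct.hzt)
  rw [h240, h.card_centralizer, hcz.count_z hct, hct.count_t] at this
  exact this

end Hyp

end CfsgLib.J2Type
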