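import Cfsg.Agent.Lib.J2Type.Torus

/-!
# The kernel of the transfer in the centralizer of the second class
-/

set_option autoImplicit false
set_option linter.style.haveILetI false

open scoped commutatorElement

namespace CfsgLib.J2Type

universe u

variable {G : Type u} [Group G] [Finite G]

namespace Torus

variable {z u t : G} {W : Subgroup G} (d : Torus z u t W)
include d

/-- The kernel of the transfer to the Sylow subgroup modulo `W`. -/
theorem exists_kernel : ∃ K : Subgroup G, K ≤ Subgroup.centralizer ({t} : Set G) ∧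
    (∀ h, Commute h t → ∀ k ∈ K, h * k * h⁻¹ ∈ K) ∧
    Nat.card (Subgroup.centralizer ({t} : Set G)) = 4 * Nat.card K ∧ W ≤ K ∧
    (∀ k ∈ K, Commute k z → k ∈ W) ∧ ∃ k ∈ K, k * z * k⁻¹ = u ∧ k * u * k⁻¹ = u * z := by
  classical
  haveI : Fact (Nat.Prime 2) := ⟨Nat.prime_two⟩
  set H := Subgroup.centralizer ({t} : Set G) with hH
  obtain ⟨P, hP⟩ := d.exists_sylow
  have hWH : W ≤ H := fun w hw => mem_cent'.2 (d.W_comm hw).2
  have hPc : ∀ x : ↥H, x ∈ (P : Subgroup ↥H) ↔ Commute (x : G) z := fun x => by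
    rw [hP, Subgroup.mem_subgroupOf, mem_cent']
  have hPcomm : IsMulCommutative (P : Subgroup ↥H) := ⟨⟨fun a b => Subtype.ext (Subtype.ext
    (d.comm ((hPc a).1 a.2) (mem_cent'.1 a.1.2) ((hPc b).1 b.2) (mem_cent'.1 b.1.2)).eq)⟩⟩
  obtain ⟨σ, hσt, hσz, hσu⟩ := d.hσ
  -- the focal subgroup
  have hfocal : (P : Subgroup ↥H).focalSubgroup = W.subgroupOf H := by
    refine le_antisymm ?_ ?_
    · rw [CfsgLib.Transfer.abelian_sylow_focal_eq P hPcomm, Subgroup.commutator_le]
      intro x hx n hn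
      rw [Subgroup.mem_subgroupOf]
      have h := d.comm_mod (n := (n : G)) (mem_cent'.1 n.2) (fun s hsz hst =>
        (hPc _).1 ((Subgroup.mem_normalizer_iff.1 hn ⟨s, mem_cent'.2 hst⟩).1 ((hPc _).2 hsz)))
        (x := (x : G)⁻¹) ((hPc x).1 hx).inv_left (mem_cent'.1 x.2).inv_left
      rw [inv_inv] at h
      have e : (⁅x, n⁆ : ↥H).val = (x : G) * ((n : G) * (x : G)⁻¹ * (n : G)⁻¹) := by
        rw [commutatorElement_def]; simp [mul_assoc]
      rw [e]; exact h
    · rw [← Subgroup.commutator_inf_eq_focalSubgroup P]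
      have key : ∀ v ∈ W, ∀ x : ↥H, (x : G) = v * (σ * v * σ⁻¹) → x ∈ commutator ↥H := by
        intro v hv x hx
        have h1 : ⁅(⟨v, hWH hv⟩ : ↥H), (⟨σ, mem_cent'.2 hσt⟩ : ↥H)⁆ ∈ commutator ↥H := by
          rw [commutator_def]
          exact Subgroup.commutator_mem_commutator (Subgroup.mem_top _) (Subgroup.mem_top _)
        convert h1 using 1
        apply Subtype.ext
        have hvv : v⁻¹ = v := inv_eq_of_mul_eq_one_left (d.hsq v (d.W_comm hv).1 (d.W_comm hv).2)
        rw [hx, commutatorElement_def]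
        simp [mul_assoc, hvv]
      have h1 : (⟨u * z, hWH d.uzW⟩ : ↥H) ∈ commutator ↥H :=
        key z d.zW _ (by rw [hσz]; exact d.hzu.eq.symm)
      have h2 : (⟨z, hWH d.zW⟩ : ↥H) ∈ commutator ↥H :=
        key u d.uW _ (by rw [hσu, ← mul_assoc, d.uu, one_mul])
      intro x hx
      refine ⟨?_, (hPc x).2 (d.W_comm hx).1⟩
      rcases (d.hW _).1 hx with e | e | e | e
      · rw [show x = 1 from Subtype.ext e]; exact one_mem _
      · rw [show x = ⟨z, hWH d.zW⟩ from Subtype.ext e]; exact h2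
      · rw [show x = ⟨u * z, hWH d.uzW⟩ * ⟨z, hWH d.zW⟩ from Subtype.ext (e.trans (by
          show u = u * z * z
          rw [mul_assoc, d.zz, mul_one]))]
        exact mul_mem h1 h2
      · rw [show x = ⟨u * z, hWH d.uzW⟩ from Subtype.ext e]; exact h1
  -- the kernel
  obtain ⟨K', hK'⟩ : ∃ K', K' = (P : Subgroup ↥H).transferFocal.ker := ⟨_, rfl⟩
  haveI hnK : K'.Normal := hK' ▸ MonoidHom.normal_ker _
  have hcardP : Nat.card (P : Subgroup ↥H) = 16 := by
    rw [← d.hT16]
    exact Nat.card_congr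
      { toFun := fun x => ⟨(x.1 : G), mem_cent'.2 ((hPc x.1).1 x.2), x.1.2⟩
        invFun := fun x => ⟨⟨x.1, x.2.2⟩, (hPc _).2 (mem_cent'.1 x.2.1)⟩
        left_inv := fun x => rfl
        right_inv := fun x => rfl }
  have hquot : Nat.card (↥H ⧸ K') = 4 := by
    rw [show Nat.card (↥H ⧸ K') = Nat.card ((P : Subgroup ↥H) ⧸ (P : Subgroup ↥H).focalSubgroupOf) by
      subst hK'
      exact Nat.card_congr (Subgroup.transferFocal.quotientKerMulEquivQuotientFocalSubroupOf P).toEquiv]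
    have h := (P : Subgroup ↥H).focalSubgroupOf.card_mul_index
    rw [Subgroup.index_eq_card, ← Subgroup.card_map_of_injective (P : Subgroup ↥H).subtype_injective,
      Subgroup.map_focalSubgroupOf, hfocal, hcardP,
      Nat.card_congr (Subgroup.subgroupOfEquivOfLe hWH).toEquiv, d.hW4] at h
    omega
  have hKP : ∀ x : ↥H, x ∈ K' → Commute (x : G) z → (x : G) ∈ W := fun x hx hxz => by
    have : x ∈ W.subgroupOf H := by
      rw [← hfocal, ← Subgroup.ker_transferFocal_inf_eq_focalSubgroup P, ← hK']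
      exact ⟨hx, (hPc x).2 hxz⟩
    exact this
  have hWK : ∀ x : ↥H, (x : G) ∈ W → x ∈ K' := fun x hx => by
    have : x ∈ (P : Subgroup ↥H).focalSubgroup := by rw [hfocal]; exact hx
    rw [← Subgroup.ker_transferFocal_inf_eq_focalSubgroup P, ← hK'] at this
    exact this.1
  refine ⟨K'.map H.subtype, Subgroup.map_subtype_le _, ?_, ?_, ?_, ?_, ?_⟩
  · rintro h hht _ ⟨k, hk, rfl⟩
    exact ⟨⟨h, mem_cent'.2 hht⟩ * k * ⟨h, mem_cent'.2 hht⟩⁻¹,
      hnK.conj_mem k hk _, rfl⟩
  · rw [Subgroup.card_map_of_injective H.subtype_injective, ← hquot]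
    exact Subgroup.card_eq_card_quotient_mul_card_subgroup K'
  · exact fun w hw => ⟨⟨w, hWH hw⟩, hWK _ hw, rfl⟩
  · rintro _ ⟨k, hk, rfl⟩ hkz
    exact hKP k hk hkz
  · set s : ↥H := ⟨σ, mem_cent'.2 hσt⟩
    have hs4 : s ^ 4 ∈ K' := by
      rw [← QuotientGroup.eq_one_iff, QuotientGroup.mk_pow, ← hquot]
      exact pow_card_eq_one'
    refine ⟨((s ^ 4 : ↥H) : G), ⟨_, hs4, rfl⟩, ?_⟩
    have hσuz : σ * (u * z) * σ⁻¹ = z := by
      rw [show σ * (u * z) * σ⁻¹ = (σ * u * σ⁻¹) * (σ * z * σ⁻¹) by group, hσu, hσz, ← d.hzu.eq,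
        mul_assoc, d.uu, mul_one]
    have e : ∀ x : G, ((s ^ 4 : ↥H) : G) * x * ((s ^ 4 : ↥H) : G)⁻¹ =
        σ * (σ * (σ * (σ * x * σ⁻¹) * σ⁻¹) * σ⁻¹) * σ⁻¹ := fun x => by
      simp [s, pow_succ, mul_assoc]
    rw [e, e, hσz, hσu, hσuz, hσz]
    exact ⟨rfl, hσu⟩

omit [Finite G] in
/-- An involution of `C(t)` normalizing `W` centralizes `z`. -/
theorem invol_mem {y : G} (hyt : Commute y t) (hyy : y * y = 1) (hyW : ∀ w ∈ W, y * w * y⁻¹ ∈ W) :
    Commute y z := by
  by_contra hyz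
  set a := y * z * y⁻¹ with ha
  have haW : a ∈ W := hyW z d.zW
  have haz : a ≠ z := fun e => hyz (mul_inv_eq_iff_eq_mul.1 e)
  have hya : y * a * y⁻¹ = z := by
    calc y * a * y⁻¹ = (y * y) * z * (y * y)⁻¹ := by rw [ha]; group
      _ = z := by rw [hyy]; group
  refine hyz (d.fix_mem hyt (W.mul_mem d.zW haW) (fun e => haz ?_) ?_)
  · rw [eq_inv_of_mul_eq_one_right e, inv_eq_of_mul_eq_one_left d.zz]
  · calc y * (z * a) * y⁻¹ = (y * z * y⁻¹) * (y * a * y⁻¹) := by group
      _ = a * z := by rw [← ha, hya]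
      _ = z * a := (d.W_comm haW).1.eq

/-- Either `K ≅ A₅`, or `W` is normal in `C(t)`, which then has order forty-eight. -/
theorem dichotomy :
    (∃ K : Subgroup G, K ≤ Subgroup.centralizer ({t} : Set G) ∧
      (∀ h, Commute h t → ∀ k ∈ K, h * k * h⁻¹ ∈ K) ∧ W ≤ K ∧ (∀ k ∈ K, Commute k z → k ∈ W) ∧
      Nat.card (Subgroup.centralizer ({t} : Set G)) = 240 ∧ Nonempty (↥K ≃* alternatingGroup (Fin 5))) ∨
    (Nat.card (Subgroup.centralizer ({t} : Set G)) = 48 ∧
      ∀ y, Commute y t → y * y = 1 → Commute y z) := by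
  classical
  obtain ⟨K, hKH, hKn, hcard, hWK, hKz, k, hk, hkz, hku⟩ := d.exists_kernel
  by_cases hWn : ∀ g ∈ K, ∀ w ∈ W, g * w * g⁻¹ ∈ W
  · right
    have huz1 : u * z ≠ 1 := fun e => d.huz (by
      rw [eq_inv_of_mul_eq_one_left e, inv_eq_of_mul_eq_one_left d.zz])
    have horb : Nat.card {y : G // ∃ s ∈ K, s * z * s⁻¹ = y} = 3 := by
      have hset : {y : G | ∃ s ∈ K, s * z * s⁻¹ = y} = {z, u, u * z} := by
        ext y
        constructor
        · rintro ⟨s, hs, rfl⟩
          rcases (d.hW _).1 (hWn s hs z d.zW) with e | e | e | e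
          · exact absurd (conj_eq_one_iff.1 e) d.z1
          all_goals simp [e]
        · rintro (rfl | rfl | rfl)
          · exact ⟨1, K.one_mem, by group⟩
          · exact ⟨k, hk, hkz⟩
          · refine ⟨k * k, K.mul_mem hk hk, ?_⟩
            calc k * k * z * (k * k)⁻¹ = k * (k * z * k⁻¹) * k⁻¹ := by group
              _ = u * z := by rw [hkz, hku]
      rw [show Nat.card {y : G // ∃ s ∈ K, s * z * s⁻¹ = y} = Nat.card ({z, u, u * z} : Set G) by rw [← hset]; rfl,
        Nat.card_coe_set_eq, Set.ncard_insert_of_notMem, Set.ncard_pair]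
      · exact fun e => d.z1 (mul_eq_left.1 e.symm)
      · simp only [Set.mem_insert_iff, Set.mem_singleton_iff, not_or]
        exact ⟨d.huz.symm, fun e => d.u1 (mul_eq_right.1 e.symm)⟩
    have hst : Nat.card (K ⊓ Subgroup.centralizer ({z} : Set G) : Subgroup G) = 4 := by
      rw [← d.hW4, show K ⊓ Subgroup.centralizer ({z} : Set G) = W from le_antisymm
        (fun g hg => hKz g hg.1 (mem_cent'.1 hg.2)) (fun w hw => ⟨hWK hw, mem_cent'.2 (d.W_comm hw).1⟩)]
    have hK := card_conj_image K z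
    rw [horb, hst] at hK
    refine ⟨by omega, fun y hyt hyy => d.invol_mem hyt hyy fun w hw => ?_⟩
    have hyK := hKn y hyt w (hWK hw)
    refine hKz _ hyK (d.invol_mem ((hyt.mul_left (d.W_comm hw).2).mul_left hyt.inv_left) ?_ (hWn _ hyK))
    rw [show y * w * y⁻¹ * (y * w * y⁻¹) = y * (w * w) * y⁻¹ by group,
      d.hsq w (d.W_comm hw).1 (d.W_comm hw).2]
    group
  left
  refine ⟨K, hKH, hKn, hWK, hKz, ?_⟩
  have hKt : ∀ g ∈ K, Commute g t := fun g hg => mem_cent'.1 (hKH hg)
  let zK : K := ⟨z, hWK d.zW⟩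
  have hC : ∀ c : K, c ∈ Subgroup.centralizer ({zK} : Set K) ↔ (c : G) ∈ W := fun c => by
    rw [mem_cent']
    constructor
    · exact fun h => hKz c c.2 (congrArg Subtype.val h.eq :)
    · exact fun h => Subtype.ext (d.W_comm h).1.eq
  have hC4 : Nat.card (Subgroup.centralizer ({zK} : Set K)) = 4 := by
    rw [← d.hW4]
    exact Nat.card_congr
      { toFun := fun c => ⟨(c.1 : G), (hC c.1).1 c.2⟩
        invFun := fun w => ⟨⟨w.1, hWK w.2⟩, (hC _).2 w.2⟩
        left_inv := fun c => rfl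
        right_inv := fun w => rfl }
  have hz2 : orderOf zK = 2 := by
    rw [← Subgroup.orderOf_coe]; exact CfsgLib.Invol.orderOf_eq_two d.z1 d.zz
  have hiso : Nonempty (↥K ≃* alternatingGroup (Fin 5)) := by
    refine CfsgLib.InvChar.ElemFour.main zK hz2 hC4 (fun c hc => ?_) ?_ ?_
    · have hcW := (hC c).1 hc
      rw [pow_two]
      exact Subtype.ext (d.hsq _ (d.W_comm hcW).1 (d.W_comm hcW).2)
    · rintro ⟨P, N, hN, hcompl⟩
      haveI : Fact (Nat.Prime 2) := ⟨Nat.prime_two⟩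
      let π := QuotientGroup.mk' N
      have hidx : N.index = Nat.card (P : Subgroup K) := by
        have h1 := hcompl.card_mul
        have h2 := N.card_mul_index
        exact Nat.eq_of_mul_eq_mul_left (Nat.card_pos (α := N)) (h2.trans h1.symm)
      obtain ⟨m, hm⟩ : ∃ m, Nat.card (P : Subgroup K) = 2 ^ m :=
        (IsPGroup.iff_card.1 P.2)
      have hodd : ¬ 2 ∣ Nat.card N := by
        have hi : (P : Subgroup K).index = Nat.card N := by
          have h1 := hcompl.card_mul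
          have h2 := (P : Subgroup K).card_mul_index
          refine Nat.eq_of_mul_eq_mul_left (Nat.card_pos (α := (P : Subgroup K))) (h2.trans ?_)
          rw [← h1]; ring
        rw [← hi]; exact P.not_dvd_index
      let kK : K := ⟨k, hk⟩
      have hcube : Commute ((k : G) ^ 3) z := by
        have huzz : k * (u * z) * k⁻¹ = z := by
          rw [show k * (u * z) * k⁻¹ = (k * u * k⁻¹) * (k * z * k⁻¹) by group, hku, hkz, ← d.hzu.eq,
            mul_assoc, d.uu, mul_one]
        refine mul_inv_eq_iff_eq_mul.1 ?_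
        calc k ^ 3 * z * (k ^ 3)⁻¹ = k * (k * (k * z * k⁻¹) * k⁻¹) * k⁻¹ := by simp [pow_succ, mul_assoc]
          _ = z := by rw [hkz, hku, huzz]
      have hW3 : (k : G) ^ 3 ∈ W := hKz _ (K.pow_mem hk 3) hcube
      have hπ3 : Commute (π (kK ^ 3)) (π zK) := (show Commute (kK ^ 3) zK from Subtype.ext (by
        simpa using ((d.W_comm hW3).1).eq)).map π
      have hpow : π kK ^ 2 ^ m = 1 := by
        rw [← hm, ← hidx]
        exact pow_card_eq_one'
      have hco : Nat.Coprime 3 (orderOf (π kK)) :=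
        ((by norm_num : Nat.Coprime 3 2).pow_right m).coprime_dvd_right (orderOf_dvd_of_pow_eq_one hpow)
      obtain ⟨j, hj⟩ := exists_pow_eq_self_of_coprime hco
      have hπ : Commute (π kK) (π zK) := by
        rw [← hj, ← map_pow]; exact hπ3.pow_left j
      have hmem : (⟨u, hWK d.uW⟩ : K) * zK ∈ N := by
        rw [← QuotientGroup.eq_one_iff]
        show π (⟨u, hWK d.uW⟩ * zK) = 1
        rw [map_mul, show (⟨u, hWK d.uW⟩ : K) = kK * zK * kK⁻¹ from Subtype.ext hkz.symm, map_mul,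
          map_mul, map_inv, hπ.eq, mul_inv_cancel_right, ← map_mul,
          show zK * zK = 1 from Subtype.ext d.zz, map_one]
      refine hodd ?_
      have hord : orderOf ((⟨u, hWK d.uW⟩ : K) * zK) = 2 := by
        rw [← Subgroup.orderOf_coe]
        exact CfsgLib.Invol.orderOf_eq_two (fun e => d.huz (by
          have e' : u * z = 1 := e
          rw [eq_inv_of_mul_eq_one_left e', inv_eq_of_mul_eq_one_left d.zz]))
          (d.hsq _ (d.W_comm d.uzW).1 (d.W_comm d.uzW).2)
      have := orderOf_dvd_natCard (G := N) ⟨_, hmem⟩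
      rwa [← Subgroup.orderOf_coe, hord] at this
    · intro E hE hel
      by_contra hcard'
      refine hWn ?_
      have h24 : Nat.card E = 2 ∨ Nat.card E = 4 := by omega
      haveI := hel.1
      have hEc : ∀ a ∈ E, ∀ b ∈ E, a * b = b * a := fun a ha b hb =>
        congrArg Subtype.val (mul_comm' (⟨a, ha⟩ : E) ⟨b, hb⟩)
      obtain ⟨e₀, he₀, he₀1⟩ : ∃ e ∈ E, e ≠ 1 := by
        by_contra! hall
        have : E = ⊥ := (Subgroup.eq_bot_iff_forall E).2 hall
        rw [this, Subgroup.card_bot] at h24; omega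
      obtain ⟨e, he, he1, hez⟩ : ∃ e ∈ E, e ≠ 1 ∧ Commute e zK := by
        by_cases hc : zK * e₀ * zK⁻¹ = e₀
        · exact ⟨e₀, he₀, he₀1, (show Commute zK e₀ from mul_inv_eq_iff_eq_mul.1 hc).symm⟩
        · have hzz : zK⁻¹ = zK := inv_eq_of_mul_eq_one_left (Subtype.ext d.zz)
          have hc' := hE.conj_mem e₀ he₀ zK
          have hee : e₀ * e₀ = 1 := by
            have := hel.2 e₀ he₀
            rwa [pow_two] at this
          refine ⟨e₀ * (zK * e₀ * zK⁻¹), E.mul_mem he₀ hc', fun hh => hc ?_, ?_⟩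
          · rw [eq_inv_of_mul_eq_one_right hh, inv_eq_of_mul_eq_one_left hee]
          · rw [Commute, SemiconjBy]
            calc e₀ * (zK * e₀ * zK⁻¹) * zK = e₀ * zK * e₀ := by group
              _ = (zK * zK) * (e₀ * zK * e₀) := by rw [show zK * zK = 1 from Subtype.ext d.zz, one_mul]
              _ = zK * ((zK * e₀ * zK⁻¹) * e₀) := by rw [hzz]; group
              _ = zK * (e₀ * (zK * e₀ * zK⁻¹)) := by rw [hEc _ hc' e₀ he₀]
      have heW : (e : G) ∈ W := (hC e).1 (mem_cent'.2 hez)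
      set S := E.map K.subtype
      have hSconj : ∀ g ∈ K, ∀ x ∈ S, g * x * g⁻¹ ∈ S := by
        rintro g hg _ ⟨x, hx, rfl⟩
        exact ⟨⟨g, hg⟩ * x * ⟨g, hg⟩⁻¹, hE.conj_mem x hx _, rfl⟩
      have huzz : k * (u * z) * k⁻¹ = z := by
        rw [show k * (u * z) * k⁻¹ = (k * u * k⁻¹) * (k * z * k⁻¹) by group, hku, hkz, ← d.hzu.eq,
          mul_assoc, d.uu, mul_one]
      have hstep : (z ∈ S → u ∈ S) ∧ (u ∈ S → u * z ∈ S) ∧ (u * z ∈ S → z ∈ S) :=
        ⟨fun h => hkz ▸ hSconj k hk z h, fun h => hku ▸ hSconj k hk u h,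
          fun h => huzz ▸ hSconj k hk _ h⟩
      have heS : (e : G) ∈ S := ⟨e, he, rfl⟩
      have hzS : z ∈ S := by
        rcases (d.hW _).1 heW with h | h | h | h
        · exact absurd (Subtype.ext h) he1
        all_goals rw [h] at heS
        · exact heS
        · exact hstep.2.2 (hstep.2.1 heS)
        · exact hstep.2.2 heS
      have hWS : W ≤ S := fun w hw => by
        rcases (d.hW w).1 hw with h | h | h | h <;> rw [h]
        · exact S.one_mem
        · exact hzS
        · exact hstep.1 hzS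
        · exact hstep.2.1 (hstep.1 hzS)
      have hWS' : W = S := Subgroup.eq_of_le_of_card_ge hWS (by
        rw [d.hW4, Subgroup.card_map_of_injective K.subtype_injective]; omega)
      rw [hWS']
      exact hSconj
  refine ⟨?_, hiso⟩
  obtain ⟨e⟩ := hiso
  rw [hcard, Nat.card_congr e.toEquiv, nat_card_alternatingGroup, Nat.card_fin]
  rfl

end Torus

end CfsgLib.J2Type
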