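import Cfsg.Agent.Lib.J2Type.Centralizer
import Cfsg.Agent.Lib.Solvable.Core
import Mathlib.GroupTheory.NoncommCoprod
import Mathlib.GroupTheory.SpecificGroups.KleinFour

/-!
# The normalizer of the two-core of the centralizer of the second class
-/

set_option autoImplicit false
set_option linter.style.haveILetI false

namespace CfsgLib.J2Type

universe u

open InvChar.J2Order (CtHyp)

/-- The four-group as a product of two groups of order two. -/
theorem nonempty_klein {V : Type*} [Group V] [Finite V] (h4 : Nat.card V = 4) (h2 : ∀ v : V, v * v = 1) :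
    Nonempty (V ≃* Multiplicative (ZMod 2) × Multiplicative (ZMod 2)) := by
  classical
  haveI := Fintype.ofFinite V
  have hexp : Monoid.exponent V = 2 := by
    refine (Nat.prime_two.eq_one_or_self_of_dvd _
      (Monoid.exponent_dvd_of_forall_pow_eq_one fun v => by rw [pow_two, h2])).resolve_left fun h1 => ?_
    rw [Monoid.exp_eq_one_iff] at h1
    haveI := h1
    rw [Nat.card_eq_one_iff_unique.2 ⟨h1, ⟨1⟩⟩] at h4
    omega
  haveI : IsKleinFour V := ⟨h4, hexp⟩
  have hexp2 : Monoid.exponent (Multiplicative (ZMod 2) × Multiplicative (ZMod 2)) = 2 := by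
    refine (Nat.prime_two.eq_one_or_self_of_dvd _
      (Monoid.exponent_dvd_of_forall_pow_eq_one (by decide))).resolve_left fun h1 => ?_
    rw [Monoid.exp_eq_one_iff] at h1
    haveI := h1
    have h5 := Finite.card_le_one_iff_subsingleton.2 h1
    rw [Nat.card_eq_fintype_card] at h5
    revert h5
    decide
  obtain ⟨e₀⟩ : Nonempty (V ≃ Multiplicative (ZMod 2) × Multiplicative (ZMod 2)) :=
    ⟨Fintype.equivOfCardEq (by rw [← Nat.card_eq_fintype_card, h4]; decide)⟩
  exact ⟨IsKleinFour.mulEquiv' (e₀.trans (Equiv.swap (e₀ 1) 1)) (by simp) hexp2⟩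

variable {G : Type u} [Group G] [Finite G]

/-- A group of order twelve with a normal four-group `V` and no element outside `V` fixing a nontrivial
element `t` of `V` is alternating of degree four. -/
theorem nonempty_alt_four {K : Subgroup G} {V : Subgroup G} {t : G} (hK : Nat.card K = 12) (hVK : V ≤ K)
    (hV : Nat.card V = 4) (hn : ∀ k ∈ K, ∀ v ∈ V, k * v * k⁻¹ ∈ V) (htV : t ∈ V)
    (hfix : ∀ k ∈ K, Commute k t → k ∈ V) : Nonempty (↥K ≃* alternatingGroup (Fin 4)) := by
  classical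
  haveI : Fact (Nat.Prime 3) := ⟨Nat.prime_three⟩
  obtain ⟨s, hs⟩ := exists_prime_orderOf_dvd_card' (G := K) 3 (by rw [hK]; norm_num)
  set S := Subgroup.zpowers s
  have hS : Nat.card S = 3 := by rw [Nat.card_zpowers, hs]
  have hidx : S.index = 4 := by
    have := S.card_mul_index
    rw [hS, hK] at this; omega
  have hcore : S.normalCore = ⊥ := by
    by_contra hne
    have hd := Subgroup.card_dvd_of_le S.normalCore_le
    rw [hS] at hd
    rcases (Nat.dvd_prime Nat.prime_three).1 hd with h1 | h3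
    · exact hne (Subgroup.card_eq_one.1 h1)
    have heq : S.normalCore = S := Subgroup.eq_of_le_of_card_ge S.normalCore_le (by rw [h3, hS])
    have hSn : S.Normal := heq ▸ S.normalCore_normal
    let T : K := ⟨t, hVK htV⟩
    set c := T * s * T⁻¹ * s⁻¹ with hc
    have hcS : c ∈ S := S.mul_mem (hSn.conj_mem s (Subgroup.mem_zpowers s) T) (S.inv_mem (Subgroup.mem_zpowers s))
    have hcV : (c : G) ∈ V := by
      have h1 := hn s s.2 _ (V.inv_mem htV)
      have h2 := V.mul_mem htV h1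
      convert h2 using 1
      simp [hc, T, mul_assoc]
    have hc1 : c = 1 := by
      have hV' : orderOf c ∣ 4 := by
        rw [← Subgroup.orderOf_coe, ← hV]
        have := orderOf_dvd_natCard (G := V) ⟨(c : G), hcV⟩
        rwa [← Subgroup.orderOf_coe] at this
      have hS' : orderOf c ∣ 3 := by
        rw [← hS]
        have := orderOf_dvd_natCard (G := S) ⟨c, hcS⟩
        rwa [← Subgroup.orderOf_coe] at this
      exact orderOf_eq_one_iff.1 (Nat.eq_one_of_dvd_coprimes (by norm_num : Nat.Coprime 4 3) hV' hS')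
    have hcomm : Commute T s := by
      have h1 : T * s * T⁻¹ = s := mul_inv_eq_one.1 hc1
      exact mul_inv_eq_iff_eq_mul.1 h1
    have hsV : (s : G) ∈ V := hfix s s.2 (congrArg Subtype.val hcomm.eq.symm :)
    have := orderOf_dvd_natCard (G := V) ⟨(s : G), hsV⟩
    rw [← Subgroup.orderOf_coe, hV] at this
    change orderOf (s : G) ∣ 4 at this
    rw [Subgroup.orderOf_coe, hs] at this
    omega
  have h4 : Nat.card (↥K ⧸ S) = 4 := by rw [← Subgroup.index_eq_card, hidx]
  haveI := Fintype.ofFinite (↥K ⧸ S)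
  let e : (↥K ⧸ S) ≃ Fin 4 := Fintype.equivFinOfCardEq (by rw [← Nat.card_eq_fintype_card, h4])
  let φ : ↥K →* Equiv.Perm (Fin 4) :=
    e.permCongrHom.toMonoidHom.comp (MulAction.toPermHom ↥K (↥K ⧸ S))
  have hφ : Function.Injective φ := by
    refine (MulEquiv.injective e.permCongrHom).comp ((MonoidHom.ker_eq_bot_iff _).1 ?_)
    rw [← Subgroup.normalCore_eq_ker, hcore]
  have hidx2 : φ.range.index = 2 := by
    have h := Subgroup.card_mul_index φ.range
    rw [← Nat.card_congr (MonoidHom.ofInjective hφ).toEquiv, hK, Nat.card_perm, Nat.card_fin,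
      show (4 : ℕ).factorial = 24 by decide] at h
    omega
  exact ⟨(MonoidHom.ofInjective hφ).trans
    (MulEquiv.subgroupCongr (Equiv.Perm.eq_alternatingGroup_of_index_eq_two hidx2))⟩

/-- The structure of `C(t)` and of the normalizer of its two-core. -/
theorem ct_structure {z t : G} {V B : Subgroup G} (h : CtHyp z t V B)
    (h240 : Nat.card (Subgroup.centralizer ({t} : Set G)) = 240) :
    Nonempty (↥(Subgroup.centralizer ({t} : Set G)) ≃*
      (Multiplicative (ZMod 2) × Multiplicative (ZMod 2)) × alternatingGroup (Fin 5)) ∧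
    Nonempty (↥(Subgroup.normalizer (((Cfsg.pCore 2 ↥(Subgroup.centralizer ({t} : Set G))).map
      (Subgroup.subtype (Subgroup.centralizer ({t} : Set G))) : Subgroup G) : Set G)) ≃*
      alternatingGroup (Fin 4) × alternatingGroup (Fin 5)) := by
  classical
  set C := Subgroup.centralizer ({t} : Set G) with hCdef
  obtain ⟨e⟩ := h.hB
  obtain ⟨hVC, hBC, hcomm, hbot, -⟩ := h.hVB
  have hBcard : Nat.card B = 60 := by
    rw [Nat.card_congr e.toEquiv, Nat.card_eq_fintype_card, InvChar.J2Order.alt_card]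
  have hVsq : ∀ v ∈ V, v * v = 1 := fun v hv => by rw [← pow_two]; exact h.hV2 v hv
  have hVcomm : ∀ a ∈ V, ∀ b ∈ V, Commute a b := fun a ha b hb => by
    have h1 := inv_eq_of_mul_eq_one_left (hVsq _ (V.mul_mem ha hb))
    rw [mul_inv_rev, inv_eq_of_mul_eq_one_left (hVsq a ha), inv_eq_of_mul_eq_one_left (hVsq b hb)] at h1
    exact h1.symm
  have hBcent : ∀ b ∈ B, (∀ c ∈ B, Commute b c) → b = 1 := fun b hb hall => by
    refine congrArg Subtype.val (e.injective (a₁ := ⟨b, hb⟩) (a₂ := 1) ?_)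
    rw [map_one]
    refine alt_center _ fun a => ?_
    obtain ⟨c, rfl⟩ := e.surjective a
    rw [← map_mul, ← map_mul]
    exact congrArg e (Subtype.ext (hall c c.2).eq)
  have hVmem : ∀ x, x ∈ V ↔ x ∈ C ∧ ∀ b ∈ B, Commute x b := by
    refine fun x => ⟨fun hx => ⟨hVC hx, fun b hb => hcomm x hx b hb⟩, fun hx => ?_⟩
    obtain ⟨v, hv, b, hb, rfl⟩ := h.mem_cent_iff.1 hx.1
    have hb1 : b = 1 := hBcent b hb fun c hc => by
      have h1 := (show Commute v c from hcomm v hv c hc).inv_left.mul_left (hx.2 c hc)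
      rwa [inv_mul_cancel_left] at h1
    rwa [hb1, mul_one]
  -- the product
  let m : ↥V × ↥B →* ↥C := MonoidHom.noncommCoprod (Subgroup.inclusion hVC) (Subgroup.inclusion hBC)
    fun v b => Subtype.ext (hcomm v v.2 b b.2)
  have hm : ∀ p : ↥V × ↥B, (m p : G) = p.1 * p.2 := fun p => rfl
  have hmb : Function.Bijective m := by
    constructor
    · intro p q hpq
      obtain ⟨h1, h2⟩ := h.decomp_unique p.1.2 q.1.2 p.2.2 q.2.2 (by rw [← hm, ← hm, hpq])
      exact Prod.ext (Subtype.ext h1) (Subtype.ext h2)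
    · rintro ⟨c, hc⟩
      obtain ⟨v, hv, b, hb, rfl⟩ := h.mem_cent_iff.1 hc
      exact ⟨(⟨v, hv⟩, ⟨b, hb⟩), rfl⟩
  let E := MulEquiv.ofBijective m hmb
  obtain ⟨kV⟩ := nonempty_klein (V := ↥V) h.hV fun v => Subtype.ext (hVsq v v.2)
  refine ⟨⟨E.symm.trans (kV.prodCongr e)⟩, ?_⟩
  -- the two-core
  have hcore : (Cfsg.pCore 2 ↥C).map C.subtype = V := by
    haveI : Fact (Nat.Prime 2) := ⟨Nat.prime_two⟩
    let π : ↥C →* alternatingGroup (Fin 5) :=
      e.toMonoidHom.comp ((MonoidHom.snd ↥V ↥B).comp E.symm.toMonoidHom)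
    have hπ : Function.Surjective π := e.surjective.comp (Prod.snd_surjective.comp E.symm.surjective)
    have hA : Cfsg.pCore 2 (alternatingGroup (Fin 5)) = ⊥ := by
      refine ((CfsgLib.Solvable.pCore_normal 2 _).eq_bot_or_eq_top).resolve_right fun htop => ?_
      obtain ⟨n, hn⟩ := CfsgLib.Solvable.card_pCore (p := 2) (G := alternatingGroup (Fin 5))
      rw [htop, Subgroup.card_top, Nat.card_eq_fintype_card, InvChar.J2Order.alt_card] at hn
      have h3 : 3 ∣ 2 ^ n := hn ▸ (by norm_num : 3 ∣ 60)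
      have := Nat.Prime.dvd_of_dvd_pow Nat.prime_three h3
      omega
    refine le_antisymm ?_ ?_
    · rintro _ ⟨c, hc, rfl⟩
      have h1 : π c ∈ Cfsg.pCore 2 (alternatingGroup (Fin 5)) :=
        CfsgLib.Solvable.map_pCore_le_of_surjective hπ ⟨c, hc, rfl⟩
      rw [hA, Subgroup.mem_bot] at h1
      have h2 : (E.symm c).2 = 1 := e.injective (h1.trans (map_one e).symm)
      have h3 : c = m (E.symm c) := (E.apply_symm_apply c).symm
      have h4 : (c : G) = ((E.symm c).1 : G) := by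
        conv_lhs => rw [h3]
        rw [hm, h2, OneMemClass.coe_one, mul_one]
      show (c : G) ∈ V
      rw [h4]; exact (E.symm c).1.2
    · intro v hv
      refine ⟨⟨v, hVC hv⟩, CfsgLib.Solvable.le_pCore (N := V.subgroupOf C) ⟨fun x hx c => ?_⟩ ?_ hv, rfl⟩
      · obtain ⟨v', hv', b, hb, hc⟩ := h.mem_cent_iff.1 c.2
        show (c : G) * x * (c : G)⁻¹ ∈ V
        have hxV : (x : G) ∈ V := hx
        rw [← hc, show v' * b * x * (v' * b)⁻¹ = v' * (b * x) * b⁻¹ * v'⁻¹ by group,
          ← hcomm x hxV b hb, show v' * ((x : G) * b) * b⁻¹ * v'⁻¹ = v' * x * v'⁻¹ by group]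
        exact V.mul_mem (V.mul_mem hv' hxV) (V.inv_mem hv')
      · intro x
        exact ⟨1, Subtype.ext (Subtype.ext (by simpa using h.hV2 _ x.2))⟩
  rw [hcore]
  -- the nontrivial elements of the four-group
  have hVt : ∀ v ∈ V, v ≠ 1 → IsConj t v ∧ Subgroup.centralizer ({v} : Set G) = C := by
    intro v hv hv1
    have hvB : v ∉ B := fun hb => hv1 (Subgroup.mem_bot.1 (hbot ▸ (⟨hv, hb⟩ : v ∈ V ⊓ B)))
    have hc := h.hCt v (hVC hv) (CfsgLib.Invol.orderOf_eq_two hv1 (hVsq v hv)) hvB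
    refine ⟨hc.symm, (Subgroup.eq_of_le_of_card_ge (fun x hx => ?_) ?_).symm⟩
    · obtain ⟨v', hv', b, hb, rfl⟩ := h.mem_cent_iff.1 hx
      exact mem_cent.2 ((hVcomm v' hv' v hv).mul_left (show Commute v b from hcomm v hv b hb).symm)
    · obtain ⟨g, rfl⟩ := isConj_iff.1 hc.symm
      rw [InvChar.ElemFour.card_cent_conj]
  have htV := h.htV
  have ht1 : t ≠ 1 := fun hh => by have := h.ht; rw [hh, orderOf_one] at this; omega
  set N := Subgroup.normalizer ((V : Subgroup G) : Set G)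
  have hNmem : ∀ n, n ∈ N ↔ ∀ v, v ∈ V ↔ n * v * n⁻¹ ∈ V := fun n => Subgroup.mem_normalizer_iff
  have hNof : ∀ n, (∀ v ∈ V, n * v * n⁻¹ ∈ V) → n ∈ N := fun n hn =>
    Subgroup.mem_normalizer_fintype hn
  have hCN : C ≤ N := fun c hc => hNof c fun v hv => by
    obtain ⟨v', hv', b, hb, rfl⟩ := h.mem_cent_iff.1 hc
    rw [show v' * b * v * (v' * b)⁻¹ = v' * (b * v) * b⁻¹ * v'⁻¹ by group, ← hcomm v hv b hb,
      show v' * (v * b) * b⁻¹ * v'⁻¹ = v' * v * v'⁻¹ by group]
    exact V.mul_mem (V.mul_mem hv' hv) (V.inv_mem hv')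
  have hconjC : ∀ n v, n * t * n⁻¹ = v → v ∈ V → ∀ x, x ∈ C → n * x * n⁻¹ ∈ C := by
    intro n v hv hvV x hx
    rw [← (hVt v hvV fun hh => ht1 (conj_eq_one_iff.1 (hv.trans hh))).2, ← hv]
    exact mem_cent.2 (commute_conj n (mem_cent.1 hx))
  have hNB : ∀ n ∈ N, ∀ b ∈ B, n * b * n⁻¹ ∈ B := by
    intro n hn b hb
    have hC' : ∀ b : B, n * b * n⁻¹ ∈ C := fun b =>
      hconjC n _ rfl (((hNmem n).1 hn t).1 htV) b (hBC b.2)
    let ρ : ↥B →* ↥C :=
      { toFun := fun b => ⟨n * b * n⁻¹, hC' b⟩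
        map_one' := Subtype.ext (by simp)
        map_mul' := fun a b => Subtype.ext (by simp [mul_assoc]) }
    let φ : ↥B →* ↥V := (MonoidHom.fst ↥V ↥B).comp (E.symm.toMonoidHom.comp ρ)
    haveI : Nontrivial ↥B := e.toEquiv.nontrivial
    haveI : IsSimpleGroup ↥B := IsSimpleGroup.isSimpleGroup_of_surjective (G := alternatingGroup (Fin 5))
      (H := ↥B) e.symm.toMonoidHom e.symm.surjective
    have hker : φ.ker = ⊤ := (φ.normal_ker.eq_bot_or_eq_top).resolve_left fun hbot' => by
      have := Nat.card_le_card_of_injective φ ((MonoidHom.ker_eq_bot_iff φ).1 hbot')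
      rw [hBcard, h.hV] at this
      omega
    have h1 : φ ⟨b, hb⟩ = 1 := MonoidHom.mem_ker.1 (hker ▸ Subgroup.mem_top _)
    have h2 : ρ ⟨b, hb⟩ = m (E.symm (ρ ⟨b, hb⟩)) := (E.apply_symm_apply _).symm
    have h3 : n * b * n⁻¹ = ((E.symm (ρ ⟨b, hb⟩)).2 : G) := by
      have := congrArg Subtype.val h2
      change n * b * n⁻¹ = _ at this
      rw [this, hm]
      change ((φ ⟨b, hb⟩ : ↥V) : G) * _ = _
      rw [h1, OneMemClass.coe_one, one_mul]
    rw [h3]; exact (E.symm (ρ ⟨b, hb⟩)).2.2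
  -- the order of the normalizer
  have hN : Nat.card N = 720 := by
    have h1 := card_conj_image N t
    rw [show N ⊓ Subgroup.centralizer ({t} : Set G) = C from le_antisymm inf_le_right (le_inf hCN le_rfl),
      h240] at h1
    have hset : {y : G | ∃ s ∈ N, s * t * s⁻¹ = y} = (V : Set G) \ {1} := by
      ext y
      constructor
      · rintro ⟨s, hs, rfl⟩
        exact ⟨((hNmem s).1 hs t).1 htV, fun hh => ht1 (conj_eq_one_iff.1 hh)⟩
      · rintro ⟨hy, hy1⟩
        obtain ⟨g, hg⟩ := isConj_iff.1 (hVt y hy hy1).1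
        have hgC : ∀ x, x ∈ C → g * x * g⁻¹ ∈ C := hconjC g y hg hy
        refine ⟨g, hNof g fun v hv => ?_, hg⟩
        refine (hVmem _).2 ⟨hgC v (hVC hv), fun b hb => ?_⟩
        have hb' : g⁻¹ * b * g ∈ C := by
          refine mem_cent.2 (commute_conj_back g ?_)
          rw [hg]
          have hbC : b ∈ Subgroup.centralizer ({y} : Set G) := by rw [(hVt y hy hy1).2]; exact hBC hb
          exact mem_cent.1 hbC
        obtain ⟨v', hv', b', hb'', he⟩ := h.mem_cent_iff.1 hb'
        have := commute_conj g ((hVcomm v hv v' hv').mul_right (show Commute v b' from hcomm v hv b' hb''))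
        rwa [he, show g * (g⁻¹ * b * g) * g⁻¹ = b by group] at this
    have h3 : Nat.card {y : G // ∃ s ∈ N, s * t * s⁻¹ = y} = 3 := by
      rw [show Nat.card {y : G // ∃ s ∈ N, s * t * s⁻¹ = y} = Nat.card ((V : Set G) \ {1} : Set G) by
        rw [← hset]; rfl, Nat.card_coe_set_eq, Set.ncard_diff (by simp [V.one_mem]), Set.ncard_singleton,
        ← Nat.card_coe_set_eq]
      show Nat.card V - 1 = 3
      rw [h.hV]
    rw [h3] at h1
    omega
  -- the action on `B`
  have hBN : B ≤ N := hBC.trans hCN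
  haveI : (B.subgroupOf N).Normal := ⟨fun b hb x => hNB (x : G) x.2 (b : G) hb⟩
  let eB : ↥(B.subgroupOf N) ≃* alternatingGroup (Fin 5) := (Subgroup.subgroupOfEquivOfLe hBN).trans e
  have hbij : Function.Bijective (MulAut.conjNormal : Equiv.Perm (Fin 5) →* MulAut (alternatingGroup (Fin 5))) :=
    ⟨CfsgLib.AltAut.conjNormal_injective (by simp), CfsgLib.AltAut.conjNormal_surjective (by simp) (by simp)⟩
  let eP := MulEquiv.ofBijective _ hbij
  let ψ : ↥N →* Equiv.Perm (Fin 5) :=
    eP.symm.toMonoidHom.comp ((MulAut.congr eB).toMonoidHom.comp MulAut.conjNormal)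
  have hker : ∀ x : ↥N, x ∈ ψ.ker ↔ ∀ b ∈ B, Commute (x : G) b := by
    intro x
    rw [MonoidHom.mem_ker]
    show eP.symm (MulAut.congr eB (MulAut.conjNormal x)) = 1 ↔ _
    rw [MulEquiv.map_eq_one_iff, MulEquiv.map_eq_one_iff]
    constructor
    · intro hx b hb
      have h1 := congrArg (fun a : MulAut ↥(B.subgroupOf N) =>
        (((a ⟨⟨b, hBN hb⟩, hb⟩ : ↥(B.subgroupOf N)) : ↥N) : G)) hx
      exact mul_inv_eq_iff_eq_mul.1 h1
    · intro hx
      refine MulEquiv.ext fun b => Subtype.ext (Subtype.ext ?_)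
      show (x : G) * ((b : ↥N) : G) * (x : G)⁻¹ = _
      rw [(show Commute (x : G) ((b : ↥N) : G) from hx _ b.2).eq, mul_inv_cancel_right]
      rfl
  set K := ψ.ker.map N.subtype with hKdef
  have hKmem : ∀ x, x ∈ K ↔ x ∈ N ∧ ∀ b ∈ B, Commute x b := by
    intro x
    constructor
    · rintro ⟨y, hy, rfl⟩
      exact ⟨y.2, (hker y).1 hy⟩
    · rintro ⟨h1, h2⟩
      exact ⟨⟨x, h1⟩, (hker _).2 h2, rfl⟩
  have hVK : V ≤ K := fun v hv => (hKmem v).2 ⟨hCN (hVC hv), ((hVmem v).1 hv).2⟩
  have hKB : Function.Injective fun b : ↥B => (ψ ⟨b, hBN b.2⟩ : Equiv.Perm (Fin 5)) := by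
    intro a b hab
    have hmem : (⟨a, hBN a.2⟩ : ↥N) * ⟨b, hBN b.2⟩⁻¹ ∈ ψ.ker := by
      rw [MonoidHom.mem_ker, map_mul, map_inv]
      exact mul_inv_eq_one.2 hab
    exact Subtype.ext (mul_inv_eq_one.1 (hBcent _ (B.mul_mem a.2 (B.inv_mem b.2)) ((hker _).1 hmem)))
  have hK12 : Nat.card K = 12 := by
    have hmul : Nat.card K * Nat.card ψ.range = 720 := by
      rw [hKdef, Subgroup.card_map_of_injective N.subtype_injective, ← Subgroup.index_ker,
        Subgroup.card_mul_index, hN]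
    have hr60 : 60 ≤ Nat.card ψ.range := by
      rw [← hBcard]
      exact Nat.card_le_card_of_injective (fun b => ⟨_, ⟨_, rfl⟩⟩)
        fun a b hab => hKB (congrArg Subtype.val hab)
    have hr120 : Nat.card ψ.range ∣ 120 := by
      have := Subgroup.card_subgroup_dvd_card ψ.range
      rwa [Nat.card_perm, Nat.card_fin, show (5 : ℕ).factorial = 120 by decide] at this
    have h4 : 4 ∣ Nat.card K := h.hV ▸ Subgroup.card_dvd_of_le hVK
    obtain ⟨j, hj⟩ := hr120
    have hj2 : j = 1 ∨ j = 2 := by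
      rcases Nat.lt_or_ge j 3 with hlt | hge
      · rcases Nat.eq_zero_or_pos j with rfl | hp
        · omega
        · omega
      · have := Nat.mul_le_mul hr60 hge
        omega
    rcases hj2 with rfl | rfl
    · rw [show Nat.card ψ.range = 120 by omega] at hmul
      omega
    · rw [show Nat.card ψ.range = 60 by omega] at hmul
      omega
  have hKn : ∀ k ∈ K, ∀ v ∈ V, k * v * k⁻¹ ∈ V := fun k hk v hv => ((hNmem k).1 ((hKmem k).1 hk).1 v).1 hv
  have hfix : ∀ k ∈ K, Commute k t → k ∈ V := fun k hk hkt =>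
    (hVmem k).2 ⟨mem_cent.2 hkt, ((hKmem k).1 hk).2⟩
  obtain ⟨a4⟩ := nonempty_alt_four hK12 hVK h.hV hKn htV hfix
  let μ : ↥K × ↥B →* ↥N :=
    MonoidHom.noncommCoprod (Subgroup.inclusion fun k hk => ((hKmem k).1 hk).1) (Subgroup.inclusion hBN)
      fun k b => Subtype.ext (((hKmem k).1 k.2).2 b b.2).eq
  have hμ : Function.Bijective μ := by
    have hinj : Function.Injective μ := by
      rw [injective_iff_map_eq_one]
      rintro ⟨k, b⟩ hkb
      have h1 : (k : G) * b = 1 := congrArg Subtype.val hkb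
      have hb1 : (b : G) = 1 := hBcent b b.2 fun c hc => by
        rw [eq_inv_of_mul_eq_one_right h1]
        exact (((hKmem k).1 k.2).2 c hc).inv_left
      rw [hb1, mul_one] at h1
      exact Prod.ext (Subtype.ext h1) (Subtype.ext hb1)
    refine hinj.bijective_of_nat_card_le ?_
    rw [Nat.card_prod, hK12, hBcard, hN]
  exact ⟨(MulEquiv.ofBijective μ hμ).symm.trans (a4.prodCongr e)⟩

end CfsgLib.J2Type
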