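import Cfsg.Agent.Lib.J2Type.Pair

/-!
# Involutions of the second class inside the centralizer of `z`
-/

set_option autoImplicit false
set_option linter.style.haveILetI false

namespace CfsgLib.J2Type

universe u

variable {G : Type u} [Group G] [Finite G]

namespace Hyp

variable {z : G} {Q : Subgroup G} {f : ↥(Subgroup.centralizer ({z} : Set G)) →* alternatingGroup (Fin 5)}
  (h : Hyp z Q f)
include h

theorem not_mem_of_not_conj {t : G} (ht : orderOf t = 2) (hn : ¬ IsConj z t) : t ∉ Q :=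
  fun hQ => hn (h.isConj_z hQ ht)

omit [Finite G] in
theorem map_sq {t : G} (htz : Commute t z) (htt : t * t = 1) :
    f ⟨t, mem_cent.2 htz⟩ * f ⟨t, mem_cent.2 htz⟩ = 1 := by
  rw [← map_mul, show (⟨t, mem_cent.2 htz⟩ : ↥(Subgroup.centralizer ({z} : Set G))) * ⟨t, mem_cent.2 htz⟩ = 1 from
    Subtype.ext htt, map_one]

end Hyp

namespace Pair

/-- `a * b` splits an involution of the second class. -/
def Data (z u : G) (Q R : Subgroup G) (a b : G) : Prop :=
  a ∈ Q ∧ Commute a u ∧ b ∈ R ∧ Commute b z ∧ ¬ Four z u a ∧ ¬ Four z u b ∧ a * b = b * a * (u * z)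

variable {z u : G} {Q R : Subgroup G}
  {f : ↥(Subgroup.centralizer ({z} : Set G)) →* alternatingGroup (Fin 5)}
  {r : ↥(Subgroup.centralizer ({u} : Set G)) →* alternatingGroup (Fin 5)}
  (p : Pair z u Q R f r)
include p

theorem decompose {t : G} (ht : orderOf t = 2) (hn : ¬ IsConj z t) (htz : Commute t z) (htu : Commute t u) :
    ∃ a b, Data z u Q R a b ∧ t = a * b := by
  have htt := CfsgLib.Invol.mul_self_eq_one ht
  obtain ⟨a, b, ha, hau, hb, hbz, rfl⟩ := p.split htz htu (p.left.map_sq htz htt)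
  have hna : ¬ Four z u a := fun h4 => hn (((p.left.isConj_z p.memQ
    (CfsgLib.Invol.orderOf_eq_two p.right.z_ne p.right.zz))).trans
      (p.right.isConj_z (R.mul_mem (p.four_mem h4).2 hb) ht))
  have hnb : ¬ Four z u b := fun h4 => hn (p.left.isConj_z (Q.mul_mem ha (p.four_mem h4).1) ht)
  obtain ⟨c, hc, he⟩ := p.commutator ha hau hb hbz
  have hs := p.square_prod ha hau hb hbz hc he
  rw [htt, p.sq_of_not_four ha hau hna, p.symm.sq_of_not_four hb hbz (fun h4 => hnb (p.four_symm.1 h4))] at hs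
  refine ⟨a, b, ⟨ha, hau, hb, hbz, hna, hnb, ?_⟩, rfl⟩
  have hzu : z * u * (z * u) = 1 := by
    rw [p.comm.eq]; exact p.left.mul_z_invol p.memQ p.right.zz
  rw [he]
  refine congrArg _ ?_
  calc c = (z * u)⁻¹ := eq_inv_of_mul_eq_one_right hs.symm
    _ = z * u := inv_eq_of_mul_eq_one_left hzu
    _ = u * z := p.comm.eq

omit [Finite G] in
theorem data_symm {a b : G} (hd : Data z u Q R a b) : Data u z R Q b a := by
  obtain ⟨ha, hau, hb, hbz, hna, hnb, he⟩ := hd
  refine ⟨hb, hbz, ha, hau, fun h4 => hnb (p.four_symm.1 h4), fun h4 => hna (p.four_symm.1 h4), ?_⟩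
  have hc : Commute (b * a) (u * z) :=
    ((p.right.comm_z hb).mul_left hau).mul_right (hbz.mul_left (p.left.comm_z ha))
  have huz : (u * z) * (u * z) = 1 := p.left.mul_z_invol p.memQ p.right.zz
  rw [he, mul_assoc, ← p.comm.symm.eq, huz, mul_one]

theorem data_every {a b : G} (hd : Data z u Q R a b) {y : G} (hy : y ∈ R) (hyz : Commute y z)
    (hn : ¬ Four z u y) : ∃ a', Data z u Q R a' y := by
  obtain ⟨ha, hau, hb, hbz, hna, hnb, he⟩ := hd
  obtain ⟨k, c, hkz, hku, hc, hk⟩ := p.exists_conj hb hbz hnb hy hyz hn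
  have hk' := p.conjQ hkz hku ha hau
  refine ⟨k * a * k⁻¹, hk'.1, hk'.2, hy, hyz, fun h4 => hna ?_, hn, ?_⟩
  · have h' : Commute k (k * a * k⁻¹) := h4.comm hkz hku
    have h'' : k * a * k⁻¹ = a := by
      calc k * a * k⁻¹ = k⁻¹ * (k * (k * a * k⁻¹)) := by group
        _ = k⁻¹ * (k * a * k⁻¹ * k) := by rw [h'.eq]
        _ = a := by group
    rwa [h''] at h4
  · have h1 : k * a * k⁻¹ * (c * y) = c * y * (k * a * k⁻¹) * (u * z) := by
      have hkc : k * (u * z) * k⁻¹ = u * z := by rw [(hku.mul_right hkz).eq, mul_inv_cancel_right]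
      rw [← hk]
      calc k * a * k⁻¹ * (k * b * k⁻¹) = k * (a * b) * k⁻¹ := by group
        _ = k * b * k⁻¹ * (k * a * k⁻¹) * (k * (u * z) * k⁻¹) := by rw [he]; group
        _ = _ := by rw [hkc]
    have h2 : Commute (k * a * k⁻¹) c := hc.comm (p.left.comm_z hk'.1) hk'.2
    rw [← mul_assoc, h2.eq, mul_assoc c, mul_assoc c, mul_assoc c] at h1
    exact mul_left_cancel h1

theorem vals {a b : G} (hd : Data z u Q R a b) {x y : G} (hx : x ∈ Q) (hxu : Commute x u) (hnx : ¬ Four z u x)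
    (hy : y ∈ R) (hyz : Commute y z) (hny : ¬ Four z u y) :
    Commute x y ∨ x * y = y * x * (u * z) := by
  obtain ⟨a', ha', hau', -, -, hna', -, he'⟩ := p.data_every hd hy hyz hny
  obtain ⟨s, hs, hsu, hns, hsy⟩ := p.comm_every hy hyz hny
  have hw : ∀ w, Four z u w → Commute y w ∧ Commute (u * z) w := fun w hw =>
    ⟨hw.comm hyz (p.right.comm_z hy), hw.comm ((p.left.comm_z p.memQ).mul_left (Commute.refl z))
      ((Commute.refl u).mul_left p.comm)⟩
  rcases p.three_cases hx hxu hnx hs hsu hns ha' hau' hna' with h1 | h1 | h1 | h1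
  · left
    have := (hsy.symm.mul_right (hw _ h1).1.inv_right).symm
    rwa [show s * (x⁻¹ * s)⁻¹ = x by group] at this
  · right
    obtain ⟨hw1, hw2⟩ := hw _ h1
    calc x * y = a' * ((x⁻¹ * a')⁻¹ * y) := by group
      _ = a' * y * (x⁻¹ * a')⁻¹ := by rw [← hw1.inv_right.eq, mul_assoc]
      _ = y * a' * ((u * z) * (x⁻¹ * a')⁻¹) := by rw [he', mul_assoc]
      _ = y * a' * ((x⁻¹ * a')⁻¹ * (u * z)) := by rw [hw2.inv_right.eq]
      _ = y * x * (u * z) := by group
  · exfalso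
    have hc : Commute a' y := by
      have := (hsy.symm.mul_right (hw _ h1).1).symm
      rwa [mul_inv_cancel_left] at this
    rw [hc.eq] at he'
    exact p.uz_ne_one (mul_eq_left.1 he'.symm)
  · right
    obtain ⟨hw1, hw2⟩ := hw _ h1
    calc x * y = s * a' * ((x⁻¹ * (s * a'))⁻¹ * y) := by group
      _ = s * a' * y * (x⁻¹ * (s * a'))⁻¹ := by rw [← hw1.inv_right.eq]; simp only [mul_assoc]
      _ = s * (y * a' * (u * z)) * (x⁻¹ * (s * a'))⁻¹ := by rw [mul_assoc s a' y, he']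
      _ = (s * y) * a' * ((u * z) * (x⁻¹ * (s * a'))⁻¹) := by group
      _ = (y * s) * a' * ((x⁻¹ * (s * a'))⁻¹ * (u * z)) := by rw [hsy.eq, hw2.inv_right.eq]
      _ = y * x * (u * z) := by group

theorem unique_partner {a b : G} (hd : Data z u Q R a b) {x x' y : G} (hx : x ∈ Q) (hxu : Commute x u)
    (hnx : ¬ Four z u x) (hx' : x' ∈ Q) (hxu' : Commute x' u) (hnx' : ¬ Four z u x') (hy : y ∈ R)
    (hyz : Commute y z) (hny : ¬ Four z u y) (h1 : Commute x y) (h2 : Commute x' y) :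
    Four z u (x⁻¹ * x') := by
  obtain ⟨a', ha', hau', -, -, hna', -, he'⟩ := p.data_every hd hy hyz hny
  have hbad : ¬ Commute a' y := fun hc => by
    rw [hc.eq] at he'
    exact p.uz_ne_one (mul_eq_left.1 he'.symm)
  have hw : ∀ w, Four z u w → Commute y w := fun w hw => hw.comm hyz (p.right.comm_z hy)
  rcases p.three_cases hx hxu hnx hx' hxu' hnx' ha' hau' hna' with h | h | h | h
  · exact h
  · refine absurd ?_ hbad
    have := (h1.symm.mul_right (hw _ h)).symm
    rwa [mul_inv_cancel_left] at this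
  · refine absurd ?_ hbad
    have := (h2.symm.mul_right (hw _ h)).symm
    rwa [mul_inv_cancel_left] at this
  · refine absurd ?_ hbad
    have := ((h2.symm.inv_right.mul_right (h1.symm.mul_right (hw _ h)))).symm
    rwa [mul_inv_cancel_left, inv_mul_cancel_left] at this

/-- The elements of `Q ∩ C(u)` commuting with an involution of the second class. -/
theorem four_of_comm_stab {t q : G} (ht : orderOf t = 2) (hn : ¬ IsConj z t) (htz : Commute t z)
    (htu : Commute t u) (hq : q ∈ Q) (hqu : Commute q u) (hqt : Commute q t) : Four z u q := by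
  obtain ⟨a, b, hd, rfl⟩ := p.decompose ht hn htz htu
  obtain ⟨ha, hau, hb, hbz, hna, hnb, he⟩ := id hd
  by_contra hnq
  by_cases h4 : Four z u (q⁻¹ * a)
  · have hc : Commute (q⁻¹ * a) (a * b) := (h4.comm (htz) htu).symm
    have : Commute a (a * b) := by
      have := hqt.mul_left hc
      rwa [mul_inv_cancel_left] at this
    have hab : a * b = b * a := by
      apply mul_left_cancel (a := a)
      rw [this.eq, mul_assoc]
    rw [hab] at he
    exact p.uz_ne_one (mul_eq_left.1 he.symm)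
  have hqa : ¬ Commute q a := fun hc => h4 (p.four_of_invol (Q.mul_mem (Q.inv_mem hq) ha)
    (hqu.inv_left.mul_left hau) (by
      rw [show q⁻¹ * a * (q⁻¹ * a) = q⁻¹ * (a * q⁻¹) * a by group, ← hc.inv_left.eq,
        show q⁻¹ * (q⁻¹ * a) * a = (q * q)⁻¹ * (a * a) by group, p.sq_of_not_four hq hqu hnq,
        p.sq_of_not_four ha hau hna, inv_mul_cancel]))
  have h1 : q * a = a * q * z := (p.left.hcomm q hq a ha).resolve_left hqa
  have h2 : q * b * z = b * q := by
    apply mul_left_cancel (a := a)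
    calc a * (q * b * z) = a * q * (b * z) := by group
      _ = a * q * z * b := by rw [hbz.eq, mul_assoc (a * q) z b]
      _ = q * (a * b) := by rw [← h1, mul_assoc]
      _ = a * b * q := hqt.eq
      _ = a * (b * q) := mul_assoc _ _ _
  rcases p.vals hd hq hqu hnq hb hbz hnb with hc | hc
  · rw [← hc.eq] at h2
    exact p.left.z_ne (mul_eq_left.1 h2)
  · rw [hc] at h2
    refine p.right.z_ne ((mul_eq_left (a := b * q)).1 ?_)
    calc b * q * u = b * q * (u * z) * z := by rw [mul_assoc (b * q), mul_assoc u z z, p.left.zz, mul_one]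
      _ = b * q := h2

/-- An involution of the second class centralizes a unique pair. -/
theorem four_of_comm {t q : G} (ht : orderOf t = 2) (hn : ¬ IsConj z t) (htz : Commute t z)
    (htu : Commute t u) (hq : q ∈ Q) (hqt : Commute q t) : Four z u q := by
  by_cases hqu : Commute q u
  · exact p.four_of_comm_stab ht hn htz htu hq hqu hqt
  exfalso
  -- an involution outside the centralizer of `u` commuting with `t`
  obtain ⟨v, hv, hvv, hvu, hvt⟩ : ∃ v ∈ Q, v * v = 1 ∧ ¬ Commute v u ∧ Commute v t := by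
    rcases p.left.hsq q hq with e | e
    · exact ⟨q, hq, e, hqu, hqt⟩
    · refine ⟨u * q, Q.mul_mem p.memQ hq, ?_, fun hc => hqu ?_, htu.symm.mul_left hqt⟩
      · have h1 : q * u = u * q * z := (p.left.hcomm q hq u p.memQ).resolve_left hqu
        calc u * q * (u * q) = u * (q * u) * q := by group
          _ = (u * u) * q * (z * q) := by rw [h1]; group
          _ = q * (q * z) := by rw [p.right.zz, ← (p.left.comm_z hq).eq]; group
          _ = 1 := by rw [← mul_assoc, e, p.left.zz]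
      · have := ((Commute.refl u).inv_left).mul_left hc
        rwa [inv_mul_cancel_left] at this
  have hv1 : v ≠ 1 := fun e => hvu (e ▸ Commute.one_left u)
  have hvz : v ≠ z := fun e => hvu (e ▸ p.comm)
  obtain ⟨R', r', p'⟩ := p.left.exists_pair hv hvv hv1 hvz
  obtain ⟨g, hgz, hg⟩ := p.left.invol_conj p.memQ p.right.zz p.right.z_ne p.ne hv hvv hv1 hvz
  have htt := CfsgLib.Invol.mul_self_eq_one ht
  have hft := p.left.map_sq htz htt
  have hgtz : Commute (g * t * g⁻¹) z := (hgz.mul_left htz).mul_left hgz.inv_left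
  have hgtv : Commute (g * t * g⁻¹) v := by
    rw [← hg]
    show g * t * g⁻¹ * (g * u * g⁻¹) = g * u * g⁻¹ * (g * t * g⁻¹)
    rw [show g * t * g⁻¹ * (g * u * g⁻¹) = g * (t * u) * g⁻¹ by group, htu.eq]; group
  obtain ⟨y₁, hy₁z, hy₁, e₁⟩ := p'.invol_image htz hvt.symm hft
  obtain ⟨y₂, hy₂z, hy₂, e₂⟩ := p'.invol_image hgtz hgtv (p.left.map_sq hgtz (conj_mul_self htt))
  have hcomm : f ⟨g * t * g⁻¹, mem_cent.2 hgtz⟩ * f ⟨t, mem_cent.2 htz⟩ =
      f ⟨t, mem_cent.2 htz⟩ * f ⟨g * t * g⁻¹, mem_cent.2 hgtz⟩ := by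
    rw [← e₁, ← e₂, ← map_mul, ← map_mul]
    rcases p'.right.hcomm y₂ hy₂ y₁ hy₁ with e | e
    · exact congrArg f (Subtype.ext e)
    · have : (⟨y₂, mem_cent.2 hy₂z⟩ : ↥(Subgroup.centralizer ({z} : Set G))) * ⟨y₁, mem_cent.2 hy₁z⟩ =
        ⟨y₁, mem_cent.2 hy₁z⟩ * ⟨y₂, mem_cent.2 hy₂z⟩ * ⟨v, p.left.hQle hv⟩ := Subtype.ext e
      rw [this, map_mul, (p.left.hker ⟨v, _⟩).2 hv, mul_one]
  obtain ⟨y₀, hy₀z, hy₀, e₀⟩ := p.invol_image htz htu hft
  have htQ : f ⟨t, mem_cent.2 htz⟩ ≠ 1 := fun e => p.left.not_mem_of_not_conj ht hn ((p.left.hker _).1 e)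
  have hmap : f ⟨g * t * g⁻¹, mem_cent.2 hgtz⟩ =
      f ⟨g, mem_cent.2 hgz⟩ * f ⟨t, mem_cent.2 htz⟩ * (f ⟨g, mem_cent.2 hgz⟩)⁻¹ := by
    rw [← map_inv, ← map_mul, ← map_mul]; rfl
  obtain ⟨-, -, h3, -⟩ := p.image_facts
  obtain ⟨k, hkz, hku, hk⟩ := (h3 _ ⟨y₀, hy₀z, hy₀, e₀⟩ htQ _).2 (hmap ▸ hcomm)
  have hq0 : g * k⁻¹ ∈ Q := (p.left.hker (⟨g, mem_cent.2 hgz⟩ * ⟨k, mem_cent.2 hkz⟩⁻¹)).1 (by
    rw [map_mul, map_inv, hk, mul_inv_cancel])
  have hvq : v = g * k⁻¹ * u * (g * k⁻¹)⁻¹ := by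
    rw [← hg]
    calc g * u * g⁻¹ = g * (k⁻¹ * (k * u)) * g⁻¹ := by group
      _ = g * (k⁻¹ * (u * k)) * g⁻¹ := by rw [hku.eq]
      _ = _ := by group
  refine hvu ?_
  rcases p.left.conj_cases hq0 p.memQ with e | e <;> rw [hvq, e]
  exact (Commute.refl u).mul_left p.comm

/-- `C_Q(t)` has order four. -/
theorem card_cent_t {t : G} (ht : orderOf t = 2) (hn : ¬ IsConj z t) (htz : Commute t z)
    (htu : Commute t u) : Q ⊓ Subgroup.centralizer ({t} : Set G) = Q ⊓ R := by
  apply le_antisymm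
  · rintro q ⟨hq, hqt⟩
    exact p.four_iff.1 (p.four_of_comm ht hn htz htu hq (mem_cent.1 hqt))
  · intro q hq
    exact ⟨hq.1, mem_cent.2 ((p.four_iff.2 hq).comm htz htu).symm⟩

end Pair

namespace Hyp

variable {z : G} {Q : Subgroup G} {f : ↥(Subgroup.centralizer ({z} : Set G)) →* alternatingGroup (Fin 5)}
  (h : Hyp z Q f)
include h

omit [Finite G] in
theorem commutator_mem {t q : G} (htz : Commute t z) (htt : t * t = 1) (hq : q ∈ Q) :
    q * t * q⁻¹ * t ∈ h.fixMod htz ∧ (q * t * q⁻¹ * t * t) * (q * t * q⁻¹ * t * t) = 1 := by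
  have hti : t⁻¹ = t := inv_eq_of_mul_eq_one_left htt
  have hsQ : q * t * q⁻¹ * t ∈ Q := by
    have h1 := Q.mul_mem hq (h.conj_mem htz (Q.inv_mem hq))
    rw [hti] at h1
    convert h1 using 1; group
  have hst : (q * t * q⁻¹ * t * t) * (q * t * q⁻¹ * t * t) = 1 := by
    rw [mul_assoc (q * t * q⁻¹) t t, htt, mul_one]; exact conj_mul_self htt
  refine ⟨⟨hsQ, ?_⟩, hst⟩
  have h2 : t * (q * t * q⁻¹ * t) * t⁻¹ = (q * t * q⁻¹ * t)⁻¹ := by
    rw [hti]
    apply eq_inv_of_mul_eq_one_right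
    rw [mul_assoc (q * t * q⁻¹) t t, htt, mul_one] at hst
    calc q * t * q⁻¹ * t * (t * (q * t * q⁻¹ * t) * t) =
          q * t * q⁻¹ * (t * t) * (q * t * q⁻¹) * (t * t) := by group
      _ = 1 := by rw [htt, mul_one, mul_one]; exact hst
  rw [h2]
  rcases h.hsq _ hsQ with e | e
  · exact Or.inl (inv_eq_of_mul_eq_one_left e)
  · right
    apply inv_eq_of_mul_eq_one_right
    rw [← mul_assoc, e, h.zz]

/-- The orbit of `t` under `Q` against the fixed points. -/
theorem orbit_bound {t : G} (htz : Commute t z) (htt : t * t = 1) :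
    32 ≤ Nat.card (Q ⊓ Subgroup.centralizer ({t} : Set G) : Subgroup G) *
      Nat.card {s : G // ∃ q ∈ Q, q * t * q⁻¹ * t = s} := by
  classical
  haveI := Fintype.ofFinite G
  rw [Nat.card_eq_fintype_card (α := {s : G // ∃ q ∈ Q, q * t * q⁻¹ * t = s}), Fintype.card_subtype]
  set D := Q ⊓ Subgroup.centralizer ({t} : Set G)
  set S := Finset.univ.filter fun q : G => q ∈ Q
  have hS : S.card = 32 := by rw [← h.hQ, Nat.card_eq_fintype_card, ← Fintype.card_subtype]
  rw [← hS, Nat.card_eq_fintype_card, Fintype.card_subtype, mul_comm]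
  refine le_trans (Finset.card_le_mul_card_image (f := fun q => q * t * q⁻¹ * t) S
    (Finset.univ.filter fun x : G => x ∈ D).card ?_) ?_
  · intro s hs
    obtain ⟨q₀, hq₀, rfl⟩ := Finset.mem_image.1 hs
    refine Finset.card_le_card_of_injOn (fun q => q₀⁻¹ * q) ?_ (fun a _ b _ hab => mul_left_cancel hab)
    intro q hq
    obtain ⟨hqS, hqe⟩ := Finset.mem_filter.1 hq
    refine Finset.mem_filter.2 ⟨Finset.mem_univ _, Q.mul_mem (Q.inv_mem (Finset.mem_filter.1 hq₀).2)
      (Finset.mem_filter.1 hqS).2, mem_cent.2 ?_⟩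
    show q₀⁻¹ * q * t = t * (q₀⁻¹ * q)
    calc q₀⁻¹ * q * t = q₀⁻¹ * (q * t * q⁻¹) * q := by group
      _ = q₀⁻¹ * (q₀ * t * q₀⁻¹) * q := by rw [mul_right_cancel hqe]
      _ = t * (q₀⁻¹ * q) := by group
  · refine le_trans (le_of_eq (mul_comm _ _)) (Nat.mul_le_mul_right _ (Finset.card_le_card fun s hs => ?_))
    obtain ⟨q, hq, rfl⟩ := Finset.mem_image.1 hs
    exact Finset.mem_filter.2 ⟨Finset.mem_univ _, q, (Finset.mem_filter.1 hq).2, rfl⟩

/-- Every involution of the second class in `C(z)` centralizes a noncentral involution of `Q`. -/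
theorem exists_comm_pair {t : G} (ht : orderOf t = 2) (hn : ¬ IsConj z t) (htz : Commute t z) :
    ∃ (u : G) (R : Subgroup G) (r : ↥(Subgroup.centralizer ({u} : Set G)) →* alternatingGroup (Fin 5)),
      Pair z u Q R f r ∧ Commute t u := by
  classical
  have htt := CfsgLib.Invol.mul_self_eq_one ht
  obtain ⟨u₀, hu₀, hu₀z, hu₀c⟩ := h.hnwc
  have hu₀2 : orderOf u₀ = 2 := (orderOf_of_isConj hu₀c).symm.trans h.hz
  obtain ⟨R₀, r₀, p₀⟩ := h.exists_pair hu₀ (CfsgLib.Invol.mul_self_eq_one hu₀2)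
    (fun e => by rw [e, orderOf_one] at hu₀2; omega) hu₀z
  obtain ⟨-, h2, -, y, hyz, hy, hy1⟩ := p₀.image_facts
  have hft1 : f ⟨t, mem_cent.2 htz⟩ ≠ 1 := fun e => h.not_mem_of_not_conj ht hn ((h.hker _).1 e)
  obtain ⟨g, hg⟩ := alt_invol_conj _ _ (h2 y hyz hy) hy1 (h.map_sq htz htt) hft1
  obtain ⟨⟨k, hk⟩, rfl⟩ := h.hsurj g
  have hkz : Commute k z := mem_cent.1 hk
  have hyu : Commute (k * y * k⁻¹) (k * u₀ * k⁻¹) := by
    show k * y * k⁻¹ * (k * u₀ * k⁻¹) = k * u₀ * k⁻¹ * (k * y * k⁻¹)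
    rw [show k * y * k⁻¹ * (k * u₀ * k⁻¹) = k * (y * u₀) * k⁻¹ by group, (p₀.right.comm_z hy).eq]; group
  set u := k * u₀ * k⁻¹ with hudef
  have huQ : u ∈ Q := h.conj_mem hkz hu₀
  have huu : u * u = 1 := conj_mul_self (CfsgLib.Invol.mul_self_eq_one hu₀2)
  have hu1 : u ≠ 1 := fun e => by
    rw [conj_eq_one_iff.1 e, orderOf_one] at hu₀2; omega
  have huz : u ≠ z := fun e => hu₀z (by
    calc u₀ = k⁻¹ * u * k := by rw [hudef]; group
      _ = z := by rw [e, hkz.inv_left.eq, inv_mul_cancel_right])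
  obtain ⟨R, r, p⟩ := h.exists_pair huQ huu hu1 huz
  refine ⟨u, R, r, p, ?_⟩
  have hq0 : t * (k * y * k⁻¹)⁻¹ ∈ Q :=
    (h.hker (⟨t, mem_cent.2 htz⟩ * (⟨k, hk⟩ * ⟨y, mem_cent.2 hyz⟩ * ⟨k, hk⟩⁻¹)⁻¹)).1 (by
      rw [map_mul, map_inv, map_mul, map_mul, map_inv, hg, mul_inv_cancel])
  have hfix : t * u * t⁻¹ = u ∨ t * u * t⁻¹ = u * z := by
    have : t * u * t⁻¹ = t * (k * y * k⁻¹)⁻¹ * u * (t * (k * y * k⁻¹)⁻¹)⁻¹ := by
      calc t * u * t⁻¹ = t * ((k * y * k⁻¹)⁻¹ * (k * y * k⁻¹ * u)) * t⁻¹ := by group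
        _ = t * ((k * y * k⁻¹)⁻¹ * (u * (k * y * k⁻¹))) * t⁻¹ := by rw [hyu.eq]
        _ = _ := by group
    rw [this]
    exact h.conj_cases hq0 huQ
  by_contra htu
  set D := Q ⊓ Subgroup.centralizer ({t} : Set G)
  set F := h.fixMod htz
  have huF : u ∈ F := ⟨huQ, hfix⟩
  have hDF : D ≤ F := fun q hq => ⟨hq.1, Or.inl (by
    rw [(mem_cent.1 hq.2).symm.eq, mul_inv_cancel_right])⟩
  have hlt : D < F := lt_of_le_of_ne hDF fun e => htu (mem_cent.1 (e ▸ huF : u ∈ D).2).symm
  have hF8 : Nat.card F ≤ 8 := h.card_fixMod_le htz (h.map_sq htz htt) hft1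
  have hD : Nat.card D * 2 ≤ Nat.card F := by
    obtain ⟨m, hm⟩ := Subgroup.card_dvd_of_le hlt.le
    have hpos : 0 < Nat.card D := Nat.card_pos
    have : m ≠ 1 := fun e => (ne_of_lt hlt) (Subgroup.eq_of_le_of_card_ge hlt.le (by rw [hm, e, mul_one]))
    have : m ≠ 0 := fun e => by rw [e, mul_zero] at hm; exact (Nat.card_pos (α := F)).ne' hm
    rw [hm]; exact Nat.mul_le_mul_left _ (by omega)
  have horb := h.orbit_bound htz htt
  haveI := Fintype.ofFinite G
  have himg : Nat.card {s : G // ∃ q ∈ Q, q * t * q⁻¹ * t = s} ≤ Nat.card F := by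
    refine Nat.card_le_card_of_injective (fun s => ⟨s.1, ?_⟩)
      fun a b hab => Subtype.ext (congrArg Subtype.val hab :)
    obtain ⟨q, hq, e⟩ := s.2
    rw [← e]; exact (h.commutator_mem htz htt hq).1
  have hDle : Nat.card D ≤ 4 := by omega
  have himg8 : Nat.card F ≤ Nat.card {s : G // ∃ q ∈ Q, q * t * q⁻¹ * t = s} := by
    by_contra hh
    have : Nat.card D * Nat.card {s : G // ∃ q ∈ Q, q * t * q⁻¹ * t = s} < 32 :=
      calc _ ≤ 4 * Nat.card {s : G // ∃ q ∈ Q, q * t * q⁻¹ * t = s} := Nat.mul_le_mul_right _ hDle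
        _ < 32 := by omega
    exact absurd horb (not_le.2 this)
  have hsub : (Finset.univ.filter fun s : G => ∃ q ∈ Q, q * t * q⁻¹ * t = s) ⊆
      Finset.univ.filter fun s : G => s ∈ F := fun s hs => by
    obtain ⟨q, hq, rfl⟩ := (Finset.mem_filter.1 hs).2
    exact Finset.mem_filter.2 ⟨Finset.mem_univ _, (h.commutator_mem htz htt hq).1⟩
  have heq := Finset.eq_of_subset_of_card_le hsub (by
    rw [← Fintype.card_subtype, ← Fintype.card_subtype, ← Nat.card_eq_fintype_card, ← Nat.card_eq_fintype_card]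
    exact himg8)
  have hu' : u ∈ Finset.univ.filter fun s : G => ∃ q ∈ Q, q * t * q⁻¹ * t = s := by
    rw [heq]; exact Finset.mem_filter.2 ⟨Finset.mem_univ _, huF⟩
  obtain ⟨q, hq, e⟩ := (Finset.mem_filter.1 hu').2
  have hut := (h.commutator_mem htz htt hq).2
  rw [e] at hut
  refine htu ?_
  show t * u = u * t
  calc t * u = (u * u) * t * u * (t * t) := by rw [huu, htt]; group
    _ = u * ((u * t) * (u * t)) * t := by group
    _ = u * t := by rw [hut, mul_one]

/-- Data for the involutions in a coset. -/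
theorem coset_conj {t s : G} (ht : orderOf t = 2) (hn : ¬ IsConj z t) (htz : Commute t z) (hs : s ∈ Q)
    (hst : s * t * (s * t) = 1) : ∃ q ∈ Q, q * t * q⁻¹ = s * t := by
  classical
  haveI := Fintype.ofFinite G
  have htt := CfsgLib.Invol.mul_self_eq_one ht
  obtain ⟨u, R, r, p, htu⟩ := h.exists_comm_pair ht hn htz
  have hft1 : f ⟨t, mem_cent.2 htz⟩ ≠ 1 := fun e => h.not_mem_of_not_conj ht hn ((h.hker _).1 e)
  have hF8 := h.card_fixMod_le htz (h.map_sq htz htt) hft1
  have horb := h.orbit_bound htz htt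
  rw [p.card_cent_t ht hn htz htu, p.card_four] at horb
  have hsub : (Finset.univ.filter fun s : G => ∃ q ∈ Q, q * t * q⁻¹ * t = s) ⊆
      Finset.univ.filter fun s : G => s ∈ h.fixMod htz := fun s hs => by
    obtain ⟨q, hq, rfl⟩ := (Finset.mem_filter.1 hs).2
    exact Finset.mem_filter.2 ⟨Finset.mem_univ _, (h.commutator_mem htz htt hq).1⟩
  have heq := Finset.eq_of_subset_of_card_le hsub (by
    rw [← Fintype.card_subtype, ← Fintype.card_subtype, ← Nat.card_eq_fintype_card, ← Nat.card_eq_fintype_card]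
    omega)
  have hsF : s ∈ h.fixMod htz := by
    refine ⟨hs, ?_⟩
    have h2 : t * s * t⁻¹ = s⁻¹ := by
      rw [inv_eq_of_mul_eq_one_left htt]
      exact eq_inv_of_mul_eq_one_right (by rw [← hst]; group)
    rw [h2]
    rcases h.hsq s hs with e | e
    · exact Or.inl (inv_eq_of_mul_eq_one_left e)
    · exact Or.inr (inv_eq_of_mul_eq_one_right (by rw [← mul_assoc, e, h.zz]))
  have hs' : s ∈ Finset.univ.filter fun s : G => ∃ q ∈ Q, q * t * q⁻¹ * t = s := by
    rw [heq]; exact Finset.mem_filter.2 ⟨Finset.mem_univ _, hsF⟩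
  obtain ⟨q, hq, e⟩ := (Finset.mem_filter.1 hs').2
  exact ⟨q, hq, by rw [← e, mul_assoc (q * t * q⁻¹) t t, htt, mul_one]⟩

/-- All involutions of `C(z)` outside `Q` are conjugate. -/
theorem outer_conj {t v : G} (ht : orderOf t = 2) (hn : ¬ IsConj z t) (htz : Commute t z)
    (hvz : Commute v z) (hvv : v * v = 1) (hvQ : v ∉ Q) : ∃ g, Commute g z ∧ g * t * g⁻¹ = v := by
  have htt := CfsgLib.Invol.mul_self_eq_one ht
  have hft1 : f ⟨t, mem_cent.2 htz⟩ ≠ 1 := fun e => h.not_mem_of_not_conj ht hn ((h.hker _).1 e)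
  have hfv1 : f ⟨v, mem_cent.2 hvz⟩ ≠ 1 := fun e => hvQ ((h.hker _).1 e)
  obtain ⟨a, ha⟩ := alt_invol_conj _ _ (h.map_sq htz htt) hft1 (h.map_sq hvz hvv) hfv1
  obtain ⟨⟨k, hk⟩, rfl⟩ := h.hsurj a
  have hkz : Commute k z := mem_cent.1 hk
  have hwz : Commute (k⁻¹ * v * k) z := (hkz.inv_left.mul_left hvz).mul_left hkz
  have hs : k⁻¹ * v * k * t⁻¹ ∈ Q :=
    (h.hker (⟨k, hk⟩⁻¹ * ⟨v, mem_cent.2 hvz⟩ * ⟨k, hk⟩ * ⟨t, mem_cent.2 htz⟩⁻¹)).1 (by
      rw [map_mul, map_mul, map_mul, map_inv, map_inv, ← ha]; group)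
  obtain ⟨q, hq, hqt⟩ := h.coset_conj ht hn htz hs (by
    rw [inv_mul_cancel_right, show k⁻¹ * v * k * (k⁻¹ * v * k) = k⁻¹ * (v * v) * k by group, hvv]; group)
  rw [inv_mul_cancel_right] at hqt
  refine ⟨k * q, hkz.mul_left (h.comm_z hq), ?_⟩
  calc k * q * t * (k * q)⁻¹ = k * (q * t * q⁻¹) * k⁻¹ := by group
    _ = v := by rw [hqt]; group

end Hyp

namespace Pair

variable {z u : G} {Q R : Subgroup G}
  {f : ↥(Subgroup.centralizer ({z} : Set G)) →* alternatingGroup (Fin 5)}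
  {r : ↥(Subgroup.centralizer ({u} : Set G)) →* alternatingGroup (Fin 5)}
  (p : Pair z u Q R f r)
include p

/-- `C(z) ∩ C(t)` is elementary abelian of order sixteen and centralizes `u`. -/
theorem cent_torus {t : G} (ht : orderOf t = 2) (hn : ¬ IsConj z t) (htz : Commute t z) (htu : Commute t u) :
    Nat.card (Subgroup.centralizer ({z} : Set G) ⊓ Subgroup.centralizer ({t} : Set G) : Subgroup G) = 16 ∧
    (∀ s, Commute s z → Commute s t → Commute s u ∧ s * s = 1) := by
  classical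
  haveI := Fintype.ofFinite G
  have htt := CfsgLib.Invol.mul_self_eq_one ht
  obtain ⟨a, b, hd, hab⟩ := p.decompose ht hn htz htu
  obtain ⟨ha, hau, hb, hbz, hna, hnb, he⟩ := id hd
  set T := Subgroup.centralizer ({z} : Set G) ⊓ Subgroup.centralizer ({t} : Set G)
  have hcent := p.card_cent_t ht hn htz htu
  have hft1 : f ⟨t, mem_cent.2 htz⟩ ≠ 1 := fun e => p.left.not_mem_of_not_conj ht hn ((p.left.hker _).1 e)
  constructor
  · -- order
    let g : T →* alternatingGroup (Fin 5) := f.comp (Subgroup.inclusion inf_le_left)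
    have hker : Nat.card g.ker = 4 := by
      rw [← p.card_four, ← hcent]
      exact Nat.card_congr
        { toFun := fun k => ⟨(k.1 : G), (p.left.hker _).1 k.2, k.1.2.2⟩
          invFun := fun q => ⟨⟨q.1, p.left.hQle q.2.1, q.2.2⟩, (p.left.hker _).2 q.2.1⟩
          left_inv := fun k => rfl
          right_inv := fun q => rfl }
    have hrange : Nat.card g.range = 4 := by
      rw [← (InvChar.J2Order.alt_cent _ (p.left.map_sq htz htt) hft1).1, ← Nat.card_eq_finsetCard]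
      refine Nat.card_congr (Equiv.subtypeEquivRight fun x => ?_)
      simp only [Finset.mem_filter, Finset.mem_univ, true_and]
      constructor
      · rintro ⟨⟨s, hsz, hst⟩, rfl⟩
        show f ⟨t, _⟩ * f _ = f _ * f ⟨t, _⟩
        rw [← map_mul, ← map_mul]
        exact congrArg f (Subtype.ext (mem_cent.1 hst).symm.eq)
      · intro hx
        obtain ⟨⟨k, hk⟩, rfl⟩ := p.left.hsurj x
        have hkz : Commute k z := mem_cent.1 hk
        have hs : k * t * k⁻¹ * t⁻¹ ∈ Q :=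
          (p.left.hker (⟨k, hk⟩ * ⟨t, mem_cent.2 htz⟩ * ⟨k, hk⟩⁻¹ * ⟨t, mem_cent.2 htz⟩⁻¹)).1 (by
            rw [map_mul, map_mul, map_mul, map_inv, map_inv, ← hx]; group)
        obtain ⟨q, hq, hqt⟩ := p.left.coset_conj ht hn htz hs (by
          rw [inv_mul_cancel_right]; exact conj_mul_self htt)
        rw [inv_mul_cancel_right] at hqt
        have hc : Commute (q⁻¹ * k) t := by
          show q⁻¹ * k * t = t * (q⁻¹ * k)
          calc q⁻¹ * k * t = q⁻¹ * (k * t * k⁻¹) * k := by group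
            _ = q⁻¹ * (q * t * q⁻¹) * k := by rw [← hqt]
            _ = t * (q⁻¹ * k) := by group
        refine ⟨⟨q⁻¹ * k, mem_cent.2 ((p.left.comm_z hq).inv_left.mul_left hkz), mem_cent.2 hc⟩, ?_⟩
        show f ⟨q⁻¹ * k, _⟩ = f ⟨k, hk⟩
        rw [show (⟨q⁻¹ * k, mem_cent.2 ((p.left.comm_z hq).inv_left.mul_left hkz)⟩ :
          ↥(Subgroup.centralizer ({z} : Set G))) = ⟨q, p.left.hQle hq⟩⁻¹ * ⟨k, hk⟩ from rfl, map_mul, map_inv,
          (p.left.hker ⟨q, _⟩).2 hq, inv_one, one_mul]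
    have := g.ker.card_mul_index
    rw [Subgroup.index_ker, hker, hrange] at this
    exact this.symm
  intro s hsz hst
  have hfs : f ⟨t, mem_cent.2 htz⟩ * f ⟨s, mem_cent.2 hsz⟩ = f ⟨s, mem_cent.2 hsz⟩ * f ⟨t, mem_cent.2 htz⟩ := by
    rw [← map_mul, ← map_mul]; exact congrArg f (Subtype.ext hst.symm.eq)
  obtain ⟨y₀, hy₀z, hy₀, e₀⟩ := p.invol_image htz htu (p.left.map_sq htz htt)
  obtain ⟨-, hsqN, h3, -⟩ := p.image_facts
  obtain ⟨y, hyz, hy, ey⟩ := (h3 _ ⟨y₀, hy₀z, hy₀, e₀⟩ hft1 _).1 hfs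
  have hq : s * y⁻¹ ∈ Q := (p.left.hker (⟨s, mem_cent.2 hsz⟩ * ⟨y, mem_cent.2 hyz⟩⁻¹)).1 (by
    rw [map_mul, map_inv, ey, mul_inv_cancel])
  -- `s` centralizes `u`
  have hsu : Commute s u := by
    by_contra hsu
    set q := s * y⁻¹ with hqdef
    have hqu : ¬ Commute q u := fun hc => hsu (by
      have := hc.mul_left (p.right.comm_z hy)
      rwa [hqdef, inv_mul_cancel_right] at this)
    -- the commutators from `Q ∩ C(u)` fill the four-group
    have hX : ∀ x, x ∈ Q → Commute x u → Four z u (x * t * x⁻¹ * t) := by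
      intro x hx hxu
      obtain ⟨c, hc, hxb⟩ := p.commutator hx hxu hb hbz
      have hxc : Commute x⁻¹ c := hc.comm (p.left.comm_z (Q.inv_mem hx)) hxu.inv_left
      have hbc : x * b * x⁻¹ = b * c := by
        rw [hxb]
        calc b * x * c * x⁻¹ = b * x * (x⁻¹ * c) := by rw [mul_assoc _ c, ← hxc.eq]
          _ = b * c := by group
      obtain ⟨d, hd4, hxa⟩ : ∃ d, Four z u d ∧ x * a * x⁻¹ = a * d := by
        rcases p.left.conj_cases hx ha with e | e
        · exact ⟨1, Or.inl rfl, by rw [e, mul_one]⟩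
        · exact ⟨z, Or.inr (Or.inl rfl), e⟩
      have hdb : Commute b d := hd4.comm hbz (p.right.comm_z hb)
      have key : x * t * x⁻¹ * t = (d * c) * (t * t) := by
        have hdct : Commute t (d * c) := (p.four_mul hd4 hc).comm htz htu
        calc x * t * x⁻¹ * t = (x * a * x⁻¹) * (x * b * x⁻¹) * t := by rw [hab]; group
          _ = a * (d * b) * c * t := by rw [hxa, hbc]; group
          _ = t * (d * c) * t := by rw [← hdb.eq, hab]; group
          _ = (d * c) * (t * t) := by rw [hdct.eq]; group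
      rw [key, htt, mul_one]
      exact p.four_mul hd4 hc
    set X := Finset.univ.filter fun x : G => x ∈ Q ⊓ Subgroup.centralizer ({u} : Set G)
    have hX16 : X.card = 16 := by
      rw [← p.left.card_cent p.memQ p.right.z_ne p.ne, Nat.card_eq_fintype_card, ← Fintype.card_subtype]
    set W := Finset.univ.filter fun c : G => c ∈ Q ⊓ R
    have hW4 : W.card = 4 := by
      rw [← p.card_four, Nat.card_eq_fintype_card, ← Fintype.card_subtype]
    have hle : X.card ≤ 4 * (X.image fun x => x * t * x⁻¹ * t).card := by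
      refine Finset.card_le_mul_card_image _ 4 fun c hc => ?_
      obtain ⟨x₀, hx₀, rfl⟩ := Finset.mem_image.1 hc
      rw [← hW4]
      refine Finset.card_le_card_of_injOn (fun x => x₀⁻¹ * x) ?_ (fun _ _ _ _ h => mul_left_cancel h)
      intro x hx
      obtain ⟨hxX, hxe⟩ := Finset.mem_filter.1 hx
      refine Finset.mem_filter.2 ⟨Finset.mem_univ _, hcent.le ⟨Q.mul_mem (Q.inv_mem
        (Finset.mem_filter.1 hx₀).2.1) (Finset.mem_filter.1 hxX).2.1, mem_cent.2 ?_⟩⟩
      show x₀⁻¹ * x * t = t * (x₀⁻¹ * x)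
      calc x₀⁻¹ * x * t = x₀⁻¹ * (x * t * x⁻¹) * x := by group
        _ = x₀⁻¹ * (x₀ * t * x₀⁻¹) * x := by rw [mul_right_cancel hxe]
        _ = t * (x₀⁻¹ * x) := by group
    have himg : (X.image fun x => x * t * x⁻¹ * t) = W := by
      refine Finset.eq_of_subset_of_card_le (fun c hc => ?_) (by omega)
      obtain ⟨x, hx, rfl⟩ := Finset.mem_image.1 hc
      exact Finset.mem_filter.2 ⟨Finset.mem_univ _,
        p.four_iff.1 (hX x (Finset.mem_filter.1 hx).2.1 (mem_cent.1 (Finset.mem_filter.1 hx).2.2))⟩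
    -- `y` moves `t` inside the coset of the four-group
    obtain ⟨c, hc, hay⟩ := p.commutator ha hau hy hyz
    obtain ⟨d, hd4, hby⟩ : ∃ d, Four z u d ∧ y * b * y⁻¹ = b * d := by
      rcases p.right.conj_cases hy hb with e | e
      · exact ⟨1, Or.inl rfl, by rw [e, mul_one]⟩
      · exact ⟨u, Or.inr (Or.inr (Or.inl rfl)), e⟩
    have hya : y * a * y⁻¹ = a * c := by
      rw [p.comm_flip ha hau hy hyz hc hay, mul_assoc _ c y⁻¹,
        (hc.comm hyz (p.right.comm_z hy)).inv_left.symm.eq]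
      group
    have hcb : Commute b c := hc.comm hbz (p.right.comm_z hb)
    have hyt : y * t * y⁻¹ = t * (c * d) := by
      calc y * t * y⁻¹ = (y * a * y⁻¹) * (y * b * y⁻¹) := by rw [hab]; group
        _ = a * (c * b) * d := by rw [hya, hby]; group
        _ = t * (c * d) := by rw [← hcb.eq, hab]; group
    have hw4 := p.four_mul hc hd4
    set w := c * d
    have hsq : q * (t * w) * q⁻¹ = t := by
      rw [← hyt, hqdef]
      calc s * y⁻¹ * (y * t * y⁻¹) * (s * y⁻¹)⁻¹ = s * t * s⁻¹ := by group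
        _ = t := by rw [hst.eq, mul_inv_cancel_right]
    have hqw4 : Four z u (q * w * q⁻¹) := by
      rcases p.left.conj_cases hq (p.four_mem hw4).1 with e | e <;> rw [e]
      · exact hw4
      · exact p.four_mul hw4 (Or.inr (Or.inl rfl))
    obtain ⟨w', hw', hqw⟩ : ∃ w', Four z u w' ∧ q * w * q⁻¹ = w' := ⟨_, hqw4, rfl⟩
    have hqt : q * t * q⁻¹ * t = w' := by
      have h1 : q * t * q⁻¹ * w' = t := by
        rw [← hqw]
        calc q * t * q⁻¹ * (q * w * q⁻¹) = q * (t * w) * q⁻¹ := by group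
          _ = t := hsq
      have htw : Commute t w' := hw'.comm htz htu
      calc q * t * q⁻¹ * t = q * t * q⁻¹ * (w' * w') * t := by rw [p.four_sq hw', mul_one]
        _ = (q * t * q⁻¹ * w') * (w' * t) := by group
        _ = w' := by rw [h1, ← htw.eq, ← mul_assoc, htt, one_mul]
    have hmem : w' ∈ X.image fun x => x * t * x⁻¹ * t := by
      rw [himg]; exact Finset.mem_filter.2 ⟨Finset.mem_univ _, p.four_iff.1 hw'⟩
    obtain ⟨x, hx, hxe⟩ := Finset.mem_image.1 hmem
    have hxq : Commute (x⁻¹ * q) t := by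
      show x⁻¹ * q * t = t * (x⁻¹ * q)
      calc x⁻¹ * q * t = x⁻¹ * (q * t * q⁻¹) * q := by group
        _ = x⁻¹ * (x * t * x⁻¹) * q := by rw [mul_right_cancel (hqt.trans hxe.symm)]
        _ = t * (x⁻¹ * q) := by group
    have h4 := p.four_of_comm ht hn htz htu (Q.mul_mem (Q.inv_mem (Finset.mem_filter.1 hx).2.1) hq) hxq
    refine hqu ?_
    have := (mem_cent.1 (Finset.mem_filter.1 hx).2.2).mul_left (p.right.comm_z (p.four_mem h4).2)
    rwa [mul_inv_cancel_left] at this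
  refine ⟨hsu, ?_⟩
  by_cases h4 : Four z u s
  · exact p.four_sq h4
  have hs2 : f ⟨s, mem_cent.2 hsz⟩ * f ⟨s, mem_cent.2 hsz⟩ = 1 := by rw [← ey]; exact hsqN y hyz hy
  obtain ⟨a', b', ha', hau', hb', hbz', hsab⟩ := p.split hsz hsu hs2
  have hnb' : ¬ Four z u b' := fun hb4 => h4 (p.four_of_comm ht hn htz htu
    (hsab ▸ Q.mul_mem ha' (p.four_mem hb4).1) hst)
  have hnu : ¬ IsConj u t := fun hc => hn ((p.left.isConj_z p.memQ
    (CfsgLib.Invol.orderOf_eq_two p.right.z_ne p.right.zz)).trans hc)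
  have hRfour : ∀ w, w ∈ R → Commute w t → Four z u w := fun w hw hwt =>
    p.four_symm.1 (p.symm.four_of_comm ht hnu htu htz hw hwt)
  have hna' : ¬ Four z u a' := fun ha4 => h4 (hRfour s (hsab ▸ R.mul_mem (p.four_mem ha4).2 hb') hst)
  rcases p.vals hd ha' hau' hna' hb' hbz' hnb' with hc | hc
  swap
  · rw [hsab, p.square_prod ha' hau' hb' hbz' (Or.inr (Or.inr (Or.inr rfl))) hc,
      p.sq_of_not_four ha' hau' hna', p.symm.sq_of_not_four hb' hbz' (fun h => hnb' (p.four_symm.1 h)),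
      p.comm.eq]
    exact p.left.mul_z_invol p.memQ p.right.zz
  exfalso
  have hnab : ¬ Commute a b := fun hh => by
    rw [hh.eq] at he
    exact p.uz_ne_one (mul_eq_left.1 he.symm)
  have hWc : ∀ w, Four z u w → Commute a w ∧ Commute b w ∧ Commute a' w ∧ Commute b' w ∧ Commute t w :=
    fun w hw => ⟨hw.comm (p.left.comm_z ha) hau, hw.comm hbz (p.right.comm_z hb),
      hw.comm (p.left.comm_z ha') hau', hw.comm hbz' (p.right.comm_z hb'), hw.comm htz htu⟩
  -- `b'` is not congruent to `b`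
  have hbb : ¬ Four z u (b⁻¹ * b') := by
    intro hw
    set w := b⁻¹ * b' with hwdef
    have hmem : s * t⁻¹ = a' * a⁻¹ * w := by
      calc s * t⁻¹ = a' * (b * w * b⁻¹) * a⁻¹ := by rw [hsab, hab, hwdef]; group
        _ = a' * w * a⁻¹ := by rw [(hWc w hw).2.1.eq, mul_inv_cancel_right]
        _ = a' * a⁻¹ * w := by rw [mul_assoc, ← (hWc w hw).1.inv_left.eq, ← mul_assoc]
    have h5 := p.four_of_comm ht hn htz htu (hmem ▸ Q.mul_mem (Q.mul_mem ha' (Q.inv_mem ha))
      (p.four_mem hw).1) (hst.mul_left (Commute.refl t).inv_left)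
    rw [hmem] at h5
    have h6 : Four z u (a' * a⁻¹) := by
      have := p.four_mul h5 hw
      rwa [mul_assoc _ w w, p.four_sq hw, mul_one] at this
    have hab' : Commute a b' := by
      have h7 := ((hWc _ h6).2.2.2.1.inv_right.mul_right hc.symm).symm
      rwa [show (a' * a⁻¹)⁻¹ * a' = a by group] at h7
    refine hnab ?_
    have h8 := hab'.mul_right (hWc w hw).1.inv_right
    rwa [show b' * w⁻¹ = b by rw [hwdef]; group] at h8
  have haa : ¬ Four z u (a⁻¹ * a') := by
    intro hw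
    set w := a⁻¹ * a' with hwdef
    have hmem : t⁻¹ * s = w * (b⁻¹ * b') := by
      calc t⁻¹ * s = b⁻¹ * w * b' := by rw [hsab, hab, hwdef]; group
        _ = w * (b⁻¹ * b') := by rw [(hWc w hw).2.1.inv_left.eq, mul_assoc]
    have h5 := hRfour _ (hmem ▸ R.mul_mem (p.four_mem hw).2 (R.mul_mem (R.inv_mem hb) hb'))
      ((Commute.refl t).inv_left.mul_left hst)
    rw [hmem] at h5
    refine hbb ?_
    have := p.four_mul hw h5
    rwa [← mul_assoc w w, p.four_sq hw, one_mul] at this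
  -- the commutators
  obtain ⟨za, hza, hzaa⟩ : ∃ c, c = z ∧ a * a' = a' * a * c := by
    refine ⟨z, rfl, (p.left.hcomm a ha a' ha').resolve_left fun hh => haa ?_⟩
    refine p.four_of_invol (Q.mul_mem (Q.inv_mem ha) ha') (hau.inv_left.mul_left hau') ?_
    rw [show a⁻¹ * a' * (a⁻¹ * a') = a⁻¹ * (a' * a⁻¹) * a' by group,
      (show Commute a a' from hh).inv_left.symm.eq,
      show a⁻¹ * (a⁻¹ * a') * a' = (a * a)⁻¹ * (a' * a') by group, p.sq_of_not_four ha hau hna,
      p.sq_of_not_four ha' hau' hna', inv_mul_cancel]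
  obtain ⟨ub, hub, hubb⟩ : ∃ c, c = u ∧ b * b' = b' * b * c := by
    refine ⟨u, rfl, (p.right.hcomm b hb b' hb').resolve_left fun hh => hbb ?_⟩
    refine p.four_symm.1 (p.symm.four_of_invol (R.mul_mem (R.inv_mem hb) hb') (hbz.inv_left.mul_left hbz') ?_)
    rw [show b⁻¹ * b' * (b⁻¹ * b') = b⁻¹ * (b' * b⁻¹) * b' by group,
      (show Commute b b' from hh).inv_left.symm.eq,
      show b⁻¹ * (b⁻¹ * b') * b' = (b * b)⁻¹ * (b' * b') by group,
      p.symm.sq_of_not_four hb hbz (fun h => hnb (p.four_symm.1 h)),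
      p.symm.sq_of_not_four hb' hbz' (fun h => hnb' (p.four_symm.1 h)), inv_mul_cancel]
  have hb'a := p.vals hd ha hau hna hb' hbz' hnb'
  have ha'b := p.vals hd ha' hau' hna' hb hbz hnb
  rcases hb'a with hab' | hab'
  · exact haa (p.unique_partner hd ha hau hna ha' hau' hna' hb' hbz' hnb' hab' hc)
  rcases ha'b with hba' | hba'
  · refine hbb (p.four_symm.1 (p.symm.unique_partner (p.data_symm hd) hb hbz ?_ hb' hbz' ?_ ha' hau' ?_
      hba'.symm hc.symm))
    · exact fun h => hnb (p.four_symm.1 h)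
    · exact fun h => hnb' (p.four_symm.1 h)
    · exact fun h => hna' (p.four_symm.1 h)
  -- both commutators equal `u * z`
  have hW : Four z u (u * z) := Or.inr (Or.inr (Or.inr rfl))
  have hflip1 := p.comm_flip ha hau hb' hbz' hW hab'
  have hflip2 := p.comm_flip ha' hau' hb hbz hW hba'
  obtain ⟨wa, wb, wa', wb', -⟩ := hWc _ hW
  obtain ⟨za1, za2, za3, za4, -⟩ := hWc _ (Or.inr (Or.inl rfl) : Four z u z)
  obtain ⟨ua1, ua2, ua3, ua4, -⟩ := hWc _ (Or.inr (Or.inr (Or.inl rfl)) : Four z u u)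
  have hstc : s * t = t * s := hst.eq
  have e1 : s * t = a' * a * (b' * b) * (u * z) := by
    calc s * t = a' * (b' * a) * b := by rw [hsab, hab]; group
      _ = a' * (a * b') * ((u * z) * b) := by rw [hflip1]; group
      _ = a' * (a * b') * (b * (u * z)) := by rw [wb.eq]
      _ = _ := by group
  have e2 : t * s = a' * a * (b' * b) * 1 := by
    calc t * s = a * (b * a') * b' := by rw [hsab, hab]; group
      _ = a * (a' * b) * ((u * z) * b') := by rw [hflip2]; group
      _ = (a * a') * (b * b') * (u * z) := by rw [← wb'.eq]; group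
      _ = a' * a * (z * (b' * b)) * u * (u * z) := by rw [hzaa, hubb, hza, hub]; group
      _ = a' * a * ((b' * b) * z) * u * (u * z) := by rw [(za4.mul_left za2).eq]
      _ = a' * a * (b' * b) * (z * (u * u) * z) := by group
      _ = a' * a * (b' * b) * 1 := by rw [p.right.zz, mul_one, p.left.zz]
  rw [e1, e2] at hstc
  exact p.uz_ne_one (mul_left_cancel hstc)

end Pair

end CfsgLib.J2Type
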