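import Cfsg.Agent.Lib.J2Type.Basic
import Mathlib.GroupTheory.SpecificGroups.Cyclic
import Mathlib.GroupTheory.GroupAction.ConjAct
import Mathlib.GroupTheory.Index

/-!
# Two commuting conjugates of `z`
-/

set_option autoImplicit false
set_option linter.style.haveILetI false

namespace CfsgLib.J2Type

universe u

variable {G : Type u} [Group G] [Finite G]

/-- The four elements generated by `z` and `u`. -/
def Four (z u c : G) : Prop := c = 1 ∨ c = z ∨ c = u ∨ c = u * z

omit [Finite G] in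
theorem Four.comm {z u c k : G} (hc : Four z u c) (hz : Commute k z) (hu : Commute k u) : Commute k c := by
  rcases hc with e | e | e | e <;> rw [e]
  · exact Commute.one_right k
  · exact hz
  · exact hu
  · exact hu.mul_right hz

/-- `Q` contains an element of square `z` commuting with `u`. -/
theorem Hyp.exists_sq {z : G} {Q : Subgroup G} {f : ↥(Subgroup.centralizer ({z} : Set G)) →* alternatingGroup (Fin 5)}
    (h : Hyp z Q f) {u : G} (hu : u ∈ Q) (huu : u * u = 1) (hu1 : u ≠ 1) (huz : u ≠ z) :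
    ∃ w ∈ Q, Commute w u ∧ w * w = z := by
  classical
  haveI := Fintype.ofFinite G
  by_contra! hall
  have h16 := h.card_cent hu hu1 huz
  rw [Nat.card_eq_fintype_card, Fintype.card_subtype] at h16
  have hsub : (Finset.univ.filter fun x : G => x ∈ Q ⊓ Subgroup.centralizer ({u} : Set G)) ⊆
      ({1, z, u, u * z} : Finset G) := by
    intro x hx
    obtain ⟨hxQ, hxu⟩ := (Finset.mem_filter.1 hx).2
    have hxu' : Commute x u := mem_cent.1 hxu
    have hxx := (h.hsq x hxQ).resolve_right (hall x hxQ hxu')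
    rcases h.invol_cases hu huu hu1 huz hxQ hxx hxu'.symm with e | e | e | e <;> simp [e]
  have h4 : ({1, z, u, u * z} : Finset G).card ≤ 4 := Finset.card_le_four
  have := Finset.card_le_card hsub
  omega

/-- The symmetry: `z` lies in the extraspecial group of `u`. -/
theorem Hyp.mem_symm {z u : G} {Q R : Subgroup G}
    {f : ↥(Subgroup.centralizer ({z} : Set G)) →* alternatingGroup (Fin 5)}
    {r : ↥(Subgroup.centralizer ({u} : Set G)) →* alternatingGroup (Fin 5)}
    (h : Hyp z Q f) (hr : Hyp u R r) (hu : u ∈ Q) (huz : u ≠ z) : z ∈ R := by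
  obtain ⟨w, -, hwu, hww⟩ := h.exists_sq hu hr.zz hr.z_ne huz
  have hzu : Commute z u := (h.comm_z hu).symm
  have h1 : r ⟨z, mem_cent.2 hzu⟩ = r ⟨w, mem_cent.2 hwu⟩ * r ⟨w, mem_cent.2 hwu⟩ := by
    rw [← map_mul]; exact congrArg r (Subtype.ext hww.symm)
  have h4 : r ⟨z, mem_cent.2 hzu⟩ * r ⟨z, mem_cent.2 hzu⟩ = 1 := by
    rw [← map_mul, show (⟨z, mem_cent.2 hzu⟩ : ↥(Subgroup.centralizer ({u} : Set G))) * ⟨z, mem_cent.2 hzu⟩ = 1 from
      Subtype.ext h.zz, map_one]
  exact (hr.hker _).1 (h1.trans (alt_sq_sq _ (h1 ▸ h4)))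

/-- Two commuting conjugates of `z` with their data. -/
structure Pair (z u : G) (Q R : Subgroup G)
    (f : ↥(Subgroup.centralizer ({z} : Set G)) →* alternatingGroup (Fin 5))
    (r : ↥(Subgroup.centralizer ({u} : Set G)) →* alternatingGroup (Fin 5)) : Prop where
  left : Hyp z Q f
  right : Hyp u R r
  memQ : u ∈ Q
  memR : z ∈ R
  ne : u ≠ z

theorem Hyp.exists_pair {z u : G} {Q : Subgroup G}
    {f : ↥(Subgroup.centralizer ({z} : Set G)) →* alternatingGroup (Fin 5)}
    (h : Hyp z Q f) (hu : u ∈ Q) (huu : u * u = 1) (hu1 : u ≠ 1) (huz : u ≠ z) :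
    ∃ (R : Subgroup G) (r : ↥(Subgroup.centralizer ({u} : Set G)) →* alternatingGroup (Fin 5)),
      Pair z u Q R f r := by
  obtain ⟨R, r, hr⟩ := h.exists_hyp (h.isConj_z hu (CfsgLib.Invol.orderOf_eq_two hu1 huu))
  exact ⟨R, r, h, hr, hu, h.mem_symm hr hu huz, huz⟩

namespace Pair

variable {z u : G} {Q R : Subgroup G}
  {f : ↥(Subgroup.centralizer ({z} : Set G)) →* alternatingGroup (Fin 5)}
  {r : ↥(Subgroup.centralizer ({u} : Set G)) →* alternatingGroup (Fin 5)}
  (p : Pair z u Q R f r)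
include p

omit [Finite G] in
theorem symm : Pair u z R Q r f := ⟨p.right, p.left, p.memR, p.memQ, p.ne.symm⟩

omit [Finite G] in
theorem comm : Commute z u := (p.left.comm_z p.memQ).symm

omit [Finite G] in
theorem uz_ne_one : u * z ≠ 1 := fun e => p.ne (by rw [eq_inv_of_mul_eq_one_left e, p.left.z_inv])

omit [Finite G] in
theorem four_symm {c : G} : Four u z c ↔ Four z u c := by
  unfold Four; rw [p.comm.eq]; tauto

omit [Finite G] in
theorem four_mem {c : G} (hc : Four z u c) : c ∈ Q ∧ c ∈ R := by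
  rcases hc with e | e | e | e <;> rw [e]
  · exact ⟨Q.one_mem, R.one_mem⟩
  · exact ⟨p.left.hzQ, p.memR⟩
  · exact ⟨p.memQ, p.right.hzQ⟩
  · exact ⟨Q.mul_mem p.memQ p.left.hzQ, R.mul_mem p.right.hzQ p.memR⟩

theorem four_of_invol {x : G} (hx : x ∈ Q) (hxu : Commute x u) (hxx : x * x = 1) : Four z u x :=
  p.left.invol_cases p.memQ p.right.zz p.right.z_ne p.ne hx hxx hxu.symm

theorem four_of_mem {x : G} (hx : x ∈ Q) (hxR : x ∈ R) : Four z u x := by
  refine p.four_of_invol hx (p.right.comm_z hxR) ?_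
  rcases p.left.hsq x hx with e | e
  · exact e
  rcases p.right.hsq x hxR with e' | e'
  · exact e'
  · exact absurd (e'.symm.trans e) p.ne

theorem four_iff {x : G} : Four z u x ↔ x ∈ Q ⊓ R :=
  ⟨fun hx => p.four_mem hx, fun hx => p.four_of_mem hx.1 hx.2⟩

theorem card_four : Nat.card (Q ⊓ R : Subgroup G) = 4 := by
  classical
  have hset : ((Q ⊓ R : Subgroup G) : Set G) = {1, z, u, u * z} := by
    ext x
    rw [SetLike.mem_coe, ← p.four_iff]
    simp [Four]
  show Nat.card ((Q ⊓ R : Subgroup G) : Set G) = 4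
  rw [hset, Nat.card_coe_set_eq, Set.ncard_insert_of_notMem, Set.ncard_insert_of_notMem, Set.ncard_pair]
  · exact fun hh => p.left.z_ne (mul_eq_left.1 hh.symm)
  · simp only [Set.mem_insert_iff, Set.mem_singleton_iff, not_or]
    exact ⟨p.ne.symm, fun hh => p.right.z_ne (mul_eq_right.1 hh.symm)⟩
  · simp only [Set.mem_insert_iff, Set.mem_singleton_iff, not_or]
    exact ⟨p.left.z_ne.symm, p.right.z_ne.symm, p.uz_ne_one.symm⟩

theorem four_mul {c d : G} (hc : Four z u c) (hd : Four z u d) : Four z u (c * d) :=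
  p.four_iff.2 ((Q ⊓ R).mul_mem (p.four_iff.1 hc) (p.four_iff.1 hd))

theorem four_sq {c : G} (hc : Four z u c) : c * c = 1 := by
  rcases hc with e | e | e | e <;> rw [e]
  · exact mul_one 1
  · exact p.left.zz
  · exact p.right.zz
  · exact p.left.mul_z_invol p.memQ p.right.zz

theorem sq_of_not_four {x : G} (hx : x ∈ Q) (hxu : Commute x u) (hn : ¬ Four z u x) : x * x = z :=
  (p.left.hsq x hx).resolve_left fun e => hn (p.four_of_invol hx hxu e)

omit [Finite G] in
theorem conjQ {k x : G} (hkz : Commute k z) (hku : Commute k u) (hx : x ∈ Q) (hxu : Commute x u) :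
    k * x * k⁻¹ ∈ Q ∧ Commute (k * x * k⁻¹) u :=
  ⟨p.left.conj_mem hkz hx, (hku.mul_left hxu).mul_left hku.inv_left⟩

omit [Finite G] in
theorem conjR {k y : G} (hkz : Commute k z) (hku : Commute k u) (hy : y ∈ R) (hyz : Commute y z) :
    k * y * k⁻¹ ∈ R ∧ Commute (k * y * k⁻¹) z :=
  p.symm.conjQ hku hkz hy hyz

/-- Commutators between the two sides lie in the four-group. -/
theorem commutator {x y : G} (hx : x ∈ Q) (hxu : Commute x u) (hy : y ∈ R) (hyz : Commute y z) :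
    ∃ c, Four z u c ∧ x * y = y * x * c := by
  refine ⟨x⁻¹ * (y⁻¹ * x * y), p.four_of_mem (Q.mul_mem (Q.inv_mem hx) ?_) ?_, by group⟩
  · have := p.left.conj_mem hyz.inv_left hx; rwa [inv_inv] at this
  · have h1 : x⁻¹ * y⁻¹ * x ∈ R := by
      have := (p.conjR (k := x⁻¹) (p.left.comm_z (Q.inv_mem hx)) hxu.inv_left (R.inv_mem hy) hyz.inv_left).1
      rwa [inv_inv] at this
    rw [show x⁻¹ * (y⁻¹ * x * y) = x⁻¹ * y⁻¹ * x * y by group]
    exact R.mul_mem h1 hy

theorem comm_flip {x y c : G} (hx : x ∈ Q) (hxu : Commute x u) (hy : y ∈ R) (hyz : Commute y z)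
    (hc : Four z u c) (he : x * y = y * x * c) : y * x = x * y * c := by
  have hcomm : Commute (y * x) c :=
    hc.comm (hyz.mul_left (p.left.comm_z hx)) ((p.right.comm_z hy).mul_left hxu)
  rw [he, mul_assoc, p.four_sq hc, mul_one]

theorem square_prod {x y c : G} (hx : x ∈ Q) (hxu : Commute x u) (hy : y ∈ R) (hyz : Commute y z)
    (hc : Four z u c) (he : x * y = y * x * c) : x * y * (x * y) = x * x * (y * y) * c := by
  have hyc : Commute y c := hc.comm hyz (p.right.comm_z hy)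
  calc x * y * (x * y) = x * (y * x) * y := by group
    _ = x * (x * y * c) * y := by rw [p.comm_flip hx hxu hy hyz hc he]
    _ = x * x * y * (c * y) := by group
    _ = x * x * (y * y) * c := by rw [← hyc.eq]; group

/-- The stabilizer of `u`. -/
theorem card_stab : Nat.card ((Subgroup.centralizer ({u} : Set G)).subgroupOf
    (Subgroup.centralizer ({z} : Set G))) = 192 := by
  classical
  have hC : Nat.card ↥(Subgroup.centralizer ({z} : Set G)) = 1920 := by
    rw [← f.ker.card_mul_index, Subgroup.index_ker, MonoidHom.range_eq_top.2 p.left.hsurj,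
      Subgroup.card_top, Nat.card_eq_fintype_card (α := alternatingGroup (Fin 5)), InvChar.J2Order.alt_card]
    have : Nat.card f.ker = 32 := by
      rw [← p.left.hQ]
      exact Nat.card_congr
        { toFun := fun k => ⟨(k.1 : G), (p.left.hker _).1 k.2⟩
          invFun := fun q => ⟨⟨q.1, p.left.hQle q.2⟩, (p.left.hker _).2 q.2⟩
          left_inv := fun k => rfl
          right_inv := fun q => rfl }
    rw [this]
  set H := ↥(Subgroup.centralizer ({z} : Set G))
  let v : H := ⟨u, mem_cent.2 p.comm.symm⟩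
  have hcent : (Subgroup.centralizer ({u} : Set G)).subgroupOf (Subgroup.centralizer ({z} : Set G)) =
      Subgroup.centralizer ({v} : Set H) := by
    ext k
    rw [Subgroup.mem_subgroupOf, mem_cent, mem_cent]
    exact ⟨fun hh => Subtype.ext hh.eq, fun hh => congrArg Subtype.val hh.eq⟩
  have horb : Nat.card (MulAction.orbit (ConjAct H) v) = 10 := by
    have h12 := p.left.invol_count.1
    haveI := Fintype.ofFinite G
    rw [Nat.card_eq_fintype_card, Fintype.card_subtype] at h12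
    set S := ((Finset.univ.filter fun q : G => q ∈ Q ∧ q * q = 1).erase 1).erase z with hS
    have hS10 : S.card = 10 := by
      rw [hS, Finset.card_erase_of_mem (by simp [p.left.hzQ, p.left.zz, p.left.z_ne]),
        Finset.card_erase_of_mem (by simp [Q.one_mem]), h12]
    rw [← hS10, ← Nat.card_eq_finsetCard]
    have hmem : ∀ q : G, q ∈ S ↔ q ∈ Q ∧ q * q = 1 ∧ q ≠ 1 ∧ q ≠ z := fun q => by
      simp only [hS, Finset.mem_filter, Finset.mem_univ, true_and, Finset.mem_erase]; tauto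
    refine Nat.card_eq_of_bijective (fun x => ⟨((x.1 : H) : G), (hmem _).2 ?_⟩) ⟨?_, ?_⟩
    · obtain ⟨k, hk⟩ := isConj_iff.1 (isConj_comm.1 (ConjAct.mem_orbit_conjAct.1 x.2))
      have hk' : ((x.1 : H) : G) = (k : G) * u * (k : G)⁻¹ := by rw [← hk]; rfl
      have hkz : Commute (k : G) z := mem_cent.1 k.2
      rw [hk']
      refine ⟨p.left.conj_mem hkz p.memQ, conj_mul_self p.right.zz,
        fun hh => p.right.z_ne (conj_eq_one_iff.1 hh), fun hh => p.ne ?_⟩
      calc u = (k : G)⁻¹ * ((k : G) * u * (k : G)⁻¹) * k := by group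
        _ = (k : G)⁻¹ * z * k := by rw [hh]
        _ = z := by rw [hkz.inv_left.eq, inv_mul_cancel_right]
    · intro a b hab
      exact Subtype.ext (Subtype.ext (congrArg Subtype.val hab :))
    · rintro ⟨q, hq⟩
      obtain ⟨hqQ, hqq, hq1, hqz⟩ := (hmem q).1 hq
      obtain ⟨g, hgz, hg⟩ := p.left.invol_conj p.memQ p.right.zz p.right.z_ne p.ne hqQ hqq hq1 hqz
      exact ⟨⟨⟨q, p.left.hQle hqQ⟩, ConjAct.mem_orbit_conjAct.2
        (isConj_comm.1 (isConj_iff.2 ⟨⟨g, mem_cent.2 hgz⟩, Subtype.ext hg⟩))⟩, rfl⟩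
  have hstab := Nat.card_congr (MulAction.orbitProdStabilizerEquivGroup (ConjAct H) v)
  rw [Nat.card_prod, horb, ← Subgroup.nat_card_centralizer_nat_card_stabilizer] at hstab
  have hH : Nat.card (ConjAct H) = 1920 := hC
  have hH' : Nat.card H = 1920 := hC
  rw [hcent]
  linarith [hstab, hH, hH']

omit [Finite G] p in
theorem card_map_eq {A : Type*} [Group A] {B : Type*} [Group B] [Finite A] (φ : A →* B) (K : Subgroup A) :
    Nat.card (φ.ker ⊓ K : Subgroup A) * Nat.card (K.map φ) = Nat.card K := by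
  rw [← Subgroup.relIndex_ker (K := K) φ, ← Subgroup.inf_relIndex_right]
  have := Subgroup.relIndex_mul_relIndex ⊥ (φ.ker ⊓ K) K bot_le inf_le_right
  rwa [Subgroup.relIndex_bot_left, Subgroup.relIndex_bot_left] at this

/-- The image of the stabilizer of `u` and of its normal four-group. -/
theorem image_facts :
    (∀ (k : G) (hk : Commute k z), Commute k u → ∀ (y : G) (hy : Commute y z), y ∈ R → f ⟨y, mem_cent.2 hy⟩ ≠ 1 →
      f ⟨k, mem_cent.2 hk⟩ * f ⟨y, mem_cent.2 hy⟩ * (f ⟨k, mem_cent.2 hk⟩)⁻¹ * f ⟨y, mem_cent.2 hy⟩ =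
        f ⟨y, mem_cent.2 hy⟩ * (f ⟨k, mem_cent.2 hk⟩ * f ⟨y, mem_cent.2 hy⟩ * (f ⟨k, mem_cent.2 hk⟩)⁻¹)) ∧
    (∀ (y : G) (hy : Commute y z), y ∈ R → f ⟨y, mem_cent.2 hy⟩ * f ⟨y, mem_cent.2 hy⟩ = 1) ∧
    (∀ a : alternatingGroup (Fin 5), (∃ (y : G) (hy : Commute y z), y ∈ R ∧ f ⟨y, mem_cent.2 hy⟩ = a) →
      a ≠ 1 → ∀ g, (a * g = g * a → ∃ (y : G) (hy : Commute y z), y ∈ R ∧ f ⟨y, mem_cent.2 hy⟩ = g) ∧
        (g * a * g⁻¹ * a = a * (g * a * g⁻¹) → ∃ (k : G) (hk : Commute k z), Commute k u ∧ f ⟨k, mem_cent.2 hk⟩ = g)) ∧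
    ∃ (y : G) (hy : Commute y z), y ∈ R ∧ f ⟨y, mem_cent.2 hy⟩ ≠ 1 := by
  classical
  set K := (Subgroup.centralizer ({u} : Set G)).subgroupOf (Subgroup.centralizer ({z} : Set G)) with hKdef
  set Y := R.subgroupOf (Subgroup.centralizer ({z} : Set G)) with hYdef
  have hker : ∀ S : Subgroup G, Nat.card (f.ker ⊓ S.subgroupOf (Subgroup.centralizer ({z} : Set G)) : Subgroup ↥(Subgroup.centralizer ({z} : Set G))) = Nat.card (Q ⊓ S : Subgroup G) :=
    fun S => Nat.card_congr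
      { toFun := fun k => ⟨(k.1 : G), (p.left.hker k.1).1 (MonoidHom.mem_ker.1 k.2.1), k.2.2⟩
        invFun := fun q => ⟨⟨q.1, p.left.hQle q.2.1⟩,
          MonoidHom.mem_ker.2 ((p.left.hker ⟨q.1, p.left.hQle q.2.1⟩).2 q.2.1), q.2.2⟩
        left_inv := fun k => rfl
        right_inv := fun q => rfl }
  have hY16 : Nat.card Y = 16 := by
    rw [← p.symm.left.card_cent p.memR p.left.z_ne p.ne.symm]
    exact Nat.card_congr
      { toFun := fun k => ⟨(k.1 : G), k.2, k.1.2⟩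
        invFun := fun q => ⟨⟨q.1, q.2.2⟩, q.2.1⟩
        left_inv := fun k => rfl
        right_inv := fun q => rfl }
  have hN : Nat.card (Y.map f) = 4 := by
    have := card_map_eq f Y
    rw [hker R, p.card_four, hY16] at this
    omega
  have hM : Nat.card (K.map f) = 12 := by
    have := card_map_eq f K
    rw [hker, p.left.card_cent p.memQ p.right.z_ne p.ne, p.card_stab] at this
    omega
  haveI : Fact (Nat.Prime 2) := ⟨Nat.prime_two⟩
  have hNcomm : ∀ a ∈ Y.map f, ∀ b ∈ Y.map f, a * b = b * a := fun a ha b hb =>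
    congrArg Subtype.val ((IsPGroup.commGroupOfCardEqPrimeSq (p := 2) (G := (Y.map f : Subgroup _))
      (by rw [hN]; norm_num)).mul_comm ⟨a, ha⟩ ⟨b, hb⟩)
  have hsq : ∀ a ∈ Y.map f, a * a = 1 := by
    rintro _ ⟨⟨y, hy⟩, hyR, rfl⟩
    rw [← map_mul, p.left.hker]
    show y * y ∈ Q
    rcases p.right.hsq y hyR with e | e <;> rw [e]
    · exact Q.one_mem
    · exact p.memQ
  have hfin : ∀ a : alternatingGroup (Fin 5), a ∈ Y.map f → a ≠ 1 → ∀ g,
      (a * g = g * a → g ∈ Y.map f) ∧ (g * a * g⁻¹ * a = a * (g * a * g⁻¹) → g ∈ K.map f) := by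
    intro a ha ha1 g
    have h4 := (InvChar.J2Order.alt_cent a (hsq a ha) ha1).1
    have h12 := alt_norm a (hsq a ha) ha1
    constructor
    · intro hg
      have hsub : (Finset.univ.filter fun b => b ∈ Y.map f) ⊆ Finset.univ.filter fun b => a * b = b * a :=
        fun b hb => Finset.mem_filter.2 ⟨Finset.mem_univ _, hNcomm a ha b (Finset.mem_filter.1 hb).2⟩
      have hc : (Finset.univ.filter fun b => b ∈ Y.map f).card = 4 := by
        rw [← hN, Nat.card_eq_fintype_card, Fintype.card_subtype]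
      have heq := Finset.eq_of_subset_of_card_le hsub (by rw [h4, hc])
      have : g ∈ Finset.univ.filter fun b => a * b = b * a := Finset.mem_filter.2 ⟨Finset.mem_univ _, hg⟩
      rw [← heq] at this
      exact (Finset.mem_filter.1 this).2
    · intro hg
      have hsub : (Finset.univ.filter fun b => b ∈ K.map f) ⊆
          Finset.univ.filter fun b => b * a * b⁻¹ * a = a * (b * a * b⁻¹) := by
        intro b hb
        obtain ⟨⟨k, hk⟩, hkK, rfl⟩ := (Finset.mem_filter.1 hb).2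
        obtain ⟨⟨y, hy⟩, hyR, rfl⟩ := ha
        refine Finset.mem_filter.2 ⟨Finset.mem_univ _, hNcomm _ ?_ _ ⟨⟨y, hy⟩, hyR, rfl⟩⟩
        refine ⟨⟨k, hk⟩ * ⟨y, hy⟩ * ⟨k, hk⟩⁻¹, ?_, by rw [map_mul, map_mul, map_inv]⟩
        exact (p.conjR (mem_cent.1 hk) (mem_cent.1 hkK) hyR (mem_cent.1 hy)).1
      have hc : (Finset.univ.filter fun b => b ∈ K.map f).card = 12 := by
        rw [← hM, Nat.card_eq_fintype_card, Fintype.card_subtype]
      have heq := Finset.eq_of_subset_of_card_le hsub (by rw [h12, hc])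
      have : g ∈ Finset.univ.filter fun b => b * a * b⁻¹ * a = a * (b * a * b⁻¹) :=
        Finset.mem_filter.2 ⟨Finset.mem_univ _, hg⟩
      rw [← heq] at this
      exact (Finset.mem_filter.1 this).2
  refine ⟨fun k hk hku y hy hyR _ => hNcomm _ ?_ _ ⟨⟨y, mem_cent.2 hy⟩, hyR, rfl⟩,
    fun y hy hyR => hsq _ ⟨⟨y, mem_cent.2 hy⟩, hyR, rfl⟩, fun a ha ha1 g => ?_, ?_⟩
  · refine ⟨⟨k, mem_cent.2 hk⟩ * ⟨y, mem_cent.2 hy⟩ * ⟨k, mem_cent.2 hk⟩⁻¹, ?_, by rw [map_mul, map_mul, map_inv]⟩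
    exact (p.conjR hk hku hyR hy).1
  · obtain ⟨y, hy, hyR, rfl⟩ := ha
    obtain ⟨h1, h2⟩ := hfin _ ⟨⟨y, mem_cent.2 hy⟩, hyR, rfl⟩ ha1 g
    constructor
    · intro hg
      obtain ⟨⟨y', hy'⟩, hy'R, e⟩ := h1 hg
      exact ⟨y', mem_cent.1 hy', hy'R, e⟩
    · intro hg
      obtain ⟨⟨k, hk⟩, hkK, e⟩ := h2 hg
      exact ⟨k, mem_cent.1 hk, mem_cent.1 hkK, e⟩
  · by_contra! hall
    have hbot : Y.map f = ⊥ := by
      rw [eq_bot_iff]
      rintro _ ⟨⟨y, hy⟩, hyR, rfl⟩
      exact Subgroup.mem_bot.2 (hall y (mem_cent.1 hy) hyR)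
    rw [hbot, Subgroup.card_bot] at hN
    omega

/-- An involution image of the stabilizer lies in the image of the four-group. -/
theorem invol_image {k : G} (hk : Commute k z) (hku : Commute k u)
    (hsq : f ⟨k, mem_cent.2 hk⟩ * f ⟨k, mem_cent.2 hk⟩ = 1) :
    ∃ (y : G) (hy : Commute y z), y ∈ R ∧ f ⟨y, mem_cent.2 hy⟩ = f ⟨k, mem_cent.2 hk⟩ := by
  obtain ⟨h1, h2, h3, y, hy, hyR, hy1⟩ := p.image_facts
  refine (h3 _ ⟨y, hy, hyR, rfl⟩ hy1 _).1 ?_
  exact (alt_norm_invol _ (h2 y hy hyR) hy1 _ hsq (h1 k hk hku y hy hyR hy1)).symm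

/-- An element of the stabilizer with involutory image splits. -/
theorem split {k : G} (hk : Commute k z) (hku : Commute k u)
    (hsq : f ⟨k, mem_cent.2 hk⟩ * f ⟨k, mem_cent.2 hk⟩ = 1) :
    ∃ x y, x ∈ Q ∧ Commute x u ∧ y ∈ R ∧ Commute y z ∧ k = x * y := by
  obtain ⟨y, hy, hyR, e⟩ := p.invol_image hk hku hsq
  refine ⟨k * y⁻¹, y, ?_, hku.mul_left (p.right.comm_z hyR).inv_left, hyR, hy, by group⟩
  have := (p.left.hker (⟨k, mem_cent.2 hk⟩ * ⟨y, mem_cent.2 hy⟩⁻¹)).1 (by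
    rw [map_mul, map_inv, e, mul_inv_cancel])
  exact this

omit [Finite G] in
theorem map_eq_one_iff {y : G} (hy : Commute y z) : f ⟨y, mem_cent.2 hy⟩ = 1 ↔ y ∈ Q :=
  p.left.hker ⟨y, mem_cent.2 hy⟩

/-- The stabilizer is transitive on the nontrivial elements of the four-group image. -/
theorem exists_conj {y y' : G} (hy : y ∈ R) (hyz : Commute y z) (hn : ¬ Four z u y)
    (hy' : y' ∈ R) (hy'z : Commute y' z) (hn' : ¬ Four z u y') :
    ∃ k c, Commute k z ∧ Commute k u ∧ Four z u c ∧ k * y * k⁻¹ = c * y' := by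
  obtain ⟨-, h2, h3, -⟩ := p.image_facts
  have h1 : f ⟨y, mem_cent.2 hyz⟩ ≠ 1 := fun e => hn (p.four_of_mem ((p.map_eq_one_iff hyz).1 e) hy)
  have h1' : f ⟨y', mem_cent.2 hy'z⟩ ≠ 1 := fun e => hn' (p.four_of_mem ((p.map_eq_one_iff hy'z).1 e) hy')
  obtain ⟨g, hg⟩ := alt_invol_conj _ _ (h2 y hyz hy) h1 (h2 y' hy'z hy') h1'
  have hcomm : g * f ⟨y, mem_cent.2 hyz⟩ * g⁻¹ * f ⟨y, mem_cent.2 hyz⟩ =
      f ⟨y, mem_cent.2 hyz⟩ * (g * f ⟨y, mem_cent.2 hyz⟩ * g⁻¹) := by
    rw [hg]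
    obtain ⟨-, hh⟩ := InvChar.J2Order.alt_cent _ (h2 y' hy'z hy') h1'
    rw [← map_mul, ← map_mul]
    obtain ⟨c, hc, e⟩ : ∃ c, Four z u c ∧ y' * y = y * y' * c := by
      rcases p.right.hcomm y' hy' y hy with e | e
      · exact ⟨1, Or.inl rfl, by rw [e, mul_one]⟩
      · exact ⟨u, Or.inr (Or.inr (Or.inl rfl)), e⟩
    have : (⟨y', mem_cent.2 hy'z⟩ : ↥(Subgroup.centralizer ({z} : Set G))) * ⟨y, mem_cent.2 hyz⟩ =
        ⟨y, mem_cent.2 hyz⟩ * ⟨y', mem_cent.2 hy'z⟩ * ⟨c, p.left.hQle (p.four_mem hc).1⟩ := Subtype.ext e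
    rw [this, map_mul, (p.left.hker ⟨c, _⟩).2 (p.four_mem hc).1, mul_one]
  obtain ⟨k, hk, hku, hkg⟩ := (h3 _ ⟨y, hyz, hy, rfl⟩ h1 g).2 hcomm
  refine ⟨k, k * y * k⁻¹ * y'⁻¹, hk, hku, p.four_of_mem ?_ ?_, by group⟩
  · have := (p.left.hker (⟨k, mem_cent.2 hk⟩ * ⟨y, mem_cent.2 hyz⟩ * ⟨k, mem_cent.2 hk⟩⁻¹ *
      ⟨y', mem_cent.2 hy'z⟩⁻¹)).1 (by
      rw [map_mul, map_mul, map_mul, map_inv, map_inv, hkg, hg, mul_inv_cancel])
    exact this
  · exact R.mul_mem (p.conjR hk hku hy hyz).1 (R.inv_mem hy')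

/-- There is a commuting pair outside the four-group. -/
theorem exists_commuting : ∃ x y, x ∈ Q ∧ Commute x u ∧ y ∈ R ∧ Commute y z ∧
    ¬ Four z u x ∧ ¬ Four z u y ∧ Commute x y := by
  have huu := p.right.zz
  have hwQ : u * z ∈ Q := Q.mul_mem p.memQ p.left.hzQ
  have hww := p.left.mul_z_invol p.memQ huu
  have hwz : u * z ≠ z := fun e => p.right.z_ne (mul_eq_right.1 e)
  obtain ⟨R', r', p'⟩ := p.left.exists_pair hwQ hww p.uz_ne_one hwz
  obtain ⟨s, hsR, hsz, hss⟩ := p'.right.exists_sq p'.memR p.left.zz p.left.z_ne p'.ne.symm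
  have hsu : Commute s u := by
    have := (p'.right.comm_z hsR).mul_right hsz
    rwa [mul_assoc u z z, p.left.zz, mul_one] at this
  have hsq : f ⟨s, mem_cent.2 hsz⟩ * f ⟨s, mem_cent.2 hsz⟩ = 1 := by
    rw [← map_mul, p.left.hker]; show s * s ∈ Q; rw [hss]; exact hwQ
  obtain ⟨x, y, hx, hxu, hy, hyz, rfl⟩ := p.split hsz hsu hsq
  obtain ⟨c, hc, he⟩ := p.commutator hx hxu hy hyz
  have hsquare := p.square_prod hx hxu hy hyz hc he
  rw [hss] at hsquare
  have hnx : ¬ Four z u x := by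
    intro h4
    have hxy : Commute y x := h4.comm hyz (p.right.comm_z hy)
    have hcancel : x * y * (x * y) = y * y := by
      rw [show x * y * (x * y) = x * (y * x) * y by group, hxy.eq,
        show x * (x * y) * y = x * x * (y * y) by group, p.four_sq h4, one_mul]
    rw [hss] at hcancel
    rcases p.right.hsq y hy with e | e <;> rw [e] at hcancel
    · exact p.uz_ne_one hcancel
    · exact p.left.z_ne (mul_eq_left.1 hcancel)
  have hny : ¬ Four z u y := by
    intro h4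
    have hxy : Commute x y := h4.comm (p.left.comm_z hx) hxu
    have hcancel : x * y * (x * y) = x * x := by
      rw [show x * y * (x * y) = x * (y * x) * y by group, ← hxy.eq,
        show x * (x * y) * y = x * x * (y * y) by group, p.four_sq h4, mul_one]
    rw [hss, p.sq_of_not_four hx hxu hnx] at hcancel
    exact hwz hcancel
  refine ⟨x, y, hx, hxu, hy, hyz, hnx, hny, ?_⟩
  rw [p.sq_of_not_four hx hxu hnx,
    p.symm.sq_of_not_four hy hyz (fun h4 => hny (p.four_symm.1 h4)), p.comm.eq] at hsquare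
  show x * y = y * x
  rw [he, mul_eq_left.1 hsquare.symm, mul_one]

theorem comm_every {y : G} (hy : y ∈ R) (hyz : Commute y z) (hn : ¬ Four z u y) :
    ∃ x, x ∈ Q ∧ Commute x u ∧ ¬ Four z u x ∧ Commute x y := by
  obtain ⟨x, y₀, hx, hxu, hy₀, hy₀z, hnx, hny, hxy⟩ := p.exists_commuting
  obtain ⟨k, c, hkz, hku, hc, e⟩ := p.exists_conj hy₀ hy₀z hny hy hyz hn
  refine ⟨k * x * k⁻¹, (p.conjQ hkz hku hx hxu).1, (p.conjQ hkz hku hx hxu).2, fun h4 => hnx ?_, ?_⟩
  · have : Commute k (k * x * k⁻¹) := h4.comm hkz hku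
    have h' : k * x * k⁻¹ = x := by
      calc k * x * k⁻¹ = k⁻¹ * (k * (k * x * k⁻¹)) := by group
        _ = k⁻¹ * (k * x * k⁻¹ * k) := by rw [this.eq]
        _ = x := by group
    rwa [h'] at h4
  · have h1 : Commute (k * x * k⁻¹) (c * y) := by
      rw [← e]; show k * x * k⁻¹ * (k * y₀ * k⁻¹) = k * y₀ * k⁻¹ * (k * x * k⁻¹)
      rw [show k * x * k⁻¹ * (k * y₀ * k⁻¹) = k * (x * y₀) * k⁻¹ by group, hxy.eq]; group
    have h2 : Commute (k * x * k⁻¹) c :=
      hc.comm (p.left.comm_z (p.conjQ hkz hku hx hxu).1) (p.conjQ hkz hku hx hxu).2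
    have := h2.inv_right.mul_right h1
    rwa [inv_mul_cancel_left] at this

/-- Among the elements of `Q` commuting with `u` there are three classes outside the four-group. -/
theorem three_cases {x a b : G} (hx : x ∈ Q) (hxu : Commute x u) (hnx : ¬ Four z u x)
    (ha : a ∈ Q) (hau : Commute a u) (hna : ¬ Four z u a) (hb : b ∈ Q) (hbu : Commute b u)
    (hnb : ¬ Four z u b) :
    Four z u (x⁻¹ * a) ∨ Four z u (x⁻¹ * b) ∨ Four z u (a⁻¹ * b) ∨ Four z u (x⁻¹ * (a * b)) := by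
  classical
  by_contra! hne
  obtain ⟨h1, h2, h3, h4⟩ := hne
  set X := Q ⊓ Subgroup.centralizer ({u} : Set G)
  set W := (Q ⊓ R).subgroupOf X
  have hW : Nat.card W = 4 := by
    rw [← p.card_four]
    exact Nat.card_congr (Subgroup.subgroupOfEquivOfLe (show Q ⊓ R ≤ X from fun w hw =>
      ⟨hw.1, mem_cent.2 (p.right.comm_z hw.2)⟩)).toEquiv
  have hX : Nat.card X = 16 := p.left.card_cent p.memQ p.right.z_ne p.ne
  have hidx : Nat.card (X ⧸ W) = 4 := by
    have := W.card_mul_index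
    rw [Subgroup.index_eq_card, hW, hX] at this
    omega
  haveI := Fintype.ofFinite (X ⧸ W)
  rw [Nat.card_eq_fintype_card] at hidx
  let e : ∀ g : G, g ∈ Q → Commute g u → X ⧸ W := fun g hg hgu =>
    QuotientGroup.mk (⟨g, hg, mem_cent.2 hgu⟩ : X)
  have heq : ∀ g g' : X, (QuotientGroup.mk g : X ⧸ W) = QuotientGroup.mk g' → Four z u ((g : G)⁻¹ * g') :=
    fun g g' hh => p.four_iff.2 (QuotientGroup.eq.1 hh :)
  have hab : ¬ Four z u (a * b) := fun h => h3 (by
    have hz4 : Four z u z := Or.inr (Or.inl rfl)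
    have : a⁻¹ * b = z * (a * b) := by
      rw [← mul_assoc]
      refine congrArg (· * b) ?_
      refine inv_eq_of_mul_eq_one_left ?_
      rw [mul_assoc, p.sq_of_not_four ha hau hna, p.left.zz]
    rw [this]; exact p.four_mul hz4 h)
  have hanab : ¬ Four z u (a⁻¹ * (a * b)) := by rwa [inv_mul_cancel_left]
  have hbnab : ¬ Four z u (b⁻¹ * (a * b)) := fun h => hna (by
    rcases p.left.conj_cases (Q.inv_mem hb) ha with e' | e' <;> rw [inv_inv, mul_assoc] at e'
    · rwa [e'] at h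
    · rw [e'] at h
      have := p.four_mul h (Or.inr (Or.inl rfl) : Four z u z)
      rwa [mul_assoc, p.left.zz, mul_one] at this)
  have hcard := Finset.card_le_univ ({e 1 Q.one_mem (Commute.one_left u), e x hx hxu, e a ha hau, e b hb hbu,
      e (a * b) (Q.mul_mem ha hb) (hau.mul_left hbu)} : Finset (X ⧸ W))
  rw [hidx, Finset.card_insert_of_notMem, Finset.card_insert_of_notMem, Finset.card_insert_of_notMem,
    Finset.card_pair] at hcard
  · omega
  · exact fun hh => hbnab (heq _ _ hh)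
  · simp only [Finset.mem_insert, Finset.mem_singleton, not_or]
    exact ⟨fun hh => h3 (heq _ _ hh), fun hh => hanab (heq _ _ hh)⟩
  · simp only [Finset.mem_insert, Finset.mem_singleton, not_or]
    exact ⟨fun hh => h1 (heq _ _ hh), fun hh => h2 (heq _ _ hh),
      fun hh => h4 (heq _ _ hh)⟩
  · simp only [Finset.mem_insert, Finset.mem_singleton, not_or]
    refine ⟨fun hh => hnx ?_, fun hh => hna ?_, fun hh => hnb ?_, fun hh => hab ?_⟩ <;>
      simpa using heq _ _ hh

end Pair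

end CfsgLib.J2Type
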