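import Cfsg.Agent.Lib.J2Type.Outer
import Cfsg.Agent.Lib.J2Type.Kernel

/-!
# The two classes of involutions and the four-group around an involution of the second class
-/

set_option autoImplicit false
set_option linter.style.haveILetI false

namespace CfsgLib.J2Type

universe u

variable {G : Type u} [Group G] [Finite G]

omit [Finite G] in
theorem commute_conj {a b : G} (g : G) (h : Commute a b) : Commute (g * a * g⁻¹) (g * b * g⁻¹) := by
  show g * a * g⁻¹ * (g * b * g⁻¹) = g * b * g⁻¹ * (g * a * g⁻¹)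
  rw [show g * a * g⁻¹ * (g * b * g⁻¹) = g * (a * b) * g⁻¹ by group, h.eq]; group

omit [Finite G] in
theorem commute_conj_back {a b : G} (g : G) (h : Commute a (g * b * g⁻¹)) : Commute (g⁻¹ * a * g) b := by
  have := commute_conj g⁻¹ h
  rwa [inv_inv, show g⁻¹ * (g * b * g⁻¹) * g = b by group] at this

namespace Hyp

variable {z : G} {Q : Subgroup G} {f : ↥(Subgroup.centralizer ({z} : Set G)) →* alternatingGroup (Fin 5)}
  (h : Hyp z Q f)
include h

/-- Every two-element is conjugate into `C(z)`. -/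
theorem conj_into {t : G} (ht : t * t = 1) : ∃ g : G, Commute (g * t * g⁻¹) z := by
  haveI : Fact (Nat.Prime 2) := ⟨Nat.prime_two⟩
  have hQp : IsPGroup 2 Q := IsPGroup.of_card (n := 5) (by rw [h.hQ]; norm_num)
  obtain ⟨S, hS⟩ := hQp.exists_le_sylow
  have hQS : Q ≤ (S : Subgroup G) := hS
  have htp : IsPGroup 2 (Subgroup.zpowers t) := by
    intro g
    refine ⟨1, Subtype.ext ?_⟩
    obtain ⟨i, hi⟩ := Subgroup.mem_zpowers_iff.1 g.2
    rw [pow_one, SubmonoidClass.coe_pow, ← hi, ← zpow_natCast, ← zpow_mul, mul_comm, zpow_mul,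
      zpow_natCast, pow_two, ht, one_zpow, OneMemClass.coe_one]
  obtain ⟨S', hS'⟩ := htp.exists_le_sylow
  obtain ⟨g, hg⟩ := MulAction.exists_smul_eq G S' S
  have hnt : Nontrivial S := Finite.one_lt_card_iff_nontrivial.1 (by
    have := Subgroup.card_le_of_le hQS
    rw [h.hQ] at this
    show 1 < Nat.card (S : Subgroup G)
    omega)
  haveI := hnt
  haveI := S.2.center_nontrivial
  obtain ⟨⟨x, hxc⟩, hx1⟩ := exists_ne (1 : Subgroup.center S)
  have hxS : ∀ s ∈ (S : Subgroup G), Commute (x : G) s := fun s hs =>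
    (congrArg Subtype.val (Subgroup.mem_center_iff.1 hxc ⟨s, hs⟩) : s * (x : G) = x * s).symm
  have hxz : Commute (x : G) z := hxS z (hQS h.hzQ)
  have hxQ : (x : G) ∈ Q := h.hfaith ⟨x, mem_cent.2 hxz⟩ fun q hq => hxS q (hQS hq)
  have hxe : (x : G) = z := (h.hcent _ hxQ fun q hq => (hxS q (hQS hq)).eq).resolve_left fun e =>
    hx1 (Subtype.ext (Subtype.ext e))
  refine ⟨g, hxe ▸ (hxS _ ?_).symm⟩
  rw [← hg]
  show g * t * g⁻¹ ∈ g • S'
  rw [CfsgLib.Transfer.mem_sylow_smul_iff, show g⁻¹ * (g * t * g⁻¹) * g = t by group]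
  exact hS' (Subgroup.mem_zpowers t)

/-- Two classes of involutions. -/
theorem classes {t : G} (ht : orderOf t = 2) (hn : ¬ IsConj z t) (y : G) (hy : orderOf y = 2) :
    IsConj y z ∨ IsConj y t := by
  by_cases hyz : IsConj z y
  · exact Or.inl hyz.symm
  obtain ⟨a, ha⟩ := h.conj_into (CfsgLib.Invol.mul_self_eq_one hy)
  obtain ⟨b, hb⟩ := h.conj_into (CfsgLib.Invol.mul_self_eq_one ht)
  have hat : orderOf (b * t * b⁻¹) = 2 := by rw [CfsgLib.Invol.orderOf_conj, ht]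
  have hbn : ¬ IsConj z (b * t * b⁻¹) := fun hc => hn (hc.trans (isConj_iff.2 ⟨b⁻¹, by group⟩))
  have hvQ : a * y * a⁻¹ ∉ Q := fun hQ => hyz ((h.isConj_z hQ (by
    rw [CfsgLib.Invol.orderOf_conj, hy])).trans (isConj_iff.2 ⟨a⁻¹, by group⟩))
  obtain ⟨g, -, hg⟩ := h.outer_conj hat hbn hb ha (conj_mul_self (CfsgLib.Invol.mul_self_eq_one hy)) hvQ
  right
  exact (isConj_iff.2 ⟨a, rfl⟩ : IsConj y (a * y * a⁻¹)).trans
    ((isConj_iff.2 ⟨g, hg⟩ : IsConj (b * t * b⁻¹) (a * y * a⁻¹)).symm.trans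
      (isConj_iff.2 ⟨b⁻¹, by group⟩))

end Hyp

namespace Pair

variable {z u : G} {Q R : Subgroup G}
  {f : ↥(Subgroup.centralizer ({z} : Set G)) →* alternatingGroup (Fin 5)}
  {r : ↥(Subgroup.centralizer ({u} : Set G)) →* alternatingGroup (Fin 5)}
  (p : Pair z u Q R f r)
include p

/-- At most two classes under the stabilizer. -/
theorem two_orbits {t : G} (ht : orderOf t = 2) (hn : ¬ IsConj z t) (htz : Commute t z) (htu : Commute t u) :
    ∃ t' : G, ∀ x, orderOf x = 2 → ¬ IsConj z x → Commute x z → Commute x u →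
      ∃ k, Commute k z ∧ Commute k u ∧ (k * t * k⁻¹ = x ∨ k * t' * k⁻¹ = x) := by
  have htt := CfsgLib.Invol.mul_self_eq_one ht
  obtain ⟨q₀, hq₀, hq₀u⟩ := p.left.not_comm_exists p.memQ p.right.z_ne p.ne
  refine ⟨q₀ * t * q₀⁻¹, fun x hx hxn hxz hxu => ?_⟩
  have hxx := CfsgLib.Invol.mul_self_eq_one hx
  obtain ⟨y, hyz, hy, ey⟩ := p.invol_image htz htu (p.left.map_sq htz htt)
  obtain ⟨y', hy'z, hy', ey'⟩ := p.invol_image hxz hxu (p.left.map_sq hxz hxx)
  have hny : ¬ Four z u y := fun h4 => p.left.not_mem_of_not_conj ht hn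
    ((p.left.hker ⟨t, mem_cent.2 htz⟩).1 (ey ▸ (p.map_eq_one_iff hyz).2 (p.four_mem h4).1))
  have hny' : ¬ Four z u y' := fun h4 => p.left.not_mem_of_not_conj hx hxn
    ((p.left.hker ⟨x, mem_cent.2 hxz⟩).1 (ey' ▸ (p.map_eq_one_iff hy'z).2 (p.four_mem h4).1))
  obtain ⟨k, c, hkz, hku, hc, he⟩ := p.exists_conj hy hyz hny hy' hy'z hny'
  set x' := k⁻¹ * x * k with hx'
  have hx'z : Commute x' z := (hkz.inv_left.mul_left hxz).mul_left hkz
  have hx'u : Commute x' u := (hku.inv_left.mul_left hxu).mul_left hku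
  have hs : x' * t⁻¹ ∈ Q := by
    refine (p.left.hker (⟨k, mem_cent.2 hkz⟩⁻¹ * ⟨x, mem_cent.2 hxz⟩ * ⟨k, mem_cent.2 hkz⟩ *
      ⟨t, mem_cent.2 htz⟩⁻¹)).1 ?_
    rw [map_mul, map_mul, map_mul, map_inv, map_inv, ← ey, ← ey']
    have hcc : (⟨k, mem_cent.2 hkz⟩ : ↥(Subgroup.centralizer ({z} : Set G))) * ⟨y, mem_cent.2 hyz⟩ *
        ⟨k, mem_cent.2 hkz⟩⁻¹ = ⟨c, p.left.hQle (p.four_mem hc).1⟩ * ⟨y', mem_cent.2 hy'z⟩ := Subtype.ext he
    have h1 := congrArg f hcc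
    rw [map_mul, map_mul, map_mul, map_inv, (p.left.hker ⟨c, _⟩).2 (p.four_mem hc).1, one_mul] at h1
    rw [← h1]
    group
  obtain ⟨q, hq, hqt⟩ := p.left.coset_conj ht hn htz hs (by
    rw [inv_mul_cancel_right, hx', show k⁻¹ * x * k * (k⁻¹ * x * k) = k⁻¹ * (x * x) * k by group, hxx]
    group)
  rw [inv_mul_cancel_right] at hqt
  by_cases hqu : Commute q u
  · refine ⟨k * q, hkz.mul_left (p.left.comm_z hq), hku.mul_left hqu, Or.inl ?_⟩
    calc k * q * t * (k * q)⁻¹ = k * (q * t * q⁻¹) * k⁻¹ := by group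
      _ = x := by rw [hqt, hx']; group
  · have hd : Commute (q * q₀⁻¹) u := by
      have e1 := p.left.conj_of_not_comm hq p.memQ hqu
      have e2 := p.left.conj_of_not_comm hq₀ p.memQ hq₀u
      refine mul_inv_eq_iff_eq_mul.1 ?_
      calc q * q₀⁻¹ * u * (q * q₀⁻¹)⁻¹ = q * (q₀⁻¹ * (u * z) * q₀) * q⁻¹ * (q * (q₀⁻¹ * z * q₀) * q⁻¹)⁻¹ := by group
        _ = q * u * q⁻¹ * (q * z * q⁻¹)⁻¹ := by
          rw [← e2, (p.left.comm_z (Q.inv_mem hq₀)).eq, inv_mul_cancel_right]; group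
        _ = u := by rw [e1, (p.left.comm_z hq).eq, mul_inv_cancel_right, mul_inv_cancel_right]
    refine ⟨k * (q * q₀⁻¹), hkz.mul_left ((p.left.comm_z hq).mul_left (p.left.comm_z hq₀).inv_left),
      hku.mul_left hd, Or.inr ?_⟩
    calc k * (q * q₀⁻¹) * (q₀ * t * q₀⁻¹) * (k * (q * q₀⁻¹))⁻¹ = k * (q * t * q⁻¹) * k⁻¹ := by group
      _ = x := by rw [hqt, hx']; group

/-- An element of `C(t)` permuting the four-group cyclically. -/
theorem exists_sigma {t : G} (ht : orderOf t = 2) (hn : ¬ IsConj z t) (htz : Commute t z) (htu : Commute t u) :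
    ∃ σ, Commute σ t ∧ σ * z * σ⁻¹ = u ∧ σ * u * σ⁻¹ = u * z := by
  obtain ⟨q, hq, hqu⟩ := p.left.not_comm_exists p.memQ p.right.z_ne p.ne
  obtain ⟨y, hy, hyz⟩ := p.right.not_comm_exists p.memR p.left.z_ne p.ne.symm
  set g := q * y with hg
  have hqz := p.left.comm_z hq
  have hyu := p.right.comm_z hy
  have e1 := p.left.conj_of_not_comm hq p.memQ hqu
  have e2 := p.right.conj_of_not_comm hy p.memR hyz
  have hgz : g * z * g⁻¹ = u := by
    calc g * z * g⁻¹ = q * (y * z * y⁻¹) * q⁻¹ := by rw [hg]; group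
      _ = (q * z * q⁻¹) * (q * u * q⁻¹) := by rw [e2]; group
      _ = z * (u * z) := by rw [e1, hqz.eq, mul_inv_cancel_right]
      _ = u := by rw [← mul_assoc, p.comm.eq, mul_assoc, p.left.zz, mul_one]
  have hgu : g * u * g⁻¹ = u * z := by
    calc g * u * g⁻¹ = q * (y * u * y⁻¹) * q⁻¹ := by rw [hg]; group
      _ = u * z := by rw [hyu.eq, mul_inv_cancel_right, e1]
  obtain ⟨t', ht'⟩ := p.two_orbits ht hn htz htu
  have hgood : ∀ x : G, orderOf x = 2 → ¬ IsConj z x → Commute x z → Commute x u →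
      orderOf (g * x * g⁻¹) = 2 ∧ ¬ IsConj z (g * x * g⁻¹) ∧ Commute (g * x * g⁻¹) z ∧
        Commute (g * x * g⁻¹) u := by
    intro x hx hxn hxz hxu
    have hu' : Commute (g * x * g⁻¹) u := by
      have := commute_conj g hxz; rwa [hgz] at this
    refine ⟨by rw [CfsgLib.Invol.orderOf_conj, hx], fun hc => hxn (hc.trans (isConj_iff.2 ⟨g⁻¹, by group⟩)),
      ?_, hu'⟩
    have h2 := commute_conj g hxu
    rw [hgu] at h2
    have := hu'.inv_right.mul_right h2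
    rwa [inv_mul_cancel_left] at this
  obtain ⟨h21, h2n, h2z, h2u⟩ := hgood t ht hn htz htu
  obtain ⟨h31, h3n, h3z, h3u⟩ := hgood _ h21 h2n h2z h2u
  have hcomm : ∀ s x : G, s * x * s⁻¹ = x → Commute s x := fun s x h => mul_inv_eq_iff_eq_mul.1 h
  have hfix : ∀ k : G, Commute k z → Commute k u → k * z * k⁻¹ = z ∧ k * u * k⁻¹ = u ∧
      k * (u * z) * k⁻¹ = u * z := fun k hk hk' =>
    ⟨by rw [hk.eq, mul_inv_cancel_right], by rw [hk'.eq, mul_inv_cancel_right],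
      by rw [(hk'.mul_right hk).eq, mul_inv_cancel_right]⟩
  -- if the first image is in the orbit of `t` we are done
  by_cases h12 : ∃ k, Commute k z ∧ Commute k u ∧ k * (g * t * g⁻¹) * k⁻¹ = t
  · obtain ⟨k, hkz, hku, hk⟩ := h12
    obtain ⟨f1, f2, f3⟩ := hfix k hkz hku
    refine ⟨k * g, hcomm _ _ ?_, ?_, ?_⟩
    · calc k * g * t * (k * g)⁻¹ = k * (g * t * g⁻¹) * k⁻¹ := by group
        _ = t := hk
    · rw [show k * g * z * (k * g)⁻¹ = k * (g * z * g⁻¹) * k⁻¹ by group, hgz, f2]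
    · rw [show k * g * u * (k * g)⁻¹ = k * (g * u * g⁻¹) * k⁻¹ by group, hgu, f3]
  have hnot : ∀ k, Commute k z → Commute k u → k * t * k⁻¹ ≠ g * t * g⁻¹ := fun k hk hk' e =>
    h12 ⟨k⁻¹, hk.inv_left, hk'.inv_left, by rw [← e]; group⟩
  obtain ⟨k₂, hk₂z, hk₂u, hk₂⟩ := ht' _ h21 h2n h2z h2u
  have hk₂' := hk₂.resolve_left (hnot k₂ hk₂z hk₂u)
  obtain ⟨k₃, hk₃z, hk₃u, hk₃⟩ := ht' _ h31 h3n h3z h3u
  rcases hk₃ with hk₃ | hk₃
  · -- the second image is in the orbit of `t`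
    obtain ⟨f1, f2, f3⟩ := hfix k₃⁻¹ hk₃z.inv_left hk₃u.inv_left
    set τ := k₃⁻¹ * g * g with hτ
    have hτt : τ * t * τ⁻¹ = t := by
      calc τ * t * τ⁻¹ = k₃⁻¹ * (g * (g * t * g⁻¹) * g⁻¹) * k₃ := by rw [hτ]; group
        _ = t := by rw [← hk₃]; group
    have hguz : g * (u * z) * g⁻¹ = z := by
      rw [show g * (u * z) * g⁻¹ = (g * u * g⁻¹) * (g * z * g⁻¹) by group, hgu, hgz, ← p.comm.eq, mul_assoc,
        p.right.zz, mul_one]
    have hτz : τ * z * τ⁻¹ = u * z := by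
      calc τ * z * τ⁻¹ = k₃⁻¹ * (g * (g * z * g⁻¹) * g⁻¹) * k₃⁻¹⁻¹ := by rw [hτ]; group
        _ = u * z := by rw [hgz, hgu, f3]
    have hτu : τ * u * τ⁻¹ = z := by
      calc τ * u * τ⁻¹ = k₃⁻¹ * (g * (g * u * g⁻¹) * g⁻¹) * k₃⁻¹⁻¹ := by rw [hτ]; group
        _ = z := by rw [hgu, hguz, f1]
    refine ⟨τ * τ, (hcomm _ _ hτt).mul_left (hcomm _ _ hτt), ?_, ?_⟩
    · calc τ * τ * z * (τ * τ)⁻¹ = τ * (τ * z * τ⁻¹) * τ⁻¹ := by group
        _ = τ * (u * z) * τ⁻¹ := by rw [hτz]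
        _ = (τ * u * τ⁻¹) * (τ * z * τ⁻¹) := by group
        _ = u := by rw [hτu, hτz, ← mul_assoc, p.comm.eq, mul_assoc, p.left.zz, mul_one]
    · calc τ * τ * u * (τ * τ)⁻¹ = τ * (τ * u * τ⁻¹) * τ⁻¹ := by group
        _ = u * z := by rw [hτu, hτz]
  · -- otherwise the first image would be in that orbit as well
    exfalso
    set k := k₃ * k₂⁻¹ with hk
    have hkz : Commute k z := hk₃z.mul_left hk₂z.inv_left
    have hku : Commute k u := hk₃u.mul_left hk₂u.inv_left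
    have hkk : k * (g * t * g⁻¹) * k⁻¹ = g * (g * t * g⁻¹) * g⁻¹ := by
      rw [← hk₃, ← hk₂', hk]; group
    refine hnot (g⁻¹ * k * g) (commute_conj_back g (hgz.symm ▸ hku))
      (commute_conj_back g (hgu.symm ▸ hku.mul_right hkz)) ?_
    calc g⁻¹ * k * g * t * (g⁻¹ * k * g)⁻¹ = g⁻¹ * (k * (g * t * g⁻¹) * k⁻¹) * g := by group
      _ = g * t * g⁻¹ := by rw [hkk]; group

/-- The data around an involution of the second class. -/
theorem torus {t : G} (ht : orderOf t = 2) (hn : ¬ IsConj z t) (htz : Commute t z) (htu : Commute t u) :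
    Torus z u t (Q ⊓ R) := by
  have htt := CfsgLib.Invol.mul_self_eq_one ht
  have hu2 : orderOf u = 2 := CfsgLib.Invol.orderOf_eq_two p.right.z_ne p.right.zz
  have hnu : ¬ IsConj u t := fun hc => hn ((p.left.isConj_z p.memQ hu2).trans hc)
  have hct := p.cent_torus ht hn htz htu
  have hWz : ∀ w ∈ Q ⊓ R, w ≠ 1 → IsConj z w := fun w hw hw1 =>
    p.left.isConj_z hw.1 (CfsgLib.Invol.orderOf_eq_two hw1 (p.four_sq (p.four_iff.2 hw)))
  refine ⟨p.left.zz, p.right.zz, htt, p.left.z_ne, p.right.z_ne, p.ne, p.comm, htz, htu,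
    fun x => p.four_iff.symm, p.card_four, hct.1, fun s hsz hst => (hct.2 s hsz hst).2, ?_, ?_, hWz,
    fun hW => p.left.not_mem_of_not_conj ht hn hW.1, p.exists_sigma ht hn htz htu⟩
  · intro w hw hw1 s hsw hst
    rcases p.four_iff.2 hw with e | e | e | e
    · exact absurd e hw1
    · exact e ▸ hsw
    · exact ((p.symm.cent_torus ht hnu htu htz).2 s (e ▸ hsw) hst).1
    · obtain ⟨R', r', p'⟩ := p.left.exists_pair (Q.mul_mem p.memQ p.left.hzQ)
        (p.left.mul_z_invol p.memQ p.right.zz) p.uz_ne_one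
        (fun e => p.right.z_ne (mul_eq_right.1 e))
      have hw' : IsConj z (u * z) := hWz _ (e ▸ hw) p.uz_ne_one
      exact ((p'.symm.cent_torus ht (fun hc => hn (hw'.trans hc)) (htu.mul_right htz) htz).2 s
        (e ▸ hsw) hst).1
  · intro s hsz hst hc
    have hs2 : orderOf s = 2 := (orderOf_of_isConj hc).symm.trans p.left.hz
    by_cases hsQ : s ∈ Q
    · exact p.four_iff.1 (p.four_of_comm ht hn htz htu hsQ hst)
    · obtain ⟨g, -, hg⟩ := p.left.outer_conj ht hn htz hsz (CfsgLib.Invol.mul_self_eq_one hs2) hsQ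
      exact absurd (hc.trans (isConj_iff.2 ⟨g, hg⟩ : IsConj t s).symm) hn

end Pair

end CfsgLib.J2Type
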