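import Cfsg.Agent.Lib.InvChar.ElemFour
import Cfsg.Agent.Lib.Transfer.AbelianSylow
import Cfsg.Agent.Lib.Invol.Counting
import Mathlib.GroupTheory.Nilpotent
import Mathlib.Tactic

/-!
# The centralizer of an involution with an elementary Sylow subgroup of order sixteen
-/

set_option autoImplicit false
set_option linter.style.haveILetI false

namespace CfsgLib.J2Type

universe u

variable {G : Type u} [Group G] [Finite G]

omit [Finite G] in
theorem mem_cent' {x g : G} : g ∈ Subgroup.centralizer ({x} : Set G) ↔ Commute g x :=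
  Subgroup.mem_centralizer_singleton_iff

/-- The orbit of `x` under conjugation by a subgroup against its stabilizer. -/
theorem card_conj_image (S : Subgroup G) (x : G) :
    Nat.card {y : G // ∃ s ∈ S, s * x * s⁻¹ = y} *
      Nat.card (S ⊓ Subgroup.centralizer ({x} : Set G) : Subgroup G) = Nat.card S := by
  classical
  haveI := Fintype.ofFinite G
  set D := S ⊓ Subgroup.centralizer ({x} : Set G)
  set A := Finset.univ.filter fun s : G => s ∈ S
  have hA : A.card = Nat.card S := by rw [Nat.card_eq_fintype_card, ← Fintype.card_subtype]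
  have hI : (A.image fun s => s * x * s⁻¹).card = Nat.card {y : G // ∃ s ∈ S, s * x * s⁻¹ = y} := by
    rw [Nat.card_eq_fintype_card, Fintype.card_subtype]
    congr 1; ext y
    simp [A]
  rw [← hA, ← hI, Finset.card_eq_sum_card_image (fun s => s * x * s⁻¹) A,
    Finset.sum_congr rfl (g := fun _ => Nat.card D), Finset.sum_const, smul_eq_mul]
  intro y hy
  obtain ⟨s₀, hs₀, rfl⟩ := Finset.mem_image.1 hy
  have hs₀S : s₀ ∈ S := (Finset.mem_filter.1 hs₀).2
  rw [Nat.card_eq_fintype_card, Fintype.card_subtype]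
  refine Finset.card_bij' (fun s _ => s₀⁻¹ * s) (fun d _ => s₀ * d) ?_ ?_ ?_ ?_
  · intro s hs
    obtain ⟨hsA, hse⟩ := Finset.mem_filter.1 hs
    refine Finset.mem_filter.2 ⟨Finset.mem_univ _, S.mul_mem (S.inv_mem hs₀S) (Finset.mem_filter.1 hsA).2,
      mem_cent'.2 ?_⟩
    show s₀⁻¹ * s * x = x * (s₀⁻¹ * s)
    calc s₀⁻¹ * s * x = s₀⁻¹ * (s * x * s⁻¹) * s := by group
      _ = s₀⁻¹ * (s₀ * x * s₀⁻¹) * s := by rw [hse]
      _ = x * (s₀⁻¹ * s) := by group
  · intro d hd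
    obtain ⟨-, hdS, hdx⟩ := Finset.mem_filter.1 hd
    refine Finset.mem_filter.2 ⟨Finset.mem_filter.2 ⟨Finset.mem_univ _, S.mul_mem hs₀S hdS⟩, ?_⟩
    calc s₀ * d * x * (s₀ * d)⁻¹ = s₀ * (d * x) * (d⁻¹ * s₀⁻¹) := by group
      _ = s₀ * (x * d) * (d⁻¹ * s₀⁻¹) := by rw [(mem_cent'.1 hdx).eq]
      _ = s₀ * x * s₀⁻¹ := by group
  · intro s _; simp
  · intro d _; simp

/-- The data around an involution `t` commuting with the four-group `W`. -/
structure Torus (z u t : G) (W : Subgroup G) : Prop where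
  zz : z * z = 1
  uu : u * u = 1
  tt : t * t = 1
  z1 : z ≠ 1
  u1 : u ≠ 1
  huz : u ≠ z
  hzu : Commute z u
  htz : Commute t z
  htu : Commute t u
  hW : ∀ x, x ∈ W ↔ x = 1 ∨ x = z ∨ x = u ∨ x = u * z
  hW4 : Nat.card W = 4
  hT16 : Nat.card (Subgroup.centralizer ({z} : Set G) ⊓ Subgroup.centralizer ({t} : Set G) : Subgroup G) = 16
  hsq : ∀ s, Commute s z → Commute s t → s * s = 1
  hcent : ∀ w ∈ W, w ≠ 1 → ∀ s, Commute s w → Commute s t → Commute s z
  hclass : ∀ s, Commute s z → Commute s t → IsConj z s → s ∈ W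
  hWz : ∀ w ∈ W, w ≠ 1 → IsConj z w
  htW : t ∉ W
  hσ : ∃ σ, Commute σ t ∧ σ * z * σ⁻¹ = u ∧ σ * u * σ⁻¹ = u * z

namespace Torus

variable {z u t : G} {W : Subgroup G} (d : Torus z u t W)
include d

omit [Finite G] in
theorem zW : z ∈ W := (d.hW z).2 (Or.inr (Or.inl rfl))

omit [Finite G] in
theorem uW : u ∈ W := (d.hW u).2 (Or.inr (Or.inr (Or.inl rfl)))

omit [Finite G] in
theorem uzW : u * z ∈ W := W.mul_mem d.uW d.zW

omit [Finite G] in
theorem comm_of_mem {w k : G} (hw : w ∈ W) (hz : Commute k z) (hu : Commute k u) : Commute k w := by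
  rcases (d.hW w).1 hw with e | e | e | e <;> rw [e]
  · exact Commute.one_right k
  · exact hz
  · exact hu
  · exact hu.mul_right hz

omit [Finite G] in
theorem W_comm {w : G} (hw : w ∈ W) : Commute w z ∧ Commute w t :=
  ⟨(d.comm_of_mem hw (Commute.refl z) d.hzu).symm, (d.comm_of_mem hw d.htz d.htu).symm⟩

omit [Finite G] in
/-- The subgroup `C(z) ∩ C(t)` is commutative. -/
theorem comm {a b : G} (haz : Commute a z) (hat : Commute a t) (hbz : Commute b z) (hbt : Commute b t) :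
    Commute a b := by
  have h := inv_eq_of_mul_eq_one_left (d.hsq (a * b) (haz.mul_left hbz) (hat.mul_left hbt))
  rw [mul_inv_rev, inv_eq_of_mul_eq_one_left (d.hsq a haz hat),
    inv_eq_of_mul_eq_one_left (d.hsq b hbz hbt)] at h
  exact h.symm

omit [Finite G] in
/-- An element of `C(t)` fixing a nontrivial element of `W` commutes with `z`. -/
theorem fix_mem {n w : G} (hnt : Commute n t) (hw : w ∈ W) (hw1 : w ≠ 1) (hfix : n * w * n⁻¹ = w) :
    Commute n z :=
  d.hcent w hw hw1 n (mul_inv_eq_iff_eq_mul.1 hfix) hnt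

omit [Finite G] in
/-- An element of `C(t)` normalizing `W` either centralizes `z` or has its cube centralizing `z`. -/
theorem cube_mem {n : G} (hnt : Commute n t) (hnW : ∀ w ∈ W, n * w * n⁻¹ ∈ W) : Commute (n ^ 3) z := by
  by_cases hn : Commute n z
  · exact hn.pow_left 3
  have hne : ∀ w ∈ W, w ≠ 1 → n * w * n⁻¹ ≠ w := fun w hw hw1 e => hn (d.fix_mem hnt hw hw1 e)
  have hne1 : ∀ w : G, w ≠ 1 → n * w * n⁻¹ ≠ 1 := fun w hw1 e => hw1 (conj_eq_one_iff.1 e)
  have hinj : ∀ v w : G, n * v * n⁻¹ = n * w * n⁻¹ → v = w := fun v w e =>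
    mul_left_cancel (mul_right_cancel e)
  have hmul : ∀ v w : G, n * (v * w) * n⁻¹ = (n * v * n⁻¹) * (n * w * n⁻¹) := fun v w => by group
  have huz1 : u * z ≠ 1 := fun e => d.huz (by
    rw [eq_inv_of_mul_eq_one_left e, inv_eq_of_mul_eq_one_left d.zz])
  have hzuz : u * z * z = u := by rw [mul_assoc, d.zz, mul_one]
  have huzu : u * z * u = z := by rw [← d.hzu.eq, mul_assoc, d.uu, mul_one]
  have huuz : u * (u * z) = z := by rw [← mul_assoc, d.uu, one_mul]
  have hcyc : n * (n * (n * z * n⁻¹) * n⁻¹) * n⁻¹ = z := by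
    rcases (d.hW _).1 (hnW z d.zW) with ha | ha | ha | ha
    · exact absurd ha (hne1 z d.z1)
    · exact absurd ha (hne z d.zW d.z1)
    · rw [ha]
      rcases (d.hW _).1 (hnW u d.uW) with hb | hb | hb | hb
      · exact absurd hb (hne1 u d.u1)
      · exfalso
        exact hne (u * z) d.uzW huz1 (by rw [hmul, hb, ha, d.hzu.eq])
      · exact absurd hb (hne u d.uW d.u1)
      · rw [hb, hmul u z, hb, ha, huzu]
    · rw [ha, hmul u z, ha]
      rcases (d.hW _).1 (hnW u d.uW) with hb | hb | hb | hb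
      · exact absurd hb (hne1 u d.u1)
      · have : z * (u * z) = u := by rw [← mul_assoc, d.hzu.eq, hzuz]
        rw [hb, this, hb]
      · exact absurd hb (hne u d.uW d.u1)
      · exact absurd (hinj z u (ha.trans hb.symm)) d.huz.symm
  have h3 : n ^ 3 * z * (n ^ 3)⁻¹ = z := by
    calc n ^ 3 * z * (n ^ 3)⁻¹ = n * (n * (n * z * n⁻¹) * n⁻¹) * n⁻¹ := by simp [pow_succ, mul_assoc]
      _ = z := hcyc
  exact mul_inv_eq_iff_eq_mul.1 h3

omit [Finite G] in
/-- An element of `C(t)` normalizing `C(z) ∩ C(t)` normalizes `W`. -/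
theorem norm_W {n : G} (hnt : Commute n t)
    (hn : ∀ s, Commute s z → Commute s t → Commute (n * s * n⁻¹) z) :
    ∀ w ∈ W, n * w * n⁻¹ ∈ W := by
  intro w hw
  by_cases hw1 : w = 1
  · rw [hw1, mul_one, mul_inv_cancel]; exact W.one_mem
  · exact d.hclass _ (hn w (d.W_comm hw).1 (d.W_comm hw).2)
      ((hnt.mul_left (d.W_comm hw).2).mul_left hnt.inv_left)
      ((d.hWz w hw hw1).trans (isConj_iff.2 ⟨n, rfl⟩))

/-- Four cosets of `W` in `C(z) ∩ C(t)`. -/
theorem cosets {x a : G} (hxz : Commute x z) (hxt : Commute x t) (haz : Commute a z) (hat : Commute a t)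
    (hx : x ∉ W) (htx : t * x ∉ W) (ha : a ∉ W) (hta : t * a ∉ W) : x⁻¹ * a ∈ W ∨ (t * x)⁻¹ * a ∈ W := by
  classical
  by_contra! hne
  obtain ⟨h1, h2⟩ := hne
  set T := Subgroup.centralizer ({z} : Set G) ⊓ Subgroup.centralizer ({t} : Set G)
  set V := W.subgroupOf T
  have hle : W ≤ T := fun w hw => ⟨mem_cent'.2 (d.W_comm hw).1, mem_cent'.2 (d.W_comm hw).2⟩
  have hV : Nat.card V = 4 := by
    rw [← d.hW4]; exact Nat.card_congr (Subgroup.subgroupOfEquivOfLe hle).toEquiv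
  have hidx : Nat.card (T ⧸ V) = 4 := by
    have := V.card_mul_index
    rw [Subgroup.index_eq_card, hV, show Nat.card T = 16 from d.hT16] at this
    omega
  haveI := Fintype.ofFinite (T ⧸ V)
  rw [Nat.card_eq_fintype_card] at hidx
  have htz' : Commute t t := Commute.refl t
  let e : ∀ g : G, Commute g z → Commute g t → T ⧸ V := fun g hg hgt =>
    QuotientGroup.mk (⟨g, mem_cent'.2 hg, mem_cent'.2 hgt⟩ : T)
  have heq : ∀ g g' : T, (QuotientGroup.mk g : T ⧸ V) = QuotientGroup.mk g' → (g : G)⁻¹ * g' ∈ W :=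
    fun g g' hh => (QuotientGroup.eq.1 hh :)
  have hti : t⁻¹ = t := inv_eq_of_mul_eq_one_left d.tt
  have hcard := Finset.card_le_univ ({e 1 (Commute.one_left z) (Commute.one_left t), e t d.htz htz',
    e x hxz hxt, e (t * x) (d.htz.mul_left hxz) (htz'.mul_left hxt), e a haz hat} : Finset (T ⧸ V))
  rw [hidx, Finset.card_insert_of_notMem, Finset.card_insert_of_notMem, Finset.card_insert_of_notMem,
    Finset.card_pair] at hcard
  · omega
  · exact fun hh => h2 (heq _ _ hh)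
  · simp only [Finset.mem_insert, Finset.mem_singleton, not_or]
    refine ⟨fun hh => d.htW ?_, fun hh => h1 (heq _ _ hh)⟩
    have h3 : x⁻¹ * (t * x) ∈ W := heq _ _ hh
    rwa [(d.comm d.htz htz' hxz hxt).eq, inv_mul_cancel_left] at h3
  · simp only [Finset.mem_insert, Finset.mem_singleton, not_or]
    refine ⟨fun hh => htx ?_, fun hh => hx ?_, fun hh => hta ?_⟩
    · have h3 : t⁻¹ * x ∈ W := heq _ _ hh
      rwa [hti] at h3
    · have h3 : t⁻¹ * (t * x) ∈ W := heq _ _ hh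
      rwa [inv_mul_cancel_left] at h3
    · have h3 : t⁻¹ * a ∈ W := heq _ _ hh
      rwa [hti] at h3
  · simp only [Finset.mem_insert, Finset.mem_singleton, not_or]
    refine ⟨fun hh => d.htW ?_, fun hh => hx ?_, fun hh => htx ?_, fun hh => ha ?_⟩ <;>
      simpa using heq _ _ hh

/-- Elements of `C(t)` normalizing `C(z) ∩ C(t)` act trivially modulo `W`. -/
theorem comm_mod {n : G} (hnt : Commute n t)
    (hn : ∀ s, Commute s z → Commute s t → Commute (n * s * n⁻¹) z)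
    {x : G} (hxz : Commute x z) (hxt : Commute x t) : x⁻¹ * (n * x * n⁻¹) ∈ W := by
  have hnW := d.norm_W hnt hn
  by_cases hnz : Commute n z
  · rw [(d.comm hnz hnt hxz hxt).eq, mul_inv_cancel_right, inv_mul_cancel]
    exact W.one_mem
  have hti : t⁻¹ = t := inv_eq_of_mul_eq_one_left d.tt
  have hntn : n * t * n⁻¹ = t := by rw [hnt.eq, mul_inv_cancel_right]
  by_cases hx : x ∈ W
  · exact W.mul_mem (W.inv_mem hx) (hnW x hx)
  by_cases htx : t * x ∈ W
  · have h1 := W.mul_mem (W.inv_mem htx) (hnW _ htx)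
    have h2 : (t * x)⁻¹ * (n * (t * x) * n⁻¹) = x⁻¹ * (n * x * n⁻¹) := by
      calc (t * x)⁻¹ * (n * (t * x) * n⁻¹) = x⁻¹ * t⁻¹ * ((n * t * n⁻¹) * (n * x * n⁻¹)) := by group
        _ = _ := by rw [hntn]; group
    rwa [h2] at h1
  set a := n * x * n⁻¹ with hadef
  have haz : Commute a z := hn x hxz hxt
  have hat : Commute a t := (hnt.mul_left hxt).mul_left hnt.inv_left
  have hn3 := d.cube_mem hnt hnW
  have hback : ∀ w, n * w * n⁻¹ ∈ W → w ∈ W := by
    intro w hw
    have h1 := hnW _ (hnW _ hw)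
    have h2 : n * (n * (n * w * n⁻¹) * n⁻¹) * n⁻¹ = n ^ 3 * w * (n ^ 3)⁻¹ := by
      simp [pow_succ, mul_assoc]
    have h3 : Commute (n ^ 3) (n * (n * (n * w * n⁻¹) * n⁻¹) * n⁻¹) :=
      d.comm hn3 (hnt.pow_left 3) (d.W_comm h1).1 (d.W_comm h1).2
    have h4 : w = n * (n * (n * w * n⁻¹) * n⁻¹) * n⁻¹ := by
      calc w = (n ^ 3)⁻¹ * (n ^ 3 * w * (n ^ 3)⁻¹) * n ^ 3 := by group
        _ = _ := by rw [← h2, ← h3.inv_left.eq.symm]; group
    rw [h4]; exact h1
  have ha : a ∉ W := fun h => hx (hback x h)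
  have hta : t * a ∉ W := fun h => htx (hback _ (by
    have : n * (t * x) * n⁻¹ = (n * t * n⁻¹) * a := by rw [hadef]; group
    rwa [this, hntn]))
  rcases d.cosets hxz hxt haz hat hx htx ha hta with h | h
  · exact h
  exfalso
  obtain ⟨w, hw, hae⟩ : ∃ w ∈ W, n * x * n⁻¹ = t * x * w := ⟨_, h, by rw [← hadef]; group⟩
  have hwt : ∀ v ∈ W, Commute t v := fun v hv => (d.W_comm hv).2.symm
  have hstep : ∀ v ∈ W, n * (x * v) * n⁻¹ = t * x * (w * (n * v * n⁻¹)) := fun v hv => by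
    calc n * (x * v) * n⁻¹ = (n * x * n⁻¹) * (n * v * n⁻¹) := by group
      _ = _ := by rw [hae]; group
  have htstep : ∀ v ∈ W, n * (t * x * v) * n⁻¹ = x * (w * (n * v * n⁻¹)) := fun v hv => by
    calc n * (t * x * v) * n⁻¹ = (n * t * n⁻¹) * (n * (x * v) * n⁻¹) := by group
      _ = (t * t) * (x * (w * (n * v * n⁻¹))) := by rw [hntn, hstep v hv]; group
      _ = _ := by rw [d.tt, one_mul]
  have h2 := htstep w hw
  set v := w * (n * w * n⁻¹)
  have hv : v ∈ W := W.mul_mem hw (hnW w hw)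
  have h3 := hstep v hv
  have h4 : n ^ 3 * x * (n ^ 3)⁻¹ = x := by
    rw [(d.comm hn3 (hnt.pow_left 3) hxz hxt).eq, mul_inv_cancel_right]
  have h5 : n ^ 3 * x * (n ^ 3)⁻¹ = n * (n * (n * x * n⁻¹) * n⁻¹) * n⁻¹ := by
    simp [pow_succ, mul_assoc]
  rw [h5, hae, h2, h3] at h4
  refine d.htW ?_
  have hv' := W.mul_mem hw (hnW v hv)
  have h6 : t * (x * (w * (n * v * n⁻¹))) = x := by rw [← mul_assoc]; exact h4
  have h7 : t = x * (w * (n * v * n⁻¹))⁻¹ * x⁻¹ := by
    calc t = t * (x * (w * (n * v * n⁻¹))) * (w * (n * v * n⁻¹))⁻¹ * x⁻¹ := by group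
      _ = _ := by rw [h6]
  rw [h7, (d.comm hxz hxt (d.W_comm (W.inv_mem hv')).1 (d.W_comm (W.inv_mem hv')).2).eq,
    mul_inv_cancel_right]
  exact W.inv_mem hv'

/-- `C(z) ∩ C(t)` is a Sylow subgroup of `C(t)`. -/
theorem exists_sylow : ∃ P : Sylow 2 ↥(Subgroup.centralizer ({t} : Set G)),
    (P : Subgroup ↥(Subgroup.centralizer ({t} : Set G))) =
      (Subgroup.centralizer ({z} : Set G)).subgroupOf (Subgroup.centralizer ({t} : Set G)) := by
  set T' := (Subgroup.centralizer ({z} : Set G)).subgroupOf (Subgroup.centralizer ({t} : Set G)) with hT'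
  have hTp : IsPGroup 2 T' := fun g => ⟨1, by
    rw [pow_one, pow_two]
    exact Subtype.ext (Subtype.ext (d.hsq _ (mem_cent'.1 g.2) (mem_cent'.1 g.1.2)))⟩
  obtain ⟨P, hP⟩ := hTp.exists_le_sylow
  refine ⟨P, le_antisymm ?_ hP⟩
  by_contra hlt
  haveI : Fact (Nat.Prime 2) := ⟨Nat.prime_two⟩
  haveI : Group.IsNilpotent P := P.2.isNilpotent
  have hne : T'.subgroupOf P < ⊤ := lt_top_iff_ne_top.2 fun e => hlt (Subgroup.subgroupOf_eq_top.1 e)
  obtain ⟨g, hgn, hgT⟩ := SetLike.exists_of_lt (normalizerCondition_of_isNilpotent _ hne)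
  refine hgT ?_
  show ((g : ↥(Subgroup.centralizer ({t} : Set G))) : G) ∈ Subgroup.centralizer ({z} : Set G)
  set γ : G := ((g : ↥(Subgroup.centralizer ({t} : Set G))) : G) with hγ
  have hγt : Commute γ t := mem_cent'.1 (g : ↥(Subgroup.centralizer ({t} : Set G))).2
  have hn : ∀ s, Commute s z → Commute s t → Commute (γ * s * γ⁻¹) z := fun s hsz hst =>
    mem_cent'.1 ((Subgroup.mem_normalizer_iff.1 hgn ⟨⟨s, mem_cent'.2 hst⟩, hP (mem_cent'.2 hsz)⟩).1
      (mem_cent'.2 hsz : s ∈ Subgroup.centralizer ({z} : Set G)))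
  obtain ⟨k, hk⟩ := P.2 g
  have hk' : γ ^ 2 ^ k = 1 := by
    have := congrArg (fun a : P => ((a : ↥(Subgroup.centralizer ({t} : Set G))) : G)) hk
    simpa [hγ] using this
  have hco : Nat.Coprime 3 (orderOf γ) :=
    ((by norm_num : Nat.Coprime 3 2).pow_right k).coprime_dvd_right (orderOf_dvd_of_pow_eq_one hk')
  obtain ⟨m, hm⟩ := exists_pow_eq_self_of_coprime hco
  rw [← hm]
  exact mem_cent'.2 ((d.cube_mem hγt (d.norm_W hγt hn)).pow_left m)

end Torus

end CfsgLib.J2Type
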